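import Mathlib.LinearAlgebra.Matrix.SpecialLinearGroup
import Mathlib.GroupTheory.Commutator.Finite
import Mathlib.Data.ZMod.Basic
import Mathlib.Tactic.Abel

/-!
# The order of a derived group read off from the commutators

Kept free of the Lie type files, which are expensive to check.
-/

set_option autoImplicit false
set_option maxRecDepth 100000

namespace CfsgLib.SubBlock

open scoped commutatorElement MatrixGroups

/-- commutators closed under division form the derived group -/
theorem derived_card_of_image {G : Type*} [Group G] [Fintype G] [DecidableEq G] {n : ℕ}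
    (h : ((Finset.univ ×ˢ Finset.univ).image fun ab : G × G => ⁅ab.1, ab.2⁆).card = n ∧
      ∀ a ∈ ((Finset.univ ×ˢ Finset.univ).image fun ab : G × G => ⁅ab.1, ab.2⁆),
        ∀ b ∈ ((Finset.univ ×ˢ Finset.univ).image fun ab : G × G => ⁅ab.1, ab.2⁆),
          a * b⁻¹ ∈ ((Finset.univ ×ˢ Finset.univ).image fun ab : G × G => ⁅ab.1, ab.2⁆)) :
    Nat.card ↥(commutator G) = n := by
  obtain ⟨hc, hm⟩ := h
  generalize hS : ((Finset.univ ×ˢ Finset.univ).image fun ab : G × G => ⁅ab.1, ab.2⁆) = T at hc hm
  have hT : ∀ a b : G, ⁅a, b⁆ ∈ T := fun a b => hS ▸ Finset.mem_image.2 ⟨(a, b), by simp, rfl⟩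
  have h1 : (1 : G) ∈ T := by simpa using hT 1 1
  let S : Subgroup G :=
    { carrier := T
      one_mem' := h1
      mul_mem' := fun {a b} ha hb => by
        have hb' := hm _ h1 b hb
        rw [one_mul] at hb'
        have := hm a ha _ hb'
        rwa [inv_inv] at this
      inv_mem' := fun {a} ha => by
        have := hm _ h1 a ha
        rwa [one_mul] at this }
  have e : commutator G = S := by
    refine le_antisymm ?_ fun x hx => ?_
    · rw [commutator_def, Subgroup.commutator_le]
      exact fun a _ b _ => hT a b
    · rw [← SetLike.mem_coe] at hx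
      obtain ⟨ab, -, rfl⟩ := Finset.mem_image.1 (hS.symm ▸ (show x ∈ T from hx))
      exact Subgroup.commutator_mem_commutator (Subgroup.mem_top _) (Subgroup.mem_top _)
  rw [e]
  exact (Nat.card_eq_finsetCard T).trans hc

theorem derived_card_sl_two_three : Nat.card ↥(commutator SL(2, ZMod 3)) = 8 := by
  refine derived_card_of_image ?_
  simp only [commutatorElement_def]
  decide +kernel

theorem derived_card_congr {G H : Type*} [Group G] [Group H] (e : G ≃* H) :
    Nat.card ↥(commutator G) = Nat.card ↥(commutator H) := by
  have h : (commutator G).map e.toMonoidHom = commutator H := by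
    rw [commutator_def, Subgroup.map_commutator, Subgroup.map_top_of_surjective _ e.surjective, ← commutator_def]
  rw [← h]
  exact Nat.card_congr ((commutator G).equivMapOfInjective _ e.injective).toEquiv

end CfsgLib.SubBlock
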