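import Cfsg.Agent.Lib.Lie.SLUniv.Main
import Cfsg.Agent.Lib.Char.SubBlock.DerivedCard
import Cfsg.Agent.Lib.Perm.Dickson.Minimal
import Cfsg.Agent.Lib.Coprime.Component
import Mathlib.GroupTheory.SpecificGroups.Alternating.Simple

/-!
# The quotients of blocks
-/

set_option autoImplicit false
set_option linter.unusedSectionVars false
set_option linter.style.haveILetI false
set_option maxRecDepth 100000

open Subgroup
open scoped commutatorElement MatrixGroups

namespace CfsgLib.SubBlock

/-- The isomorphism of special linear groups induced by a ring isomorphism. -/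
noncomputable def slCongr {R S : Type*} [CommRing R] [CommRing S] (e : R ≃+* S) : SL(2, R) ≃* SL(2, S) :=
  MulEquiv.ofBijective (Matrix.SpecialLinearGroup.map e.toRingHom)
    ⟨fun a b h => Subtype.ext (Matrix.map_injective e.injective (congrArg Subtype.val h)), fun b =>
      ⟨Matrix.SpecialLinearGroup.map e.symm.toRingHom b, Subtype.ext (by
        ext i j
        simp [Matrix.SpecialLinearGroup.map_apply_coe])⟩⟩

theorem map_commutator_equiv {X Y : Type*} [Group X] [Group Y] (e : X ≃* Y) :
    (commutator X).map e.toMonoidHom = commutator Y := by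
  rw [commutator_def, Subgroup.map_commutator, Subgroup.map_top_of_surjective _ e.surjective, ← commutator_def]

theorem card_comm_sl_two_two : Nat.card ↥(commutator SL(2, ZMod 2)) = 3 := by
  refine derived_card_of_image ?_
  simp only [commutatorElement_def]
  decide +kernel

theorem eight_class_zmod : ∀ g : SL(2, ZMod 3), g ^ 8 = 1 →
    (g ^ 2 = 1 ∨ g ^ 2 = -1) ∧ (g ^ 2 = 1 → g = 1 ∨ g = -1) := by decide +kernel

variable {F : Type*} [Field F] [Fintype F]

theorem card_comm_two (hF : Fintype.card F = 2) : Nat.card ↥(commutator SL(2, F)) = 3 :=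
  (derived_card_congr (slCongr (ZMod.ringEquivOfPrime F Nat.prime_two hF))).symm.trans card_comm_sl_two_two

theorem card_comm_three (hF : Fintype.card F = 3) : Nat.card ↥(commutator SL(2, F)) = 8 :=
  (derived_card_congr (slCongr (ZMod.ringEquivOfPrime F Nat.prime_three hF))).symm.trans
    derived_card_sl_two_three

theorem slCongr_neg_one {R S : Type*} [CommRing R] [CommRing S] (e : R ≃+* S) :
    slCongr e (-1 : SL(2, R)) = -1 := by
  refine Subtype.ext ?_
  show ((-1 : SL(2, R)) : Matrix (Fin 2) (Fin 2) R).map e = _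
  ext i j
  fin_cases i <;> fin_cases j <;> simp

theorem eight_class (hF : Fintype.card F = 3) {g : SL(2, F)} (hg : g ∈ commutator SL(2, F)) :
    (g ^ 2 = 1 ∨ g ^ 2 = -1) ∧ (g ^ 2 = 1 → g = 1 ∨ g = -1) := by
  set e := slCongr (ZMod.ringEquivOfPrime F Nat.prime_three hF).symm
  have h8 : g ^ 8 = 1 := by
    have h := pow_card_eq_one' (x := (⟨g, hg⟩ : ↥(commutator SL(2, F))))
    rw [card_comm_three hF] at h
    exact congrArg Subtype.val h
  obtain ⟨h1, h2⟩ := eight_class_zmod (e g) (by rw [← map_pow, h8, map_one])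
  have hn : e (-1) = -1 := slCongr_neg_one _
  rw [← map_pow] at h1 h2
  refine ⟨h1.imp (fun h => e.injective (h.trans (map_one e).symm)) fun h => e.injective (h.trans hn.symm), fun h => ?_⟩
  exact (h2 (by rw [h, map_one])).imp (fun h => e.injective (h.trans (map_one e).symm))
    fun h => e.injective (h.trans hn.symm)

theorem neg_one_ne_one (hF : Fintype.card F = 3) : (-1 : SL(2, F)) ≠ 1 := by
  intro h
  have h1 := congrArg (fun g : SL(2, F) => g.1 0 0) h
  simp at h1
  have h2 : (2 : F) = 0 := by linear_combination -h1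
  have h3 : ((3 : ℕ) : F) = 0 := by rw [← hF]; exact FiniteField.cast_card_eq_zero F
  push_cast at h3
  exact one_ne_zero (show (1 : F) = 0 by linear_combination h3 - h2)

/-- Some element of the derived group of `SL₂(3)` does not square to `1`. -/
theorem exists_sq_ne_one (hF : Fintype.card F = 3) : ∃ g ∈ commutator SL(2, F), g ^ 2 ≠ 1 := by
  classical
  by_contra! h
  have hsub : ((commutator SL(2, F) : Subgroup SL(2, F)) : Set SL(2, F)) ⊆ {1, -1} := fun g hg =>
    ((eight_class hF hg).2 (h g hg)).imp id id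
  have h1 := (Set.ncard_le_ncard hsub).trans (Set.ncard_insert_le _ _)
  rw [Set.ncard_singleton, ← Nat.card_coe_set_eq] at h1
  have h2 := card_comm_three hF
  change Nat.card ↥(commutator SL(2, F)) ≤ _ at h1
  omega

/-- `SL₂(q)` is quasisimple for `q ≥ 4`. -/
theorem quasisimple_sl2 (h4 : 4 ≤ Fintype.card F) : Cfsg.IsQuasisimple SL(2, F) :=
  ⟨⟨CfsgLib.Lie.SLUniv.sl2_commutator (by omega)⟩,
    (CfsgLib.Perm.Dickson.psl_simple_noncomm (F := F) (by rw [Nat.card_eq_fintype_card]; omega)).1⟩

/-- A non-abelian simple group is quasisimple. -/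
theorem quasisimple_of_simple {X : Type*} [Group X] [IsSimpleGroup X] (h : ∃ a b : X, a * b ≠ b * a) :
    Cfsg.IsQuasisimple X := by
  obtain ⟨a, b, hab⟩ := h
  have hc : Subgroup.center X = ⊥ := (Subgroup.Normal.eq_bot_or_eq_top inferInstance).resolve_right
    fun ht => hab (Subgroup.mem_center_iff.1 (ht ▸ Subgroup.mem_top b) a)
  refine ⟨⟨(Subgroup.Normal.eq_bot_or_eq_top inferInstance).resolve_left fun hb => hab ?_⟩, ?_⟩
  · refine commutatorElement_eq_one_iff_mul_comm.1 (mem_bot.1 (hb ▸ ?_))
    rw [commutator_def]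
    exact commutator_mem_commutator (mem_top a) (mem_top b)
  · exact ((QuotientGroup.quotientMulEquivOfEq hc).trans (QuotientGroup.quotientBot (G := X))).isSimpleGroup

theorem alternating_noncomm {m : ℕ} (hm : 2 ≤ m) :
    ∃ a b : ↥(alternatingGroup (Fin (2 * m + 1))), a * b ≠ b * a := by
  have h0 : (0 : ℕ) < 2 * m + 1 := by omega
  let i : ℕ → Fin (2 * m + 1) := fun k => ⟨k % (2 * m + 1), Nat.mod_lt _ h0⟩
  have hne : ∀ a b : ℕ, a < 5 → b < 5 → a ≠ b → i a ≠ i b := fun a b ha hb hab h => hab (by
    have := congrArg Fin.val h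
    simpa [i, Nat.mod_eq_of_lt (show a < 2 * m + 1 by omega), Nat.mod_eq_of_lt (show b < 2 * m + 1 by omega)] using this)
  let a : Equiv.Perm (Fin (2 * m + 1)) := Equiv.swap (i 0) (i 1) * Equiv.swap (i 1) (i 2)
  let b : Equiv.Perm (Fin (2 * m + 1)) := Equiv.swap (i 2) (i 3) * Equiv.swap (i 3) (i 4)
  have h2 : ∀ x y : Fin (2 * m + 1), ∀ u v : Fin (2 * m + 1), x ≠ y → u ≠ v →
      Equiv.swap x y * Equiv.swap u v ∈ alternatingGroup (Fin (2 * m + 1)) := fun x y u v hxy huv => by
    rw [Equiv.Perm.mem_alternatingGroup, map_mul, Equiv.Perm.sign_swap hxy, Equiv.Perm.sign_swap huv]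
    decide
  refine ⟨⟨a, h2 _ _ _ _ (hne 0 1 (by omega) (by omega) (by omega)) (hne 1 2 (by omega) (by omega) (by omega))⟩,
    ⟨b, h2 _ _ _ _ (hne 2 3 (by omega) (by omega) (by omega)) (hne 3 4 (by omega) (by omega) (by omega))⟩, fun h => ?_⟩
  have h1 := congrArg (fun g : ↥(alternatingGroup (Fin (2 * m + 1))) => (g : Equiv.Perm (Fin (2 * m + 1))) (i 1)) h
  simp [a, b, Equiv.swap_apply_def, hne 1 0 (by omega) (by omega) (by omega), hne 1 2 (by omega) (by omega) (by omega),
    hne 1 3 (by omega) (by omega) (by omega), hne 1 4 (by omega) (by omega) (by omega),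
    hne 2 0 (by omega) (by omega) (by omega), hne 2 1 (by omega) (by omega) (by omega),
    hne 2 3 (by omega) (by omega) (by omega), hne 2 4 (by omega) (by omega) (by omega),
    hne 3 0 (by omega) (by omega) (by omega), hne 3 1 (by omega) (by omega) (by omega),
    hne 3 2 (by omega) (by omega) (by omega), hne 3 4 (by omega) (by omega) (by omega),
    hne 0 3 (by omega) (by omega) (by omega), hne 0 4 (by omega) (by omega) (by omega),
    hne 0 2 (by omega) (by omega) (by omega)] at h1

/-- Alternating groups of degree at least five are quasisimple. -/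
theorem quasisimple_alternating {m : ℕ} (hm : 2 ≤ m) :
    Cfsg.IsQuasisimple ↥(alternatingGroup (Fin (2 * m + 1))) := by
  haveI : IsSimpleGroup ↥(alternatingGroup (Fin (2 * m + 1))) :=
    alternatingGroup.isSimpleGroup (by rw [Nat.card_eq_fintype_card, Fintype.card_fin]; omega)
  exact quasisimple_of_simple (alternating_noncomm hm)

theorem card_alternating_three : Nat.card ↥(alternatingGroup (Fin (2 * 1 + 1))) = 3 := by
  rw [Nat.card_eq_fintype_card]
  decide

theorem noncomm_zmod :
    let u : SL(2, ZMod 3) := ⟨!![1, 1; 0, 1], by decide⟩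
    let l : SL(2, ZMod 3) := ⟨!![1, 0; 1, 1], by decide⟩
    ⁅u, l⁆ * ⁅u, u * l * u⁻¹⁆ ≠ ⁅u, u * l * u⁻¹⁆ * ⁅u, l⁆ := by decide +kernel

/-- The derived group of `SL₂(q)` is not abelian for `q ≥ 3`. -/
theorem comm_noncomm (h : 3 ≤ Fintype.card F) :
    ∃ a ∈ commutator SL(2, F), ∃ b ∈ commutator SL(2, F), a * b ≠ b * a := by
  rcases h.lt_or_eq with h | h
  · rw [CfsgLib.Lie.SLUniv.sl2_commutator h]
    by_contra! hc
    exact CfsgLib.Coprime.not_isSolvable_of_isQuasisimple (quasisimple_sl2 (F := F) h)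
      (Group.isSolvable_of_comm fun a b => hc a (mem_top a) b (mem_top b))
  · set e := slCongr (ZMod.ringEquivOfPrime F Nat.prime_three h.symm)
    have hm : ∀ a b : SL(2, ZMod 3), e ⁅a, b⁆ ∈ commutator SL(2, F) := fun a b => by
      rw [map_commutatorElement, commutator_def]
      exact commutator_mem_commutator (mem_top _) (mem_top _)
    exact ⟨_, hm _ _, _, hm _ _, fun h' => noncomm_zmod (e.injective (by rwa [map_mul, map_mul]))⟩

end CfsgLib.SubBlock
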