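import Cfsg.Agent.Lib.Char.SubBlock.Lift

/-!
# The three kinds of subnormal blocks; every block has lifts
-/

set_option autoImplicit false
set_option linter.unusedSectionVars false
set_option linter.style.haveILetI false
set_option linter.unusedVariables false

open Subgroup Matrix
open scoped commutatorElement MatrixGroups

namespace CfsgLib.SubBlock

universe u
variable {G : Type u} [Group G] [Finite G] {p : ℕ} [hp : Fact p.Prime] {E : Subgroup G}

attribute [local instance] CfsgLib.Coprime.pCore_normal'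

/-- A block is symmetric of degree at least five, of type `C₃`, or linear over at least three elements. -/
theorem block_cases (T : Sylow p G) (hE : Cfsg.IsBaumannBlock p (T : Subgroup G) E) (hb : SBlock p E) :
    (p = 2 ∧ ∃ m, 2 ≤ m ∧ Cfsg.ActsAsOddPermModuleOnSection (2 * m + 1) (alternatingGroup (Fin (2 * m + 1))) E
        (wE p E) (zE p E)) ∨ IsThree p E ∨
      ∃ (F : Type) (i₁ : Field F) (i₂ : Fintype F), 3 ≤ Fintype.card F ∧ Nonempty (@SLData G _ p E F i₁ i₂) := by
  obtain ⟨θ⟩ := exists_imgEquiv (p := p) hb.sn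
  have hq := pCoreOf_eq (p := p) hb.sn
  rcases hE.2.2.2.2 with ⟨F, i₁, i₂, n, hF, hiso, hW, -⟩ | ⟨h2, m, hiso, hW, -⟩
  · rw [hq] at hW
    change Cfsg.ActsAsSL2OnSection F _ E (wE p E) (zE p E) at hW
    have h1F : 1 < Fintype.card F := Fintype.one_lt_card
    rcases Nat.lt_or_ge (Fintype.card F) 3 with hF2 | hF3
    · have hF2 : Fintype.card F = 2 := by omega
      have hn : n ≠ 0 := fun h => by rw [h, pow_zero] at hF; omega
      refine Or.inr (Or.inl ⟨(Nat.prime_dvd_prime_iff_eq hp.out Nat.prime_two).1 (hF2 ▸ hF ▸ dvd_pow_self p hn), ?_⟩)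
      exact (hiso.elim fun φ => Nat.card_congr (θ.trans φ).toEquiv).trans (card_comm_two hF2)
    · exact Or.inr (Or.inr ⟨F, i₁, i₂, hF3, exists_slData hb hF hiso hW⟩)
  · rw [hq] at hW
    change Cfsg.ActsAsOddPermModuleOnSection _ _ E (wE p E) (zE p E) at hW
    obtain ⟨φ⟩ := hiso
    obtain rfl | rfl | hm : m = 0 ∨ m = 1 ∨ 2 ≤ m := by omega
    · exfalso
      refine hb.not_le_core fun e he => ?_
      haveI : Subsingleton ↥(alternatingGroup (Fin (2 * 0 + 1))) :=
        ⟨fun a b => Subtype.ext (Equiv.ext fun i => Fin.ext (by omega))⟩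
      haveI : Subsingleton ↥(img p E) := (θ.trans φ).toEquiv.subsingleton
      exact (QuotientGroup.eq_one_iff e).1 (congrArg Subtype.val
        (Subsingleton.elim (⟨_, mem_map_of_mem _ he⟩ : ↥(img p E)) 1))
    · exact Or.inr (Or.inl ⟨h2, (Nat.card_congr (θ.trans φ).toEquiv).trans card_alternating_three⟩)
    · exact Or.inl ⟨h2, m, hm, hW⟩

namespace SBlock

theorem card_wE_of_split (hb : SBlock p E) (hs : vE p E ⊓ zE p E = ⊥) :
    Nat.card ↥(wE p E) = Nat.card ↥(vE p E) * Nat.card ↥(zE p E) := by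
  have h := CfsgLib.EABasic.card_sup_mul_card_inf_of_le_normalizer (H := zE p E) (N := vE p E)
    (fun z hz => vE_norm (le_normalizer (wE_le_E E (zE_le E hz))))
  rw [sup_comm, hb.vz, inf_comm, hs, card_bot, mul_one] at h
  rw [h, mul_comm]

end SBlock

theorem card_perm_gt {m : ℕ} (hm : 1 ≤ m) (hb : SBlock p E)
    (hW : Cfsg.ActsAsOddPermModuleOnSection (2 * m + 1) (alternatingGroup (Fin (2 * m + 1))) E (wE p E) (zE p E)) :
    2 * Nat.card ↥(zE p E) < Nat.card ↥(wE p E) := by
  obtain ⟨-, -, -, ψ, -, -, hsur, hker, -⟩ := hW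
  rw [card_eq_card_quotient_mul_card_subgroup ((zE p E).subgroupOf (wE p E)),
    Nat.card_congr (subgroupOfEquivOfLe (zE_le E)).toEquiv]
  refine Nat.mul_lt_mul_of_pos_right ?_ Nat.card_pos
  let e : Fin 3 → Fin (2 * m + 1) := fun i => ⟨i, by omega⟩
  let v : Fin 3 → (Fin (2 * m + 1) → ZMod 2) := fun i => Pi.single (e 0) 1 + Pi.single (e i) 1
  have hv : ∀ i, ∃ u : ↥(wE p E), Multiplicative.toAdd (ψ u) = v i := fun i => hsur _ (by
    simp [v, Finset.sum_add_distrib, CharTwo.add_self_eq_zero])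
  choose u hu using hv
  calc 2 < Nat.card (Fin 3) := by simp
    _ ≤ _ := Nat.card_le_card_of_injective (fun i => (u i : ↥(wE p E) ⧸ (zE p E).subgroupOf (wE p E))) fun i j h => by
        rw [QuotientGroup.eq, mem_subgroupOf, ← hker, map_mul, map_inv, inv_mul_eq_one] at h
        have h' := congrArg Multiplicative.toAdd h
        rw [hu, hu] at h'
        have h'' := add_left_cancel h'
        by_contra hij
        have h3 := congrFun h'' (e i)
        simp [e, Fin.val_ne_of_ne hij] at h3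

namespace SLData

variable {F : Type} [Field F] [Fintype F]

theorem prime_dvd_card (d : SLData p E F) : p ∣ Fintype.card F := by
  obtain ⟨n, hn, hF⟩ := d.card_eq
  exact hF ▸ dvd_pow_self p hn

theorem four_of_two (d : SLData p E F) (h3 : 3 ≤ Fintype.card F) (h2 : p = 2) : 4 ≤ Fintype.card F := by
  have := d.prime_dvd_card
  rw [h2] at this
  omega

/-- A `p`-group normalising `E` fixes a non-zero vector. -/
theorem exists_fixed_vec (hb : SBlock p E) (d : SLData p E F) {P : Subgroup G} (hP : IsPGroup p ↥P)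
    (hPN : P ≤ normalizer (E : Set G)) :
    ∃ v : Fin 2 → F, v ≠ 0 ∧ ∀ x (hx : x ∈ P), d.phi hb (hPN hx) v = v := by
  letI : MulAction ↥P (Fin 2 → F) :=
    { smul := fun x v => d.phi hb (hPN x.2) v
      one_smul := fun v => d.phi_one hb v
      mul_smul := fun x y v => d.phi_mul hb (hPN x.2) (hPN y.2) v }
  have hdvd : p ∣ Nat.card (Fin 2 → F) := by
    rw [Nat.card_fun, Nat.card_eq_fintype_card]
    exact d.prime_dvd_card.trans (dvd_pow_self _ (by simp))
  obtain ⟨v, hv, hne⟩ := hP.exists_fixed_point_of_prime_dvd_card_of_fixed_point (Fin 2 → F) hdvd (a := 0)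
    fun x => map_zero (d.phi hb (hPN x.2))
  exact ⟨v, hne.symm, fun x hx => hv ⟨x, hx⟩⟩

/-- Fixed vectors lift to fixed elements of `[W, E]`. -/
theorem fixed_lift (hG : centralizer (Cfsg.pCore p G : Set G) ≤ Cfsg.pCore p G) (hb : SBlock p E)
    (T : Sylow p G) (hE : Cfsg.IsBaumannBlock p (T : Subgroup G) E) (d : SLData p E F) (h3 : 3 ≤ Fintype.card F)
    {P : Subgroup G} (hPN : P ≤ normalizer (E : Set G)) {v : Fin 2 → F} (hv : v ≠ 0)
    (hfix : ∀ x (hx : x ∈ P) (c : F), d.phi hb (hPN hx) (c • v) = c • v) (c : F) :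
    ∃ a ∈ vE p E, d.R.pr a = c • v ∧ ∀ x ∈ P, x * a = a * x := by
  obtain ⟨L, hLV, hPL, hLz, hLc⟩ : ∃ L : Subgroup G, L ≤ vE p E ∧ P ≤ normalizer (L : Set G) ∧ L ⊓ zE p E = ⊥ ∧
      ∀ c : F, ∃ a ∈ L, d.R.pr a = c • v := by
    by_cases h2 : p = 2
    · exact lift_line hG hb T hE d h2 (d.four_of_two h3 h2) hPN hv fun x hx => by
        simpa using hfix x hx 1
    · refine ⟨vE p E, le_rfl, fun x hx => vE_norm (hPN hx), split_odd hb d h2, fun c => ?_⟩
      obtain ⟨w, hw, hwv⟩ := d.R.pr_surj (c • v)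
      obtain ⟨a, ha, z, hz, rfl⟩ := CfsgLib.Coprime.mem_sup_exists
        (fun z hz => vE_norm (le_normalizer (wE_le_E E (zE_le E hz)))) (hb.vz.ge hw)
      refine ⟨a, ha, ?_⟩
      rwa [d.R.pr_mul a (vE_le E ha) z (zE_le E hz), (d.R.pr_eq_zero z (zE_le E hz)).2 hz, add_zero] at hwv
  obtain ⟨a, ha, hac⟩ := hLc c
  refine ⟨a, hLV ha, hac, fun x hx => mul_inv_eq_iff_eq_mul.1 ?_⟩
  have hb' : x * a * x⁻¹ ∈ L := (mem_normalizer_iff.1 (hPL hx) a).1 ha
  have h1 : x * a * x⁻¹ * a⁻¹ ∈ L ⊓ zE p E := mem_inf.2 ⟨mul_mem hb' (inv_mem ha),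
    (d.R.pr_eq_iff (vE_le E (hLV hb')) (vE_le E (hLV ha))).1 (by
      rw [d.phi_pr hb (hPN hx) (vE_le E (hLV ha)), hac, hfix x hx c])⟩
  rw [hLz, mem_bot, mul_inv_eq_one] at h1
  exact h1

end SLData

/-- Every subnormal block has lifts. -/
theorem hasLift_of_block (hG : centralizer (Cfsg.pCore p G : Set G) ≤ Cfsg.pCore p G) (T : Sylow p G)
    (hE : Cfsg.IsBaumannBlock p (T : Subgroup G) E) (hb : SBlock p E) : HasLift p E := by
  rcases block_cases T hE hb with ⟨h2, m, hm, hW⟩ | h3 | ⟨F, i₁, i₂, hF, ⟨d⟩⟩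
  · exact hasLift_of_split hb (perm_split hm hb h2 hW) (by
      have := card_perm_gt (by omega) hb hW
      subst h2; exact this)
  · obtain ⟨hc, hs⟩ := hb.vE_data (Or.inl h3)
    refine hasLift_of_split hb hs ?_
    rw [hb.card_wE_of_split hs, hc]
    exact Nat.mul_lt_mul_of_pos_right (by rw [pow_two]; exact lt_mul_self hp.out.one_lt) Nat.card_pos
  · by_cases h2 : p = 2
    · intro P hP hPN
      obtain ⟨v, hv, hfix⟩ := d.exists_fixed_vec hb hP hPN
      obtain ⟨L, hLV, hPL, hLz, hLc⟩ := SLData.lift_line hG hb T hE d h2 (d.four_of_two hF h2) hPN hv hfix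
      refine ⟨L, hLV, hPL, hLz, lt_of_lt_of_le (by omega : p < Fintype.card F) ?_⟩
      choose a ha hac using hLc
      rw [← Nat.card_eq_fintype_card]
      exact Nat.card_le_card_of_injective (fun c => (⟨a c, ha c⟩ : ↥L)) fun c c' h =>
        smul_left_injective F hv (by
          show c • v = c' • v
          rw [← hac c, ← hac c']
          exact congrArg d.R.pr (congrArg Subtype.val h))
    · exact hasLift_of_split hb (SLData.split_odd hb d h2) (SLData.card_gt hb d)

end CfsgLib.SubBlock
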