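import Cfsg.Agent.Lib.Char.SubBlock.Orbit
import Cfsg.Agent.Lib.Fusion.StableClosureBasic
import Cfsg.Agent.Lib.LocalStructure.Basic

/-!
# A subnormal block is a block for every Sylow subgroup
-/

set_option autoImplicit false
set_option linter.unusedSectionVars false
set_option linter.style.haveILetI false

open Subgroup
open scoped commutatorElement

namespace CfsgLib.SubBlock

universe u
variable {G : Type u} [Group G] [Finite G] {p : ℕ} [hp : Fact p.Prime]

attribute [local instance] CfsgLib.Coprime.pCore_normal'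

theorem map_centralizer_cjS (g : G) (X : Subgroup G) :
    cjS g (centralizer (X : Set G)) = centralizer (cjS g X : Set G) := by
  ext y
  rw [mem_cjS, mem_centralizer_iff, mem_centralizer_iff]
  constructor
  · intro h z hz
    have h1 := h _ (mem_cjS.1 hz)
    calc z * y = g * ((g⁻¹ * z * g) * (g⁻¹ * y * g)) * g⁻¹ := by group
      _ = g * ((g⁻¹ * y * g) * (g⁻¹ * z * g)) * g⁻¹ := by rw [h1]
      _ = y * z := by group
  · intro h z hz
    have h1 := h _ (conj_mem_cjS (g := g) hz)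
    calc z * (g⁻¹ * y * g) = g⁻¹ * (g * z * g⁻¹ * y) * g := by group
      _ = g⁻¹ * (y * (g * z * g⁻¹)) * g := by rw [h1]
      _ = g⁻¹ * y * g * z := by group

theorem baumann_cjS (g : G) (P : Subgroup G) :
    cjS g (Cfsg.baumannSubgroupOf p P) = Cfsg.baumannSubgroupOf p (cjS g P) := by
  have hi := (MulAut.conj g).injective
  rw [Cfsg.baumannSubgroupOf, Cfsg.baumannSubgroupOf, cjS, map_inf _ _ _ hi]
  refine congrArg₂ _ rfl ?_
  show cjS g (centralizer _) = _
  rw [map_centralizer_cjS, Cfsg.centerThompsonOf, Cfsg.centerThompsonOf, cjS,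
    CfsgLib.Fusion.omega_map_eq _ hi, CfsgLib.Fusion.inf_centralizer_map_eq _ hi,
    CfsgLib.Fusion.map_thompsonSubgroupOf (MulAut.conj g).toMonoidHom (fun x _ hx => hi (hx.trans (map_one _).symm))]
  rfl

theorem baumann_le (T : Sylow p G) :
    Cfsg.baumannSubgroupOf p (T : Subgroup G) ≤ Cfsg.baumannSubgroup p G :=
  le_iSup (fun T : Sylow p G => Cfsg.baumannSubgroupOf p (T : Subgroup G)) T

theorem baumannSubgroup_normal : (Cfsg.baumannSubgroup p G).Normal := by
  have key : ∀ g : G, cjS g (Cfsg.baumannSubgroup p G) ≤ Cfsg.baumannSubgroup p G := fun g => by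
    rw [Cfsg.baumannSubgroup, cjS, Subgroup.map_iSup]
    refine iSup_le fun T => ?_
    refine le_trans (le_of_eq ?_) (le_iSup _ (g • T))
    show cjS g _ = _
    rw [baumann_cjS]
    exact congrArg _ Sylow.coe_subgroup_smul.symm
  exact ⟨fun x hx g => key g (conj_mem_cjS hx)⟩

/-- The Baumann subgroups are conjugate under `B(G)`. -/
theorem baumann_conj (T T' : Sylow p G) : ∃ x ∈ Cfsg.baumannSubgroup p G,
    Cfsg.baumannSubgroupOf p (T' : Subgroup G) = cjS x (Cfsg.baumannSubgroupOf p (T : Subgroup G)) := by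
  obtain ⟨N, hN⟩ : ∃ N, N = Cfsg.baumannSubgroup p G := ⟨_, rfl⟩
  haveI hNn : N.Normal := hN ▸ baumannSubgroup_normal
  obtain ⟨R, hR⟩ := CfsgLib.LS.sylow_inf_normal T N
  obtain ⟨g, hg⟩ := MulAction.exists_smul_eq G T T'
  obtain ⟨S, hS⟩ : ∃ S, S = (R : Subgroup N).map N.subtype := ⟨_, rfl⟩
  have hgtop : g ∈ N ⊔ normalizer (S : Set G) := by
    rw [sup_comm, hS, Sylow.normalizer_sup_eq_top R]
    exact mem_top g
  obtain ⟨x, hx, n, hn, rfl⟩ := CfsgLib.Coprime.mem_sup_exists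
    (show normalizer (S : Set G) ≤ normalizer (N : Set G) by rw [normalizer_eq_top_iff.2 hNn]; exact le_top) hgtop
  refine ⟨x, hN ▸ hx, ?_⟩
  have hSR : S = (T : Subgroup G) ⊓ N := hS.trans hR
  obtain ⟨J, hJ⟩ : ∃ J, J = Cfsg.thompsonSubgroupOf p (T : Subgroup G) := ⟨_, rfl⟩
  have hBS : Cfsg.baumannSubgroupOf p (T : Subgroup G) ≤ S := hSR ▸ le_inf inf_le_left (hN ▸ baumann_le T)
  have hJS : J ≤ S := hJ ▸ (CfsgLib.BaumannNormal.thompson_le_baumann _).trans hBS
  have hSp : IsPGroup p ↥S := hSR ▸ T.2.to_le inf_le_left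
  obtain ⟨-, -, hJJ, -⟩ := CfsgLib.BaumannNormal.thompson_eq_and_normalizer T hSp (hJ ▸ hJS)
  have hnJ : n ∈ normalizer (J : Set G) := by
    rw [hJ, ← hJJ]
    exact CfsgLib.Fusion.normalizer_le_normalizer_thompsonSubgroupOf S hn
  have hnZ := CfsgLib.BaumannNormal.omegaOne_centerThompson_normalizer (p := p) (T : Subgroup G) (hJ ▸ hnJ)
  have hBeq : Cfsg.baumannSubgroupOf p (T : Subgroup G) =
      S ⊓ centralizer (Cfsg.omegaOne p (Cfsg.centerThompsonOf p (T : Subgroup G)) : Set G) :=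
    le_antisymm (le_inf hBS inf_le_right) (inf_le_inf_right _ (hSR.le.trans inf_le_left))
  have hnB : cjS n (Cfsg.baumannSubgroupOf p (T : Subgroup G)) = Cfsg.baumannSubgroupOf p (T : Subgroup G) := by
    refine CfsgLib.Fusion.conjBy_eq_iff.2 ?_
    rw [hBeq]
    exact CfsgLib.Coprime.inf_le_normalizer (A := zpowers n) (zpowers_le.2 hn)
      (zpowers_le.2 (CfsgLib.Coprime.normalizer_le_normalizer_centralizer _ hnZ)) (mem_zpowers n)
  rw [← hg]
  conv_rhs => rw [← hnB]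
  rw [show cjS x (cjS n (Cfsg.baumannSubgroupOf p (T : Subgroup G))) =
    cjS (x * n) (Cfsg.baumannSubgroupOf p (T : Subgroup G)) by ext y; simp [mem_cjS, mul_assoc], baumann_cjS]
  exact congrArg _ (Sylow.coe_subgroup_smul)

/-- A subnormal block is a block for every Sylow subgroup. -/
theorem isBaumannBlock_all (hG : centralizer (Cfsg.pCore p G : Set G) ≤ Cfsg.pCore p G) {E : Subgroup G}
    (T : Sylow p G) (hE : Cfsg.IsBaumannBlock p (T : Subgroup G) E) (hb : SBlock p E) (hlift : HasLift p E)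
    (T' : Sylow p G) : Cfsg.IsBaumannBlock p (T' : Subgroup G) E := by
  classical
  have hBG : Cfsg.baumannSubgroup p G ≤ normalizer (E : Set G) :=
    iSup_le fun T => hb.baumann_le_normalizer hG hlift T
  obtain ⟨x, hx, hB⟩ := baumann_conj T T'
  have hxE : x ∈ normalizer (E : Set G) := hBG hx
  have hEx : cjS x E = E := CfsgLib.Fusion.conjBy_eq_iff.2 hxE
  obtain ⟨hres, hEB, hQ, -, hmod⟩ := hE
  refine ⟨hres, ?_, hQ, ?_, ?_⟩
  · rw [hB]
    conv_lhs => rw [← hEx]
    rw [cjS, cjS, ← map_commutator, hEB]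
    exact hEx
  · intro hbot
    obtain ⟨R, hR⟩ : ∃ R, R = (T' : Subgroup G) ⊓ normalizer (E : Set G) := ⟨_, rfl⟩
    have hRp : IsPGroup p ↥R := hR ▸ T'.2.to_le inf_le_left
    obtain ⟨L, hL, hRL, hLz, hLc⟩ := hlift R hRp (hR ▸ inf_le_right)
    have hLne : L ≠ ⊥ := fun h => by rw [h, card_bot] at hLc; exact absurd hLc (not_lt.2 hp.out.one_lt.le)
    obtain ⟨v, hv, hvo, hvR⟩ := CfsgLib.Invol.exists_fixed_of_normalized hRp
      ((CfsgLib.Coprime.pCore_isPGroup p).to_le (hL.trans (hb.vV.trans vG_le))) hLne hRL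
    haveI := Fintype.ofFinite (↥(T' : Subgroup G) ⧸ R.subgroupOf (T' : Subgroup G))
    let r : ↥(T' : Subgroup G) ⧸ R.subgroupOf (T' : Subgroup G) → G := fun q => ((q.out : ↥(T' : Subgroup G)) : G)
    let iV : CommGroup ↥(vG G p) :=
      { (inferInstance : Group ↥(vG G p)) with
        mul_comm := fun a b => Subtype.ext (vG_comm b.2 (vG_le a.2)) }
    have hrV : ∀ q, r q * v * (r q)⁻¹ ∈ vG G p := fun q => vG_conj _ (hb.vV (hL hv))
    obtain ⟨w, hw⟩ : ∃ w : ↥(vG G p), w = ∏ q, (⟨r q * v * (r q)⁻¹, hrV q⟩ : ↥(vG G p)) := ⟨_, rfl⟩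
    have hfix : ∀ g ∈ R, g * v * g⁻¹ = v := fun g hg =>
      mul_inv_eq_iff_eq_mul.2 (mem_centralizer_singleton_iff.1 (hvR hg))
    -- `w` is fixed by `T'`
    have hwT : (w : G) ∈ centralizer ((T' : Subgroup G) : Set G) := by
      refine mem_centralizer_iff.2 fun t ht => mul_inv_eq_iff_eq_mul.1 ?_
      let cj : ↥(vG G p) →* ↥(vG G p) := MonoidHom.mk' (fun a => ⟨t * a * t⁻¹, vG_conj t a.2⟩) fun a b =>
        Subtype.ext (by show t * ((a : G) * b) * t⁻¹ = t * a * t⁻¹ * (t * b * t⁻¹); group)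
      have hperm : ∀ q, (cj ⟨r q * v * (r q)⁻¹, hrV q⟩ : ↥(vG G p)) =
          ⟨r ((⟨t, ht⟩ : ↥(T' : Subgroup G)) • q) * v * (r ((⟨t, ht⟩ : ↥(T' : Subgroup G)) • q))⁻¹, hrV _⟩ := by
        intro q
        refine Subtype.ext ?_
        have hmem : (r ((⟨t, ht⟩ : ↥(T' : Subgroup G)) • q))⁻¹ * (t * r q) ∈ R := by
          refine mem_subgroupOf.1 (?_ : (((⟨t, ht⟩ : ↥(T' : Subgroup G)) • q).out)⁻¹ * (⟨t, ht⟩ * q.out) ∈
            R.subgroupOf (T' : Subgroup G))
          rw [← QuotientGroup.eq, QuotientGroup.out_eq', ← smul_eq_mul, ← MulAction.Quotient.smul_mk,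
            QuotientGroup.out_eq']
        have h := hfix _ hmem
        show t * (r q * v * (r q)⁻¹) * t⁻¹ = _
        calc t * (r q * v * (r q)⁻¹) * t⁻¹ = r ((⟨t, ht⟩ : ↥(T' : Subgroup G)) • q) *
              ((r ((⟨t, ht⟩ : ↥(T' : Subgroup G)) • q))⁻¹ * (t * r q) * v *
                ((r ((⟨t, ht⟩ : ↥(T' : Subgroup G)) • q))⁻¹ * (t * r q))⁻¹) *
              (r ((⟨t, ht⟩ : ↥(T' : Subgroup G)) • q))⁻¹ := by group
          _ = _ := by rw [h]
      have h := congrArg cj hw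
      rw [map_prod, Fintype.prod_congr _ _ hperm] at h
      exact congrArg Subtype.val ((h.trans (Equiv.prod_comp (MulAction.toPerm (⟨t, ht⟩ : ↥(T' : Subgroup G)))
          (fun q => (⟨r q * v * (r q)⁻¹, hrV q⟩ : ↥(vG G p))))).trans hw.symm)
    have hwZ : (w : G) ∈ Cfsg.omegaOneCenter p (T' : Subgroup G) :=
      subset_closure ⟨⟨CfsgLib.Coprime.pCore_le_sylow T' (vG_le w.2), hwT⟩, vG_pow w.2⟩
    have hEw := commutator_eq_bot_iff_le_centralizer.1 hbot
    -- the component at the base coset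
    obtain ⟨q₀, hq₀⟩ : ∃ q₀, q₀ = ((1 : ↥(T' : Subgroup G)) : ↥(T' : Subgroup G) ⧸ R.subgroupOf (T' : Subgroup G)) :=
      ⟨_, rfl⟩
    have hr0 : r q₀ ∈ R := by
      have h : (1 : ↥(T' : Subgroup G))⁻¹ * q₀.out ∈ R.subgroupOf (T' : Subgroup G) := by
        rw [← QuotientGroup.eq, QuotientGroup.out_eq', hq₀]
      rw [inv_one, one_mul] at h
      exact mem_subgroupOf.1 h
    have hne : ∀ q, q ≠ q₀ → r q ∉ normalizer (E : Set G) := fun q hq hn => hq (by
      rw [← QuotientGroup.out_eq' q, hq₀, QuotientGroup.eq, mul_one]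
      exact mem_subgroupOf.2 (hR.ge (mem_inf.2 ⟨inv_mem (q.out).2, inv_mem hn⟩)))
    have hvz : v ∈ L ⊓ zE p E := mem_inf.2 ⟨hv, vE_le E (hL hv), mem_centralizer_iff.2 fun e he => by
      obtain ⟨rest, hrest⟩ : ∃ rest : ↥(vG G p), rest = ∏ q ∈ Finset.univ.erase q₀,
          (⟨r q * v * (r q)⁻¹, hrV q⟩ : ↥(vG G p)) := ⟨_, rfl⟩
      have hwr : (w : G) = v * rest := by
        have h := Finset.mul_prod_erase Finset.univ
          (fun q => (⟨r q * v * (r q)⁻¹, hrV q⟩ : ↥(vG G p))) (Finset.mem_univ q₀)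
        rw [← hrest, ← hw] at h
        rw [← congrArg Subtype.val h]
        show r q₀ * v * (r q₀)⁻¹ * (rest : G) = _
        rw [hfix _ hr0]
      let K : Subgroup ↥(vG G p) := (centralizer ({e} : Set G)).comap (vG G p).subtype
      have hK : rest ∈ K := by
        rw [hrest]
        refine Subgroup.prod_mem _ fun q hq => mem_centralizer_singleton_iff.2 ?_
        exact (vE_central_cjS hG hb (hne q (Finset.ne_of_mem_erase hq)) (hL hv) he).symm
      have h1 : e * (rest : G) = rest * e :=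
        (mem_centralizer_singleton_iff.1 (show (rest : G) ∈ centralizer ({e} : Set G) from hK)).symm
      have h2 : e * (w : G) = w * e := (mem_centralizer_iff.1 (hEw he) _ hwZ).symm
      rw [hwr, ← mul_assoc, mul_assoc v, ← h1, ← mul_assoc] at h2
      exact mul_right_cancel h2⟩
    rw [hLz, mem_bot] at hvz
    rw [hvz, orderOf_one] at hvo
    exact hp.out.one_lt.ne hvo
  · refine hmod.imp_left fun ⟨F, i₁, i₂, n, h1, h2, h3, h4⟩ => ⟨F, i₁, i₂, n, h1, h2, h3, h4.imp_right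
      fun ⟨a1, a2, a3, a4, a5, a6, a7⟩ => ⟨a1, a2, a3, a4, a5, a6, fun b hb' hbW hquad => ?_⟩⟩
    rw [hB] at hb'
    obtain ⟨b₀, hb₀, rfl⟩ := hb'
    simp only [MulEquiv.toMonoidHom_eq_coe, MonoidHom.coe_coe, MulAut.conj_apply] at hbW hquad
    have hxQ := CfsgLib.JComp.normalizer_le_normalizer_pCoreOf (p := p) E hxE
    have hxC : cjS x (E ⊓ centralizer (E : Set G)) = E ⊓ centralizer (E : Set G) := by
      rw [cjS, map_inf _ _ _ (MulAut.conj x).injective]
      show cjS x E ⊓ cjS x (centralizer (E : Set G)) = _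
      rw [map_centralizer_cjS, hEx]
    have hxW : cjS x (Cfsg.omegaOneCenter p (Cfsg.pCoreOf p E)) = Cfsg.omegaOneCenter p (Cfsg.pCoreOf p E) := by
      rw [cjS, Cfsg.omegaOneCenter, CfsgLib.LS.map_omegaOne_center (MulAut.conj x).injective]
      show Cfsg.omegaOneCenter p (cjS x (Cfsg.pCoreOf p E)) = _
      rw [show cjS x (Cfsg.pCoreOf p E) = Cfsg.pCoreOf p E from CfsgLib.Fusion.conjBy_eq_iff.2 hxQ]
      rfl
    refine a7 b₀ hb₀ (fun hc => hbW ?_) ?_
    · rw [← hxW, ← map_centralizer_cjS]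
      exact conj_mem_cjS hc
    · have hz : zpowers (x * b₀ * x⁻¹) = cjS x (zpowers b₀) :=
        (MonoidHom.map_zpowers (MulAut.conj x).toMonoidHom b₀).symm
      rw [hz, ← hxC, ← (CfsgLib.Fusion.conjBy_eq_iff.2 hxQ : cjS x (Cfsg.pCoreOf p E) = Cfsg.pCoreOf p E),
        ] at hquad
      simp only [cjS, ← map_commutator] at hquad
      exact cjS_le_iff.1 hquad

end CfsgLib.SubBlock
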