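import Cfsg.Agent.Lib.Char.SubBlock.Inside
import Cfsg.Agent.Lib.Char.SubBlock.Transport
import Cfsg.Agent.Lib.Char.SubBlock.Block

/-!
# Subnormal blocks in groups of characteristic `p`
-/

set_option autoImplicit false
set_option linter.unusedSectionVars false

open Subgroup
open scoped commutatorElement

namespace CfsgLib.SubBlock

universe u
variable {G : Type u} [Group G] [Finite G] {p : ℕ} [hp : Fact p.Prime]

theorem block_le_baumann {T : Sylow p G} {X : Subgroup G} (hX : Cfsg.IsBaumannBlock p (T : Subgroup G) X) :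
    X ≤ Cfsg.baumannSubgroup p G := by
  haveI := baumannSubgroup_normal (G := G) (p := p)
  rw [← hX.2.1]
  exact (commutator_mono le_rfl (show Cfsg.baumannSubgroupOf p (T : Subgroup G) ≤ Cfsg.baumannSubgroup p G from
    le_iSup (fun T : Sylow p G => Cfsg.baumannSubgroupOf p (T : Subgroup G)) T)).trans (commutator_le_right _ _)

/-- A subnormal block is normalised by the Baumann subgroup, is a block for every Sylow subgroup and commutes with the
blocks it does not contain. -/
theorem subnormal_block (hG : centralizer (Cfsg.pCore p G : Set G) ≤ Cfsg.pCore p G) {E : Subgroup G}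
    (T : Sylow p G) (hE : Cfsg.IsBaumannBlock p (T : Subgroup G) E) (hEs : E.IsSubnormal) :
    E ≤ Cfsg.baumannSubgroup p G ∧ Cfsg.baumannSubgroup p G ≤ normalizer (E : Set G) ∧
      (∀ T' : Sylow p G, Cfsg.IsBaumannBlock p (T' : Subgroup G) E) ∧
      ∀ F : Subgroup G, (∃ T' : Sylow p G, Cfsg.IsBaumannBlock p (T' : Subgroup G) F) → F ≤ E ∨ ⁅F, E⁆ = ⊥ := by
  have hb := sblock_of_block hG T hE hEs
  have hlift := hasLift_of_block hG T hE hb
  have hBN : Cfsg.baumannSubgroup p G ≤ normalizer (E : Set G) :=
    iSup_le fun T => hb.baumann_le_normalizer hG hlift T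
  refine ⟨block_le_baumann hE, hBN, fun T' => isBaumannBlock_all hG T hE hb hlift T', ?_⟩
  rintro F ⟨T', hF⟩
  have hE' := isBaumannBlock_all hG T hE hb hlift T'
  have hFN := (block_le_baumann hF).trans hBN
  by_cases hc : F ≤ centralizer (vE p E : Set G)
  · exact Or.inr (hb.commute_of_cent T' hF hFN hc)
  · exact Or.inl (hb.le_of_moving hG T' hE' hF (hb.baumann_le_normalizer hG hlift T') hFN hc)

end CfsgLib.SubBlock
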