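import Mathlib

/-!
# Action of normalising elements on an abelian section

For `A₀ ≤ A` with `[A, A] ≤ A₀`, the elements normalising both act on the abelian group `A / A₀`. If a subgroup
acts irreducibly, the endomorphisms commuting with it form a finite field.
-/

set_option autoImplicit false
set_option linter.unusedSectionVars false

open Subgroup
open scoped commutatorElement

namespace CfsgLib.SubBlock

universe u
variable {G : Type u} [Group G]

/-- `x` acts trivially on `A / A₀`. -/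
def Triv (A A₀ : Subgroup G) (x : G) : Prop := ∀ a ∈ A, ⁅x, a⁆ ∈ A₀

/-- The elements acting on the section. -/
def secN (A A₀ : Subgroup G) : Subgroup G := normalizer (A : Set G) ⊓ normalizer (A₀ : Set G)

/-- An abelian section. -/
structure IsAbSec (A A₀ : Subgroup G) : Prop where
  le : A₀ ≤ A
  comm : ⁅A, A⁆ ≤ A₀

/-- An abelian section with irreducible action of `E`. -/
structure IsIrrSec (E A A₀ : Subgroup G) : Prop extends IsAbSec A A₀ where
  nE : E ≤ secN A A₀
  irr : ∀ M : Subgroup G, M ≤ A → A₀ ≤ M → E ≤ normalizer (M : Set G) → M = A₀ ∨ M = A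

/-- The section as an additive group with the action of the normalising elements. -/
structure SecRep (A A₀ : Subgroup G) (M : Type*) [AddCommGroup M] where
  pr : G → M
  act : ↥(secN A A₀) →* AddMonoid.End M
  pr_mul : ∀ a ∈ A, ∀ b ∈ A, pr (a * b) = pr a + pr b
  pr_surj : ∀ m : M, ∃ a ∈ A, pr a = m
  pr_eq_zero : ∀ a ∈ A, (pr a = 0 ↔ a ∈ A₀)
  pr_act : ∀ (x : ↥(secN A A₀)), ∀ a ∈ A, pr ((x : G) * a * (x : G)⁻¹) = act x (pr a)

theorem conj_mem_of_secN {A A₀ : Subgroup G} {x a : G} (hx : x ∈ secN A A₀) (ha : a ∈ A) :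
    x * a * x⁻¹ ∈ A :=
  (mem_normalizer_iff.1 hx.1 a).1 ha

theorem exists_secRep {A A₀ : Subgroup G} (h : IsAbSec A A₀) :
    ∃ (M : Type u) (i : AddCommGroup M), Nonempty (@SecRep G _ A A₀ M i) := by
  classical
  haveI hn : (A₀.subgroupOf A).Normal := ⟨fun a ha g => by
    rw [mem_subgroupOf] at ha ⊢
    have h1 : ⁅(g : G), (a : G)⁆ ∈ A₀ := h.comm (commutator_mem_commutator g.2 (h.le ha))
    have := mul_mem h1 ha
    simpa [commutatorElement_def, mul_assoc] using this⟩
  let q : ↥A →* ↥A ⧸ A₀.subgroupOf A := QuotientGroup.mk' _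
  letI iQ : CommGroup (↥A ⧸ A₀.subgroupOf A) :=
    { (inferInstance : Group (↥A ⧸ A₀.subgroupOf A)) with
      mul_comm := fun a b => by
        obtain ⟨a, rfl⟩ := QuotientGroup.mk'_surjective _ a
        obtain ⟨b, rfl⟩ := QuotientGroup.mk'_surjective _ b
        rw [← map_mul, ← map_mul, QuotientGroup.mk'_apply, QuotientGroup.mk'_apply, QuotientGroup.eq,
          mem_subgroupOf]
        have := h.comm (commutator_mem_commutator (inv_mem b.2) (inv_mem a.2))
        simpa [commutatorElement_def, mul_assoc] using this }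
  let pr : G → Additive (↥A ⧸ A₀.subgroupOf A) := fun a =>
    if ha : a ∈ A then Additive.ofMul (q ⟨a, ha⟩) else 0
  have hpr : ∀ a (ha : a ∈ A), pr a = Additive.ofMul (q ⟨a, ha⟩) := fun a ha => dif_pos ha
  let c : ↥(secN A A₀) → (↥A →* ↥A) := fun x => MonoidHom.mk'
    (fun a => (⟨(x : G) * a * (x : G)⁻¹, conj_mem_of_secN x.2 a.2⟩ : ↥A))
    (fun a b => Subtype.ext (by simp [mul_assoc]))
  have hc : ∀ x, A₀.subgroupOf A ≤ (A₀.subgroupOf A).comap (c x) := fun x a ha =>
    (mem_normalizer_iff.1 x.2.2 _).1 ha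
  let act : ↥(secN A A₀) → AddMonoid.End (Additive (↥A ⧸ A₀.subgroupOf A)) := fun x =>
    MonoidHom.toAdditive (QuotientGroup.map _ _ (c x) (hc x))
  have hact : ∀ (x : ↥(secN A A₀)) (a : ↥A), act x (Additive.ofMul (q a)) = Additive.ofMul (q (c x a)) :=
    fun _ _ => rfl
  refine ⟨Additive (↥A ⧸ A₀.subgroupOf A), inferInstance, ⟨
    { pr := pr
      act := (MonoidHom.mk ⟨act, ?_⟩ ?_)
      pr_mul := ?_
      pr_surj := ?_
      pr_eq_zero := ?_
      pr_act := ?_ }⟩⟩
  · refine AddMonoidHom.ext fun m => ?_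
    obtain ⟨a, ha⟩ := QuotientGroup.mk'_surjective (A₀.subgroupOf A) (Additive.toMul m)
    rw [show m = Additive.ofMul (q a) from congrArg Additive.ofMul ha.symm]; show act 1 (Additive.ofMul (q a)) = Additive.ofMul (q a); refine (hact 1 a).trans ?_
    exact congrArg (fun b => Additive.ofMul (q b)) (Subtype.ext (by simp [c]))
  · intro x y
    refine AddMonoidHom.ext fun m => ?_
    obtain ⟨a, ha⟩ := QuotientGroup.mk'_surjective (A₀.subgroupOf A) (Additive.toMul m)
    rw [show m = Additive.ofMul (q a) from congrArg Additive.ofMul ha.symm]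
    show act (x * y) (Additive.ofMul (q a)) = act x (act y (Additive.ofMul (q a)))
    rw [hact, hact, hact]
    exact congrArg (fun b => Additive.ofMul (q b)) (Subtype.ext (by simp [c, mul_assoc]))
  · intro a ha b hb
    rw [hpr a ha, hpr b hb, hpr _ (mul_mem ha hb), ← ofMul_mul, ← map_mul]
    rfl
  · intro m
    obtain ⟨a, ha⟩ := QuotientGroup.mk'_surjective (A₀.subgroupOf A) (Additive.toMul m)
    exact ⟨a, a.2, by rw [hpr _ a.2]; exact congrArg Additive.ofMul ha⟩
  · intro a ha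
    rw [hpr a ha, ofMul_eq_zero]
    exact (QuotientGroup.eq_one_iff _).trans mem_subgroupOf
  · intro x a ha
    rw [hpr a ha, hpr _ (conj_mem_of_secN x.2 ha)]
    exact (hact x ⟨a, ha⟩).symm

namespace SecRep

variable {A A₀ : Subgroup G} {M : Type*} [AddCommGroup M] (R : SecRep A A₀ M)

theorem pr_one : R.pr 1 = 0 := (R.pr_eq_zero 1 A.one_mem).2 A₀.one_mem

theorem pr_inv {a : G} (ha : a ∈ A) : R.pr a⁻¹ = -R.pr a := by
  rw [eq_neg_iff_add_eq_zero, ← R.pr_mul _ (inv_mem ha) _ ha, inv_mul_cancel, R.pr_one]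

theorem pr_eq_iff {a b : G} (ha : a ∈ A) (hb : b ∈ A) : R.pr a = R.pr b ↔ a * b⁻¹ ∈ A₀ := by
  rw [← R.pr_eq_zero _ (mul_mem ha (inv_mem hb)), R.pr_mul _ ha _ (inv_mem hb), R.pr_inv hb, ← sub_eq_add_neg,
    sub_eq_zero]

theorem finite (R : SecRep A A₀ M) [Finite A] : Finite M :=
  Finite.of_surjective (fun a : A => R.pr a) fun m => by
    obtain ⟨a, ha, rfl⟩ := R.pr_surj m
    exact ⟨⟨a, ha⟩, rfl⟩

theorem pr_comm (x : ↥(secN A A₀)) {a : G} (ha : a ∈ A) : R.pr ⁅(x : G), a⁆ = R.act x (R.pr a) - R.pr a := by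
  rw [commutatorElement_def, R.pr_mul _ (conj_mem_of_secN x.2 ha) _ (inv_mem ha), R.pr_act x a ha,
    R.pr_inv ha, sub_eq_add_neg]

theorem comm_mem (x : ↥(secN A A₀)) {a : G} (ha : a ∈ A) : ⁅(x : G), a⁆ ∈ A := by
  rw [commutatorElement_def]
  exact mul_mem (conj_mem_of_secN x.2 ha) (inv_mem ha)

theorem triv_iff (x : ↥(secN A A₀)) : Triv A A₀ (x : G) ↔ R.act x = 1 := by
  constructor
  · intro h
    refine AddMonoidHom.ext fun m => ?_
    obtain ⟨a, ha, rfl⟩ := R.pr_surj m
    have := (R.pr_eq_zero _ (comm_mem x ha)).2 (h a ha)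
    rw [R.pr_comm x ha, sub_eq_zero] at this
    exact this
  · intro h a ha
    refine (R.pr_eq_zero _ (comm_mem x ha)).1 ?_
    rw [R.pr_comm x ha, h]
    exact sub_self _

end SecRep

/-- The elements acting trivially form a subgroup. -/
theorem triv_mem_closure {A A₀ : Subgroup G} (h : IsAbSec A A₀) {S : Set G} (hS : S ⊆ secN A A₀)
    (ht : ∀ s ∈ S, Triv A A₀ s) {x : G} (hx : x ∈ closure S) : Triv A A₀ x := by
  obtain ⟨M, i, ⟨R⟩⟩ := exists_secRep h
  have hN : closure S ≤ secN A A₀ := (closure_le _).2 hS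
  have hle : closure S ≤ (R.act.ker).map (secN A A₀).subtype :=
    (closure_le _).2 fun s hs => ⟨⟨s, hS hs⟩, (R.triv_iff _).1 (ht s hs), rfl⟩
  obtain ⟨y, hy, rfl⟩ := hle hx
  exact (R.triv_iff y).2 hy

/-- A subgroup generated by elements acting trivially acts trivially. -/
theorem triv_of_le_closure {A A₀ K : Subgroup G} (h : IsAbSec A A₀) {S : Set G} (hK : K ≤ closure S)
    (hS : S ⊆ secN A A₀) (ht : ∀ s ∈ S, Triv A A₀ s) : ∀ x ∈ K, Triv A A₀ x :=
  fun _ hx => triv_mem_closure h hS ht (hK hx)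

theorem triv_mul {A A₀ : Subgroup G} (h : IsAbSec A A₀) {x y : G} (hx : x ∈ secN A A₀) (hy : y ∈ secN A A₀)
    (tx : Triv A A₀ x) (ty : Triv A A₀ y) : Triv A A₀ (x * y) :=
  triv_mem_closure h (S := {x, y}) (by intro z hz; rcases hz with rfl | rfl <;> assumption)
    (by intro z hz; rcases hz with rfl | rfl <;> assumption)
    (mul_mem (subset_closure (Or.inl rfl)) (subset_closure (Or.inr rfl)))

section Irr

variable {E A A₀ : Subgroup G} {M : Type*} [AddCommGroup M]

/-- An invariant additive subgroup is trivial. -/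
theorem IsIrrSec.invariant (h : IsIrrSec E A A₀) (R : SecRep A A₀ M) (N : AddSubgroup M)
    (hN : ∀ e : ↥(secN A A₀), (e : G) ∈ E → ∀ m ∈ N, R.act e m ∈ N) : N = ⊥ ∨ N = ⊤ := by
  let P : Subgroup G :=
    { carrier := {a | a ∈ A ∧ R.pr a ∈ N}
      one_mem' := ⟨A.one_mem, by rw [R.pr_one]; exact N.zero_mem⟩
      mul_mem' := fun {a b} ha hb => ⟨mul_mem ha.1 hb.1, by rw [R.pr_mul _ ha.1 _ hb.1]; exact N.add_mem ha.2 hb.2⟩
      inv_mem' := fun {a} ha => ⟨inv_mem ha.1, by rw [R.pr_inv ha.1]; exact N.neg_mem ha.2⟩ }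
  have h1 : ∀ e ∈ E, ∀ a ∈ P, e * a * e⁻¹ ∈ P := fun e he a ha =>
    ⟨conj_mem_of_secN (h.nE he) ha.1, by
      rw [R.pr_act ⟨e, h.nE he⟩ a ha.1]; exact hN ⟨e, h.nE he⟩ he _ ha.2⟩
  have hE : E ≤ normalizer (P : Set G) := fun e he => mem_normalizer_iff.2 fun a =>
    ⟨h1 e he a, fun ha => by simpa [mul_assoc] using h1 e⁻¹ (inv_mem he) _ ha⟩
  rcases h.irr P (fun a ha => ha.1) (fun a ha => ⟨h.le ha, by
    rw [(R.pr_eq_zero a (h.le ha)).2 ha]; exact N.zero_mem⟩) hE with e | e
  · refine Or.inl ((AddSubgroup.eq_bot_iff_forall N).2 fun m hm => ?_)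
    obtain ⟨a, ha, rfl⟩ := R.pr_surj m
    exact (R.pr_eq_zero a ha).2 (e ▸ (⟨ha, hm⟩ : a ∈ P))
  · refine Or.inr (eq_top_iff.2 fun m _ => ?_)
    obtain ⟨a, ha, rfl⟩ := R.pr_surj m
    exact (e.symm ▸ ha : a ∈ P).2

/-- Endomorphisms commuting with the action of `E`. -/
def commutant (R : SecRep A A₀ M) (E : Subgroup G) : Subring (AddMonoid.End M) :=
  Subring.centralizer (R.act '' {e | (e : G) ∈ E})

theorem mem_commutant {R : SecRep A A₀ M} {f : AddMonoid.End M} :
    f ∈ commutant R E ↔ ∀ e : ↥(secN A A₀), (e : G) ∈ E → R.act e * f = f * R.act e := by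
  rw [commutant, Subring.mem_centralizer_iff]
  exact ⟨fun h e he => h _ ⟨e, he, rfl⟩, fun h g ⟨e, he, heg⟩ => heg ▸ h e he⟩

/-- A non-zero member of the commutant is injective. -/
theorem IsIrrSec.injective (h : IsIrrSec E A A₀) (R : SecRep A A₀ M) {f : AddMonoid.End M}
    (hf : f ∈ commutant R E) (hf0 : f ≠ 0) : Function.Injective f := by
  refine (AddMonoidHom.ker_eq_bot_iff f).1 ?_
  refine (h.invariant R (AddMonoidHom.ker f) fun e he m hm => ?_).resolve_right fun ht => hf0 ?_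
  · have h1 : R.act e (f m) = f (R.act e m) := congrArg (fun g : AddMonoid.End M => g m) (mem_commutant.1 hf e he)
    show f (R.act e m) = 0
    rw [← h1, show f m = 0 from hm, map_zero]
  · exact AddMonoidHom.ext fun m => (ht.symm ▸ AddSubgroup.mem_top m : m ∈ AddMonoidHom.ker f)

/-- The commutant is commutative. -/
theorem IsIrrSec.commutant_comm (h : IsIrrSec E A A₀) (R : SecRep A A₀ M) [Finite M] {f g : AddMonoid.End M}
    (hf : f ∈ commutant R E) (hg : g ∈ commutant R E) : f * g = g * f := by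
  haveI : Finite (AddMonoid.End M) :=
    Finite.of_injective (fun f : AddMonoid.End M => (f : M → M)) DFunLike.coe_injective
  rcases subsingleton_or_nontrivial ↥(commutant R E) with hs | hn
  · exact congrArg Subtype.val (Subsingleton.elim ((⟨f, hf⟩ : commutant R E) * ⟨g, hg⟩) (⟨g, hg⟩ * ⟨f, hf⟩))
  · haveI : NoZeroDivisors ↥(commutant R E) := ⟨fun {a b} hab => by
      by_contra hne
      rw [not_or] at hne
      refine hne.2 (Subtype.ext (AddMonoidHom.ext fun m => ?_))
      refine h.injective R a.2 (fun e => hne.1 (Subtype.ext e)) ?_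
      show (a : AddMonoid.End M) ((b : AddMonoid.End M) m) = (a : AddMonoid.End M) 0
      rw [map_zero]
      exact congrArg (fun t : ↥(commutant R E) => (t : AddMonoid.End M) m) hab⟩
    haveI : IsDomain ↥(commutant R E) := NoZeroDivisors.to_isDomain _
    exact congrArg Subtype.val ((Finite.isDomain_to_isField _).mul_comm (⟨f, hf⟩ : commutant R E) ⟨g, hg⟩)

/-- An element whose commutators with `E` act trivially lies in the commutant. -/
theorem IsIrrSec.act_mem_commutant (h : IsIrrSec E A A₀) (R : SecRep A A₀ M) (x : ↥(secN A A₀))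
    (hx : ∀ e ∈ E, Triv A A₀ ⁅(x : G), e⁆) : R.act x ∈ commutant R E := by
  refine mem_commutant.2 fun e he => ?_
  have h1 : R.act ⁅x, e⁆ = 1 := (R.triv_iff ⁅x, e⁆).1 (hx e he)
  calc R.act e * R.act x = R.act ⁅x, e⁆ * R.act e * R.act x := by rw [h1, one_mul]
    _ = R.act (⁅x, e⁆ * e * x) := by rw [map_mul, map_mul]
    _ = R.act (x * e) := by congr 1; rw [commutatorElement_def]; group
    _ = R.act x * R.act e := map_mul _ _ _

/-- Commutators of elements commuting with the action of `E` act trivially. -/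
theorem IsIrrSec.triv_commutator (h : IsIrrSec E A A₀) [Finite A] {x y : G} (hx : x ∈ secN A A₀)
    (hy : y ∈ secN A A₀) (hxE : ∀ e ∈ E, Triv A A₀ ⁅x, e⁆) (hyE : ∀ e ∈ E, Triv A A₀ ⁅y, e⁆) :
    Triv A A₀ ⁅x, y⁆ := by
  obtain ⟨M, i, ⟨R⟩⟩ := exists_secRep h.toIsAbSec
  haveI := R.finite
  set x' : ↥(secN A A₀) := ⟨x, hx⟩
  set y' : ↥(secN A A₀) := ⟨y, hy⟩
  have hc := h.commutant_comm R (h.act_mem_commutant R x' hxE) (h.act_mem_commutant R y' hyE)
  refine (R.triv_iff ⁅x', y'⁆).2 ?_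
  rw [commutatorElement_def, map_mul, map_mul, map_mul, hc, ← map_mul, ← map_mul, ← map_mul,
    mul_inv_cancel_right, mul_inv_cancel, map_one]

/-- An element commuting with `E` on the section acts trivially or without fixed points. -/
theorem IsIrrSec.triv_or_free (h : IsIrrSec E A A₀) {x : G} (hx : x ∈ secN A A₀)
    (hxE : ∀ e ∈ E, Triv A A₀ ⁅x, e⁆) : Triv A A₀ x ∨ ∀ a ∈ A, ⁅x, a⁆ ∈ A₀ → a ∈ A₀ := by
  obtain ⟨M, i, ⟨R⟩⟩ := exists_secRep h.toIsAbSec
  set x' : ↥(secN A A₀) := ⟨x, hx⟩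
  by_cases h1 : R.act x' = 1
  · exact Or.inl ((R.triv_iff x').2 h1)
  · refine Or.inr fun a ha hxa => (R.pr_eq_zero a ha).1 ?_
    have hinj := h.injective R (Subring.sub_mem _ (h.act_mem_commutant R x' hxE) (Subring.one_mem _))
      (sub_ne_zero.2 h1)
    refine hinj ?_
    rw [map_zero]
    show R.act x' (R.pr a) - R.pr a = 0
    rw [← R.pr_comm x' ha]
    exact (R.pr_eq_zero _ (SecRep.comm_mem x' ha)).2 hxa

end Irr

end CfsgLib.SubBlock
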