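import Cfsg.Agent.Lib.Char.SubBlock.Act
import Cfsg.Agent.Lib.LocalStructure.BlockModule
import Cfsg.Agent.Lib.LocalStructure.Largest
import Cfsg.Agent.Lib.Coprime.Component
import Cfsg.Agent.Lib.Coprime.Core

/-!
# Subnormal blocks: vocabulary
-/

set_option autoImplicit false
set_option linter.unusedSectionVars false
set_option linter.style.haveILetI false

open Subgroup
open scoped commutatorElement

namespace CfsgLib.SubBlock

universe u
variable {G : Type u} [Group G]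

attribute [local instance] CfsgLib.Coprime.pCore_normal'

/-- `O_p(E)` of a subnormal subgroup. -/
def qE (p : ℕ) (E : Subgroup G) : Subgroup G := E ⊓ Cfsg.pCore p G
/-- `Ω₁Z(O_p(E))`. -/
def wE (p : ℕ) (E : Subgroup G) : Subgroup G := Cfsg.omegaOneCenter p (qE p E)
/-- The fixed points on `Ω₁Z(O_p(E))`. -/
def zE (p : ℕ) (E : Subgroup G) : Subgroup G := wE p E ⊓ centralizer (E : Set G)
/-- `[Ω₁Z(O_p(E)), E]`. -/
def vE (p : ℕ) (E : Subgroup G) : Subgroup G := ⁅wE p E, E⁆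
/-- `Ω₁Z(O_p(G))`. -/
def vG (G : Type u) [Group G] (p : ℕ) : Subgroup G := Cfsg.omegaOneCenter p (Cfsg.pCore p G)
/-- The image modulo `O_p(G)`. -/
def img (p : ℕ) (E : Subgroup G) : Subgroup (G ⧸ Cfsg.pCore p G) := E.map (QuotientGroup.mk' _)

/-- The block is of type `C₃` (`p = 2`). -/
def IsThree (p : ℕ) (E : Subgroup G) : Prop := p = 2 ∧ Nat.card ↥(img p E) = 3

/-- What is used of a subnormal block. -/
structure SBlock (p : ℕ) (E : Subgroup G) : Prop where
  sn : E.IsSubnormal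
  res : E ≤ closure {g : G | g ∈ E ∧ (orderOf g).Coprime p}
  ne : E ≠ ⊥
  qn : Cfsg.pCore p G ≤ normalizer (E : Set G)
  commQ : ⁅qE p E, E⁆ = qE p E
  ker : E ⊓ centralizer (vE p E : Set G) ≤ Cfsg.pCore p G
  vz : vE p E ⊔ zE p E = wE p E
  vV : vE p E ≤ vG G p
  irr : ∀ M : Subgroup G, M ≤ wE p E → zE p E ≤ M → E ≤ normalizer (M : Set G) → M = zE p E ∨ M = wE p E
  exc : qE p E ≠ wE p E → p = 3 ∧
    (∀ M : Subgroup G, M ≤ qE p E → wE p E ≤ M → E ≤ normalizer (M : Set G) → M = wE p E ∨ M = qE p E) ∧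
    ⁅qE p E, qE p E⁆ = zE p E ∧ zE p E ≠ ⊥
  nfix : ¬ IsThree p E → (∃ z ∈ ⁅E, E⁆, ¬ Triv (wE p E) (zE p E) z) ∧
    (qE p E ≠ wE p E → ∃ z ∈ ⁅E, E⁆, ¬ Triv (qE p E) (wE p E) z)
  kind : Cfsg.IsComponent (img p E) ∨
    (IsThree p E ∧ qE p E = wE p E ∧ Nat.card ↥(vE p E) = 4 ∧ zE p E = ⊥) ∨
    (p = 3 ∧ Nat.card ↥(img p E) = 8 ∧ Nat.card ↥(vE p E) = 9 ∧ vE p E ⊓ zE p E = ⊥ ∧
      (∀ e ∈ E, e ^ 2 ∉ Cfsg.pCore p G → ∀ v ∈ vE p E, e ^ 2 * v * (e ^ 2)⁻¹ = v⁻¹) ∧
      (∀ e ∈ E, e ∉ Cfsg.pCore p G → e ^ 2 ∈ Cfsg.pCore p G →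
        ∃ g ∈ E, g ^ 2 ∉ Cfsg.pCore p G ∧ e⁻¹ * g ^ 2 ∈ Cfsg.pCore p G) ∧
      (∃ e ∈ E, e ^ 2 ∉ Cfsg.pCore p G) ∧
      (qE p E ≠ wE p E → Nat.card ↥(qE p E) = 9 * Nat.card ↥(wE p E) ∧
        ∃ t ∈ normalizer (E : Set G), IsPGroup p ↥(zpowers t) ∧
          ¬ ⁅⁅qE p E, zpowers t⁆, zpowers t⁆ ≤ zE p E))

section Gen

variable [Finite G] {p : ℕ} [Fact p.Prime]

theorem mem_of_omegaOne {H : Subgroup G} {x : G} (hx : x ∈ Cfsg.omegaOne p H) : x ∈ H :=
  CfsgLib.BaumannBlock.omegaOne_le p H hx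

theorem wE_le (E : Subgroup G) : wE p E ≤ qE p E := fun _ hx => (mem_of_omegaOne hx).1

theorem wE_central (E : Subgroup G) : wE p E ≤ centralizer (qE p E : Set G) := fun _ hx => (mem_of_omegaOne hx).2

theorem qE_le (E : Subgroup G) : qE p E ≤ E := inf_le_left

theorem qE_le_core (E : Subgroup G) : qE p E ≤ Cfsg.pCore p G := inf_le_right

theorem wE_le_E (E : Subgroup G) : wE p E ≤ E := (wE_le E).trans (qE_le E)

theorem zE_le (E : Subgroup G) : zE p E ≤ wE p E := inf_le_left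

theorem vG_le : vG G p ≤ Cfsg.pCore p G := fun _ hx => (mem_of_omegaOne hx).1

theorem vG_comm {v q : G} (hv : v ∈ vG G p) (hq : q ∈ Cfsg.pCore p G) : q * v = v * q :=
  mem_centralizer_iff.1 (mem_of_omegaOne hv).2 q hq

theorem wE_comm {E : Subgroup G} {w q : G} (hw : w ∈ wE p E) (hq : q ∈ qE p E) : q * w = w * q :=
  mem_centralizer_iff.1 (wE_central E hw) q hq

theorem vG_pow {v : G} (hv : v ∈ vG G p) : v ^ p = 1 :=
  CfsgLib.BaumannBlock.pow_eq_one_of_mem_omegaOne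
    (H := Cfsg.pCore p G ⊓ centralizer (Cfsg.pCore p G : Set G))
    (fun _ ha b hb => (mem_centralizer_iff.1 (mem_inf.1 ha).2 b (mem_inf.1 hb).1).symm) hv

theorem wE_pow {E : Subgroup G} {v : G} (hv : v ∈ wE p E) : v ^ p = 1 :=
  CfsgLib.BaumannBlock.pow_eq_one_of_mem_omegaOne (H := qE p E ⊓ centralizer (qE p E : Set G))
    (fun _ ha b hb => (mem_centralizer_iff.1 (mem_inf.1 ha).2 b (mem_inf.1 hb).1).symm) hv

theorem mem_wE {E : Subgroup G} {x : G} (hx : x ∈ qE p E) (hc : ∀ q ∈ qE p E, q * x = x * q) (hp : x ^ p = 1) :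
    x ∈ wE p E :=
  subset_closure ⟨⟨hx, mem_centralizer_iff.2 hc⟩, hp⟩

theorem qE_norm {E : Subgroup G} {x : G} (hx : x ∈ normalizer (E : Set G)) : x ∈ normalizer (qE p E : Set G) :=
  CfsgLib.Coprime.inf_le_normalizer (A := normalizer (E : Set G)) le_rfl
    (le_top.trans (normalizer_eq_top_iff.2 (CfsgLib.Coprime.pCore_normal' p)).ge) hx

theorem wE_norm {E : Subgroup G} {x : G} (hx : x ∈ normalizer (E : Set G)) : x ∈ normalizer (wE p E : Set G) := by
  refine CfsgLib.Fusion.conjBy_eq_iff.1 ?_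
  have h := CfsgLib.Fusion.conjBy_eq_iff.2 (qE_norm (p := p) hx)
  unfold CfsgLib.Fusion.conjBy at h ⊢
  rw [wE, Cfsg.omegaOneCenter, CfsgLib.LS.map_omegaOne_center (MulAut.conj x).injective, h]

theorem zE_norm {E : Subgroup G} {x : G} (hx : x ∈ normalizer (E : Set G)) : x ∈ normalizer (zE p E : Set G) :=
  CfsgLib.Coprime.inf_le_normalizer (A := normalizer (E : Set G)) (fun _ h => wE_norm h)
    (CfsgLib.Coprime.normalizer_le_normalizer_centralizer E) hx

theorem vE_norm {E : Subgroup G} {x : G} (hx : x ∈ normalizer (E : Set G)) : x ∈ normalizer (vE p E : Set G) :=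
  CfsgLib.BaumannBlock.mem_normalizer_commutator (wE_norm hx) hx

theorem vE_le (E : Subgroup G) : vE p E ≤ wE p E :=
  CfsgLib.BaumannBlock.commutator_le_of_normalizes fun _ hx => wE_norm (le_normalizer hx)

theorem commutator_core_le {E : Subgroup G} (hqn : Cfsg.pCore p G ≤ normalizer (E : Set G)) :
    ⁅Cfsg.pCore p G, E⁆ ≤ qE p E := by
  refine le_inf ?_ (commutator_le_left _ _)
  rw [commutator_comm]
  exact CfsgLib.BaumannBlock.commutator_le_of_normalizes hqn

end Gen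

namespace SBlock

variable [Finite G] {p : ℕ} [hp : Fact p.Prime] {E : Subgroup G}

theorem isPGroup_qE (E : Subgroup G) : IsPGroup p ↥(qE p E) :=
  (CfsgLib.Coprime.pCore_isPGroup p).to_le (qE_le_core E)

/-- The main section. -/
theorem secW (hb : SBlock p E) : IsIrrSec E (wE p E) (zE p E) where
  le := zE_le E
  comm := by
    refine commutator_le.2 fun a ha b hb' => ?_
    rw [show ⁅a, b⁆ = 1 from commutatorElement_eq_one_iff_mul_comm.2 (wE_comm hb' (wE_le E ha))]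
    exact one_mem _
  nE := fun e he => ⟨wE_norm (le_normalizer he), zE_norm (le_normalizer he)⟩
  irr := hb.irr

/-- The upper section of an exceptional block. -/
theorem secQ (hb : SBlock p E) (h : qE p E ≠ wE p E) : IsIrrSec E (qE p E) (wE p E) where
  le := wE_le E
  comm := (hb.exc h).2.2.1.le.trans (zE_le E)
  nE := fun e he => ⟨qE_norm (le_normalizer he), wE_norm (le_normalizer he)⟩
  irr := (hb.exc h).2.1

theorem norm_secW (hb : SBlock p E) {x : G} (hx : x ∈ normalizer (E : Set G)) :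
    x ∈ secN (wE p E) (zE p E) := ⟨wE_norm hx, zE_norm hx⟩

theorem norm_secQ (hb : SBlock p E) {x : G} (hx : x ∈ normalizer (E : Set G)) :
    x ∈ secN (qE p E) (wE p E) := ⟨qE_norm hx, wE_norm hx⟩

theorem triv_qE_W (hb : SBlock p E) {x : G} (hx : x ∈ qE p E) : Triv (wE p E) (zE p E) x := fun a ha => by
  rw [show ⁅x, a⁆ = 1 from commutatorElement_eq_one_iff_mul_comm.2 (wE_comm ha hx)]
  exact one_mem _

theorem triv_qE_Q (hb : SBlock p E) {x : G} (hx : x ∈ qE p E) : Triv (qE p E) (wE p E) x := fun a ha => by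
  by_cases h : qE p E = wE p E
  · rw [show ⁅x, a⁆ = 1 from commutatorElement_eq_one_iff_mul_comm.2 (wE_comm (h ▸ ha) hx)]
    exact one_mem _
  · exact zE_le E ((hb.exc h).2.2.1.le (commutator_mem_commutator hx ha))

theorem not_le_core (hb : SBlock p E) : ¬ E ≤ Cfsg.pCore p G := by
  intro h
  refine hb.ne (le_bot_iff.1 (hb.res.trans ((closure_le _).2 fun x ⟨hx, ho⟩ => ?_)))
  obtain ⟨n, hn⟩ := CfsgLib.Coprime.pCore_isPGroup p ⟨x, h hx⟩
  rw [SetLike.mem_coe, mem_bot, ← orderOf_eq_one_iff]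
  exact Nat.eq_one_of_dvd_coprimes (Nat.Coprime.pow_right n ho) dvd_rfl
    (orderOf_dvd_of_pow_eq_one (congrArg Subtype.val hn))

theorem nonfix_W (hb : SBlock p E) : ¬ ∀ e ∈ E, Triv (wE p E) (zE p E) e := by
  intro h
  have h1 : vE p E ≤ zE p E := by
    refine commutator_le.2 fun w hw e he => ?_
    rw [← commutatorElement_inv e w]
    exact inv_mem (h e he w hw)
  refine hb.not_le_core (le_trans (le_inf le_rfl fun e he => mem_centralizer_iff.2 fun v hv => ?_) hb.ker)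
  exact (mem_centralizer_iff.1 (h1 hv).2 e he).symm

theorem nonfix_Q (hb : SBlock p E) (h : qE p E ≠ wE p E) : ¬ ∀ e ∈ E, Triv (qE p E) (wE p E) e := by
  intro ht
  refine h (le_antisymm ?_ (wE_le E))
  conv_lhs => rw [← hb.commQ]
  refine commutator_le.2 fun q hq e he => ?_
  rw [← commutatorElement_inv e q]
  exact inv_mem (ht e he q hq)

theorem coprime_mem (hb : SBlock p E) {x : G} (hx : x ∈ E ⊔ Cfsg.pCore p G) (ho : (orderOf x).Coprime p) : x ∈ E :=
  CfsgLib.BaumannNormal.coprime_mem_sup (CfsgLib.Coprime.pCore_isPGroup p) hb.qn hx ho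

theorem le_of_le_sup {F : Subgroup G} (hE : SBlock p E) (hF : SBlock p F) (h : E ≤ F ⊔ Cfsg.pCore p G) : E ≤ F :=
  hE.res.trans ((closure_le _).2 fun _ hx => hF.coprime_mem (h hx.1) hx.2)

theorem le_normalizer_of_commutator {F : Subgroup G} (hE : SBlock p E) (h : ⁅E, F⁆ ≤ Cfsg.pCore p G) :
    F ≤ normalizer (E : Set G) := by
  have key : ∀ f ∈ F, ∀ e ∈ E, f * e * f⁻¹ ∈ E := by
    intro f hf e he
    have hle : E ≤ E.comap (MulAut.conj f).toMonoidHom := by
      refine hE.res.trans ((closure_le _).2 fun x ⟨hx, ho⟩ => ?_)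
      refine hE.coprime_mem ?_ ?_
      · show f * x * f⁻¹ ∈ E ⊔ Cfsg.pCore p G
        rw [show f * x * f⁻¹ = (⁅x, f⁆)⁻¹ * x by rw [commutatorElement_def]; group]
        exact mul_mem (inv_mem (mem_sup_right (h (commutator_mem_commutator hx hf)))) (mem_sup_left hx)
      · exact ((orderOf_injective (MulAut.conj f).toMonoidHom (MulAut.conj f).injective x).symm ▸ ho :
          (orderOf ((MulAut.conj f).toMonoidHom x)).Coprime p)
    exact hle he
  exact fun f hf => mem_normalizer_iff.2 fun e =>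
    ⟨key f hf e, fun he => by simpa [mul_assoc] using key f⁻¹ (inv_mem hf) _ he⟩

theorem vE_eq_wE_of_eq (hb : SBlock p E) (h : qE p E = wE p E) : vE p E = qE p E := by
  rw [vE, ← h, hb.commQ]

theorem coprime_fix {x w m : G} {D : Subgroup G} (ho : (orderOf x).Coprime p) (hw : w ^ p = 1)
    (hwD : ∀ n : ℕ, w ^ n ∈ normalizer (D : Set G)) (hxD : x ∈ normalizer (D : Set G))
    (hxm : x * m * x⁻¹ = w * m) (hxw : ⁅x, w⁆ ∈ D) : w ∈ D := by
  have key : ∀ n : ℕ, ∃ d ∈ D, x ^ n * m * (x ^ n)⁻¹ = w ^ n * d * m := by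
    intro n
    induction n with
    | zero => exact ⟨1, one_mem _, by simp⟩
    | succ n ih =>
      obtain ⟨d, hd, he⟩ := ih
      obtain ⟨d', hd', hn'⟩ : ∃ d' ∈ D, x * w ^ n * x⁻¹ = w ^ n * d' := by
        clear he
        induction n with
        | zero => exact ⟨1, one_mem _, by simp⟩
        | succ n ih =>
          obtain ⟨a, ha, hea⟩ := ih
          refine ⟨w⁻¹ * a * ⁅x, w⁆ * w, ?_, ?_⟩
          · exact (mem_normalizer_iff''.1 (pow_one w ▸ hwD 1) _).1 (mul_mem ha hxw)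
              |> (by simpa [mul_assoc] using ·)
          · calc x * w ^ (n + 1) * x⁻¹ = (x * w ^ n * x⁻¹) * (x * w * x⁻¹) := by rw [pow_succ]; group
              _ = w ^ n * a * (⁅x, w⁆ * w) := by rw [hea, commutatorElement_def]; group
              _ = w ^ (n + 1) * (w⁻¹ * a * ⁅x, w⁆ * w) := by rw [pow_succ]; group
      refine ⟨w⁻¹ * (d' * (x * d * x⁻¹)) * w, ?_, ?_⟩
      · have h1 := mul_mem hd' ((mem_normalizer_iff.1 hxD d).1 hd)
        exact (mem_normalizer_iff''.1 (pow_one w ▸ hwD 1) _).1 h1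
      · calc x ^ (n + 1) * m * (x ^ (n + 1))⁻¹ = x * (x ^ n * m * (x ^ n)⁻¹) * x⁻¹ := by rw [pow_succ']; group
          _ = (x * w ^ n * x⁻¹) * (x * d * x⁻¹) * (x * m * x⁻¹) := by rw [he]; group
          _ = w ^ n * d' * (x * d * x⁻¹) * (w * m) := by rw [hn', hxm]
          _ = w ^ (n + 1) * (w⁻¹ * (d' * (x * d * x⁻¹)) * w) * m := by rw [pow_succ]; group
  obtain ⟨d, hd, he⟩ := key (orderOf x)
  rw [pow_orderOf_eq_one, one_mul, inv_one, mul_one] at he
  have hwn : w ^ orderOf x ∈ D := by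
    rw [eq_inv_of_mul_eq_one_left (right_eq_mul.1 he)]
    exact inv_mem hd
  obtain ⟨m', hm'⟩ := exists_pow_eq_self_of_coprime (x := w) (n := orderOf x)
    (ho.coprime_dvd_right (orderOf_dvd_of_pow_eq_one hw))
  rw [← hm']
  exact pow_mem hwn m'

/-- `[Ω₁Z(O_p(G)), E] ≤ [W, E]`. -/
theorem commutator_vG (hb : SBlock p E) : ⁅vG G p, E⁆ ≤ vE p E := by
  have hW : ⁅vG G p, E⁆ ≤ wE p E := by
    refine commutator_le.2 fun v hv e he => ?_
    have hc : ⁅v, e⁆ ∈ vG G p := by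
      have hN : (vG G p).Normal := by
        rw [← normalizer_eq_top_iff, eq_top_iff]
        intro g _
        refine CfsgLib.Fusion.conjBy_eq_iff.1 ?_
        unfold CfsgLib.Fusion.conjBy
        rw [vG, Cfsg.omegaOneCenter, CfsgLib.LS.map_omegaOne_center (MulAut.conj g).injective,
          CfsgLib.Coprime.map_pCore_equiv]
      have h1 := hN.conj_mem v⁻¹ (inv_mem hv) e
      rw [commutatorElement_def, show v * e * v⁻¹ * e⁻¹ = v * (e * v⁻¹ * e⁻¹) by group]
      exact mul_mem hv h1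
    exact mem_wE (commutator_core_le hb.qn (commutator_mem_commutator (vG_le hv) he))
      (fun q hq => vG_comm hc (qE_le_core E hq)) (vG_pow hc)
  refine commutator_le.2 fun v hv e he => ?_
  suffices h : e ∈ closure {g : G | g ∈ E ∧ ⁅v, g⁆ ∈ vE p E} by
    have hle : closure {g : G | g ∈ E ∧ ⁅v, g⁆ ∈ vE p E} ≤
        { carrier := {g : G | g ∈ E ∧ ⁅v, g⁆ ∈ vE p E}
          one_mem' := ⟨E.one_mem, by simp⟩
          mul_mem' := fun {a b} ha hb => ⟨mul_mem ha.1 hb.1, by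
            have h1 := (mem_normalizer_iff.1 (vE_norm (le_normalizer ha.1)) _).1 hb.2
            rw [show ⁅v, a * b⁆ = ⁅v, a⁆ * (a * ⁅v, b⁆ * a⁻¹) by simp only [commutatorElement_def]; group]
            exact mul_mem ha.2 h1⟩
          inv_mem' := fun {a} ha => ⟨inv_mem ha.1, by
            have h1 := (mem_normalizer_iff''.1 (vE_norm (le_normalizer ha.1)) _).1 (inv_mem ha.2)
            rw [show ⁅v, a⁻¹⁆ = a⁻¹ * (⁅v, a⁆)⁻¹ * a by simp only [commutatorElement_def]; group]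
            exact h1⟩ : Subgroup G } := (closure_le _).2 fun g hg => hg
    exact (hle h).2
  refine closure_mono ?_ (hb.res he)
  rintro x ⟨hx, ho⟩
  refine ⟨hx, ?_⟩
  set w := ⁅x, v⁆ with hw
  have hwW : w ∈ wE p E := by
    rw [hw, ← commutatorElement_inv v x]
    exact inv_mem (hW (commutator_mem_commutator hv hx))
  rw [← commutatorElement_inv x v, ← hw]
  refine inv_mem (coprime_fix (D := vE p E) (m := v) ho (wE_pow hwW)
    (fun n => pow_mem (vE_norm (le_normalizer (wE_le_E E hwW))) n) (vE_norm (le_normalizer hx))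
    (by rw [hw, commutatorElement_def]; group) ?_)
  rw [← commutatorElement_inv w x]
  exact inv_mem (commutator_mem_commutator hwW hx)

end SBlock

end CfsgLib.SubBlock
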