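import Cfsg.Agent.Lib.Char.SubBlock.OtherFacts

/-!
# A block centralising `[W, E]` commutes with `E`
-/

set_option autoImplicit false
set_option linter.unusedSectionVars false
set_option linter.style.haveILetI false
set_option linter.unusedVariables false
set_option maxHeartbeats 1000000

open Subgroup
open scoped commutatorElement MatrixGroups

namespace CfsgLib.SubBlock

open CfsgLib.BaumannBlock (bW bZ BlockFacts)

universe u
variable {G : Type u} [Group G] [Finite G] {p : ℕ} [hp : Fact p.Prime] {E X : Subgroup G}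

attribute [local instance] CfsgLib.Coprime.pCore_normal'

namespace SBlock

/-- The commutators of `O_p(E)` do not vanish for an exceptional block. -/
theorem not_abelian_mod_wE (hb : SBlock p E) (h : qE p E ≠ wE p E) {M : Subgroup G} (hM : M ≤ qE p E)
    (hsup : qE p E ≤ M ⊔ wE p E) : ¬ ∀ a ∈ M, ∀ b ∈ M, a * b = b * a := by
  intro hab
  refine (hb.exc h).2.2.2 ?_
  rw [← (hb.exc h).2.2.1, eq_bot_iff, commutator_le]
  intro a ha b hb'
  have hn : M ≤ normalizer (wE p E : Set G) := fun x hx => wE_norm (le_normalizer (qE_le E (hM hx)))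
  obtain ⟨w, hw, a', ha', rfl⟩ := CfsgLib.Coprime.mem_sup_exists hn (sup_comm M (wE p E) ▸ hsup ha)
  obtain ⟨w', hw', b', hb'', rfl⟩ := CfsgLib.Coprime.mem_sup_exists hn (sup_comm M (wE p E) ▸ hsup hb')
  rw [comm_congr (fun w hw q hq => wE_comm hw hq) (hM ha') (hM hb'') hw hw' (wE_le E), mem_bot,
    commutatorElement_eq_one_iff_mul_comm]
  exact hab a' ha' b' hb''

/-- A block centralising `[W, E]` is trivial on the upper section. -/
theorem triv_upper_of_cent (hb : SBlock p E) (T : Sylow p G) (hX : Cfsg.IsBaumannBlock p (T : Subgroup G) X)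
    (hXN : X ≤ normalizer (E : Set G)) (hcomm : ∀ x ∈ X, ∀ e ∈ E, ⁅x, e⁆ ∈ qE p E) (hex : qE p E ≠ wE p E) :
    ∀ x ∈ X, Triv (qE p E) (wE p E) x := by
  intro x hx
  have hs := hb.secQ hex
  have hf := CfsgLib.BaumannBlock.blockFacts hX
  have hN : ∀ y ∈ X, y ∈ secN (qE p E) (wE p E) := fun y hy => hb.norm_secQ (hXN hy)
  have htc : ∀ y ∈ X, ∀ e ∈ E, Triv (qE p E) (wE p E) ⁅y, e⁆ := fun y hy e he => hb.triv_qE_Q (hcomm y hy e he)
  refine (hs.triv_or_free (hN x hx) (htc x hx)).resolve_right fun hfree => ?_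
  -- a fixed point free element moves everything
  obtain ⟨M, iM, ⟨R⟩⟩ := exists_secRep hs.toIsAbSec
  haveI := R.finite
  obtain ⟨x', hx'⟩ : ∃ x' : ↥(secN (qE p E) (wE p E)), x' = ⟨x, hN x hx⟩ := ⟨_, rfl⟩
  have hinj : Function.Injective (R.act x' - 1 : AddMonoid.End M) := by
    refine (injective_iff_map_eq_zero _).2 fun m hm => ?_
    obtain ⟨a, ha, rfl⟩ := R.pr_surj m
    refine (R.pr_eq_zero a ha).2 (hfree a ha ((R.pr_eq_zero _ ?_).1 ?_))
    · exact SecRep.comm_mem ⟨x, hN x hx⟩ ha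
    · rw [show x = (x' : G) by rw [hx'], R.pr_comm x' ha]
      exact hm
  have hsup : qE p E ≤ (qE p E ⊓ bQ p X) ⊔ wE p E := by
    intro u hu
    obtain ⟨m, hm⟩ := Finite.surjective_of_injective hinj (R.pr u)
    obtain ⟨a, ha, rfl⟩ := R.pr_surj m
    have hc : ⁅x, a⁆ ∈ qE p E := SecRep.comm_mem ⟨x, hN x hx⟩ ha
    have h2 : u * ⁅x, a⁆⁻¹ ∈ wE p E := (R.pr_eq_iff hu hc).1 (by
      rw [show x = (x' : G) by rw [hx'], R.pr_comm x' ha, ← hm]
      rfl)
    rw [← inv_mul_cancel_right u ⁅x, a⁆]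
    exact mul_mem (mem_sup_right h2)
      (mem_sup_left (mem_inf.2 ⟨hc, (mem_inf.1 (comm_core_le T hX hx (qE_le_core E ha))).1⟩))
  obtain ⟨D, hD⟩ : ∃ D, D = qE p E ⊓ bQ p X := ⟨_, rfl⟩
  rw [← hD] at hsup
  have hDE : D ≤ qE p E := hD ▸ inf_le_left
  have hDX : D ≤ bQ p X := hD ▸ inf_le_right
  have hDN : X ≤ normalizer (D : Set G) := hD ▸ CfsgLib.Coprime.inf_le_normalizer
    (fun y hy => qE_norm (hXN hy)) fun y hy => bQ_norm (le_normalizer hy)
  have hnab := hb.not_abelian_mod_wE hex hDE hsup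
  have hQW : bQ p X ≠ bW p X := fun h =>
    hnab fun a ha b hb' => bW_comm_bQ (h ▸ hDX hb') (hDX ha)
  obtain ⟨-, hQ', hZ, hirr, ⟨F, i₁, i₂, n, hn, hF, -, hsl⟩, -⟩ := exc_data hX hQW
  have hDW : D ⊔ bW p X = bQ p X := (hirr _ (sup_le hDX (bW_le_bQ X)) le_sup_right
    (CfsgLib.Coprime.sup_le_normalizer hDN hf.normW)).resolve_left fun h => hnab fun a ha b hb' =>
      bW_comm_bQ (h.le (mem_sup_left hb')) (hDX ha)
  have hWle : wE p E ⊓ bQ p X ≤ bW p X := le_bW_of_abelian hf inf_le_right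
    (CfsgLib.Coprime.inf_le_normalizer (fun y hy => wE_norm (hXN hy)) fun y hy => bQ_norm (le_normalizer hy))
    fun a ha b hb' => wE_comm (mem_inf.1 hb').1 (wE_le E (mem_inf.1 ha).1)
  obtain ⟨z, hz, hzn⟩ := sl_nonfix hsl (by rw [hF]; exact Nat.le_self_pow hn 3)
  have hzX : z ∈ X := (commutator_le.2 fun a ha b hb' =>
    mul_mem (mul_mem (mul_mem ha hb') (inv_mem ha)) (inv_mem hb') : ⁅X, X⁆ ≤ X) hz
  have hzt : Triv (qE p E) (wE p E) z := by
    refine triv_of_le_closure (K := ⁅X, X⁆) hs.toIsAbSec (S := {g | ∃ a ∈ X, ∃ b ∈ X, ⁅a, b⁆ = g})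
      (by rw [Subgroup.commutator_def]) ?_ ?_ z hz
    · rintro _ ⟨a, ha, b, hb', rfl⟩
      exact hN _ (mul_mem (mul_mem (mul_mem ha hb') (inv_mem ha)) (inv_mem hb'))
    · rintro _ ⟨a, ha, b, hb', rfl⟩
      exact hs.triv_commutator (hN a ha) (hN b hb') (htc a ha) (htc b hb')
  refine hzn fun a ha => ?_
  obtain ⟨w, hw, d, hd, rfl⟩ := CfsgLib.Coprime.mem_sup_exists
    (fun y hy => bW_norm (le_normalizer (bQ_le X (hDX hy)))) (sup_comm D (bW p X) ▸ hDW.ge ha)
  rw [show ⁅z, w * d⁆ = ⁅z, w⁆ * (w * ⁅z, d⁆ * w⁻¹) by simp only [commutatorElement_def]; group]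
  have h1 : ⁅z, w⁆ ∈ bW p X := by
    rw [commutatorElement_def]
    exact mul_mem ((mem_normalizer_iff.1 (hf.normW hzX) w).1 hw) (inv_mem hw)
  have h2 : ⁅z, d⁆ ∈ bW p X := hWle (mem_inf.2 ⟨hzt d (hDE hd), by
    rw [commutatorElement_def]
    exact mul_mem ((mem_normalizer_iff.1 (bQ_norm (le_normalizer hzX)) d).1 (hDX hd)) (inv_mem (hDX hd))⟩)
  exact mul_mem h1 (mul_mem (mul_mem hw h2) (inv_mem hw))

/-- Trivial on both sections implies trivial on the fixed points. -/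
theorem cent_zE_of_triv (hb : SBlock p E) (hex : qE p E ≠ wE p E) {y : G} (hy : y ∈ normalizer (E : Set G))
    (ht : Triv (qE p E) (wE p E) y) {z : G} (hz : z ∈ zE p E) : y * z = z * y := by
  have hle : zE p E ≤ centralizer ({y} : Set G) := by
    rw [← (hb.exc hex).2.2.1, commutator_le]
    intro a ha b hb'
    refine mem_centralizer_singleton_iff.2 ?_
    obtain ⟨wa, hwa, ea⟩ : ∃ wa ∈ wE p E, y * a * y⁻¹ = wa * a :=
      ⟨⁅y, a⁆, ht a ha, by rw [commutatorElement_def]; group⟩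
    obtain ⟨wb, hwb, eb⟩ : ∃ wb ∈ wE p E, y * b * y⁻¹ = wb * b :=
      ⟨⁅y, b⁆, ht b hb', by rw [commutatorElement_def]; group⟩
    have h1 : y * ⁅a, b⁆ * y⁻¹ = ⁅a, b⁆ := by
      rw [show y * ⁅a, b⁆ * y⁻¹ = ⁅y * a * y⁻¹, y * b * y⁻¹⁆ by simp only [commutatorElement_def]; group, ea, eb]
      exact comm_congr (fun w hw q hq => wE_comm hw hq) ha hb' hwa hwb (wE_le E)
    exact (mul_inv_eq_iff_eq_mul.1 h1).symm
  exact (mem_centralizer_singleton_iff.1 (hle hz)).symm

/-- A block centralising `[W, E]` commutes with `E`. -/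
theorem commute_of_cent (hb : SBlock p E) (T : Sylow p G) (hX : Cfsg.IsBaumannBlock p (T : Subgroup G) X)
    (hXN : X ≤ normalizer (E : Set G)) (hcent : X ≤ centralizer (vE p E : Set G)) : ⁅X, E⁆ = ⊥ := by
  have hf := CfsgLib.BaumannBlock.blockFacts hX
  have hcomm : ∀ x ∈ X, ∀ e ∈ E, ⁅x, e⁆ ∈ qE p E := fun x hx e he =>
    hb.comm_le_qE_of_triv (hXN hx) (hb.triv_of_cent_vE (hXN hx) (hcent hx)) he
  have hQ : X ≤ centralizer (qE p E : Set G) := by
    by_cases hex : qE p E = wE p E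
    · rwa [← hb.vE_eq_wE_of_eq hex]
    have ht := hb.triv_upper_of_cent T hX hXN hcomm hex
    have hW : ∀ x ∈ X, ∀ w ∈ wE p E, x * w = w * x := by
      intro x hx w hw
      have hle : wE p E ≤ centralizer ({x} : Set G) := by
        rw [← hb.vz]
        refine sup_le (fun v hv => mem_centralizer_singleton_iff.2 ?_) fun z hz => mem_centralizer_singleton_iff.2 ?_
        · exact mem_centralizer_iff.1 (hcent hx) v hv
        · exact (hb.cent_zE_of_triv hex (hXN hx) (ht x hx) hz).symm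
      exact (mem_centralizer_singleton_iff.1 (hle hw)).symm
    refine CfsgLib.BaumannBlock.le_centralizer_of_stabilizes (D := wE p E) hf.res
      ((isPGroup_qE E).to_le (wE_le E)) (fun x hx d hd => ?_) fun x hx m hm => ht x hx m hm
    rw [mul_inv_eq_iff_eq_mul]
    exact hW x hx d hd
  refine commutator_eq_bot_iff_le_centralizer.2 (CfsgLib.BaumannBlock.le_centralizer_of_stabilizes
    (D := qE p E) hf.res (isPGroup_qE E) (fun x hx d hd => ?_) fun x hx m hm => hcomm x hx m hm)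
  rw [mul_inv_eq_iff_eq_mul]
  exact (mem_centralizer_iff.1 (hQ hx) d hd).symm

end SBlock

end CfsgLib.SubBlock
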