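import Cfsg.Agent.Lib.Char.SubBlock.Basic

/-!
# Blocks commuting modulo `O_p(G)` commute
-/

set_option autoImplicit false
set_option linter.unusedSectionVars false
set_option linter.style.haveILetI false

open Subgroup
open scoped commutatorElement

namespace CfsgLib.SubBlock

universe u
variable {G : Type u} [Group G]

attribute [local instance] CfsgLib.Coprime.pCore_normal'

/-- The common fixed points of a subset of `E` stable under conjugation by `E`. -/
theorem IsIrrSec.fix_le {E A A₀ : Subgroup G} (h : IsIrrSec E A A₀) {S : Set G} (hS : S ⊆ E)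
    (hconj : ∀ e ∈ E, ∀ z ∈ S, e⁻¹ * z * e ∈ S) (hne : ∃ z ∈ S, ¬ Triv A A₀ z) {a : G} (ha : a ∈ A)
    (hfix : ∀ z ∈ S, ⁅z, a⁆ ∈ A₀) : a ∈ A₀ := by
  obtain ⟨M, i, ⟨R⟩⟩ := exists_secRep h.toIsAbSec
  have hSN : ∀ {z}, z ∈ S → z ∈ secN A A₀ := fun hz => h.nE (hS hz)
  let N : AddSubgroup M :=
    { carrier := {m | ∀ z (hz : z ∈ S), R.act ⟨z, hSN hz⟩ m = m}
      zero_mem' := fun z hz => map_zero _
      add_mem' := fun {m n} hm hn z hz => by rw [map_add, hm z hz, hn z hz]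
      neg_mem' := fun {m} hm z hz => by rw [map_neg, hm z hz] }
  have hinv : ∀ e : ↥(secN A A₀), (e : G) ∈ E → ∀ m ∈ N, R.act e m ∈ N := by
    intro e he m hm z hz
    have hz' := hconj e he z hz
    have h1 : (⟨z, hSN hz⟩ : ↥(secN A A₀)) * e = e * ⟨(e : G)⁻¹ * z * e, hSN hz'⟩ :=
      Subtype.ext (by show z * (e : G) = (e : G) * ((e : G)⁻¹ * z * e); group)
    have h2 := congrArg (fun f => R.act f m) h1
    simp only [map_mul, AddMonoid.End.coe_mul, Function.comp_apply] at h2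
    rw [h2, hm _ hz']
  rcases h.invariant R N hinv with hN | hN
  · have : R.pr a ∈ N := fun z hz => by
      have h1 := (R.pr_eq_zero _ (SecRep.comm_mem ⟨z, hSN hz⟩ ha)).2 (hfix z hz)
      rwa [R.pr_comm ⟨z, hSN hz⟩ ha, sub_eq_zero] at h1
    rw [hN, AddSubgroup.mem_bot] at this
    exact (R.pr_eq_zero a ha).1 this
  · obtain ⟨z, hz, hzn⟩ := hne
    refine absurd ((R.triv_iff ⟨z, hSN hz⟩).2 (AddMonoidHom.ext fun m => ?_)) hzn
    exact (hN.symm ▸ AddSubgroup.mem_top m : m ∈ N) z hz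

/-- The elements stabilising `P ≥ W`. -/
def chainStab (P W : Subgroup G) : Subgroup G where
  carrier := {g | g ∈ normalizer (W : Set G) ∧ g ∈ normalizer (P : Set G) ∧ ∀ q ∈ P, ⁅g, q⁆ ∈ W}
  one_mem' := ⟨one_mem _, one_mem _, fun q _ => by simp⟩
  mul_mem' := fun {g h} hg hh => ⟨mul_mem hg.1 hh.1, mul_mem hg.2.1 hh.2.1, fun q hq => by
    rw [show ⁅g * h, q⁆ = g * ⁅h, q⁆ * g⁻¹ * ⁅g, q⁆ by simp only [commutatorElement_def]; group]
    exact mul_mem ((mem_normalizer_iff.1 hg.1 _).1 (hh.2.2 q hq)) (hg.2.2 q hq)⟩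
  inv_mem' := fun {g} hg => ⟨inv_mem hg.1, inv_mem hg.2.1, fun q hq => by
    rw [show ⁅g⁻¹, q⁆ = g⁻¹ * (⁅g, q⁆)⁻¹ * g by simp only [commutatorElement_def]; group]
    exact (mem_normalizer_iff''.1 hg.1 _).1 (inv_mem (hg.2.2 q hq))⟩

variable [Finite G] {p : ℕ} [hp : Fact p.Prime]

/-- A coprime element stabilising `P ≥ W` and fixing `W` fixes `P`. -/
theorem fix_of_chain {P W : Subgroup G} (hW : IsPGroup p ↥W) {g : G} (ho : (orderOf g).Coprime p)
    (hc : g ∈ centralizer (W : Set G)) (hg : ∀ q ∈ P, ⁅g, q⁆ ∈ W) {q : G} (hq : q ∈ P) : g * q = q * g := by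
  obtain ⟨k, hk⟩ := hW ⟨⁅g, q⁆, hg q hq⟩
  have hcop : (orderOf g).Coprime (orderOf ⁅g, q⁆) :=
    (Nat.Coprime.pow_right k ho).coprime_dvd_right (orderOf_dvd_of_pow_eq_one (congrArg Subtype.val hk))
  refine commutatorElement_eq_one_iff_mul_comm.1 (CfsgLib.Coprime.eq_one_of_conj_eq_mul (a := g) (x := q) ?_ ?_ hcop)
  · rw [commutatorElement_def]; group
  · rw [mul_inv_eq_iff_eq_mul]
    exact (mem_centralizer_iff.1 hc _ (hg q hq)).symm

/-- An element of order prime to `p` modulo `O_p(G)` stabilising `O_p(G) ≥ W ≥ 1` lies in `O_p(G)`. -/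
theorem mem_core_of_chain (hG : centralizer (Cfsg.pCore p G : Set G) ≤ Cfsg.pCore p G) {W : Subgroup G}
    (hW : W ≤ Cfsg.pCore p G) {g : G} {m : ℕ} (hm : m.Coprime p) (hgm : g ^ m ∈ Cfsg.pCore p G)
    (hc : g ∈ centralizer (W : Set G)) (hg : ∀ q ∈ Cfsg.pCore p G, ⁅g, q⁆ ∈ W) : g ∈ Cfsg.pCore p G := by
  have hmem : g ∈ chainStab (Cfsg.pCore p G) W := by
    refine ⟨(centralizer_le_normalizer (W : Set G)) hc, ?_, hg⟩
    rw [normalizer_eq_top_iff.2 (CfsgLib.Coprime.pCore_normal' p)]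
    exact mem_top _
  obtain ⟨a, b, hb, hab⟩ :=
    Nat.exists_eq_pow_mul_and_not_dvd (orderOf_pos g).ne' p hp.out.ne_one
  have ho : (orderOf (g ^ p ^ a)).Coprime p := by
    rw [orderOf_pow' g (pow_ne_zero a hp.out.ne_zero), hab, Nat.gcd_eq_right (Dvd.intro _ rfl),
      Nat.mul_div_cancel_left _ (Nat.pow_pos hp.out.pos)]
    exact Nat.coprime_comm.1 (hp.out.coprime_iff_not_dvd.2 hb)
  have h0 : g ^ p ^ a ∈ Cfsg.pCore p G := hG (mem_centralizer_iff.2 fun q hq =>
    (fix_of_chain ((CfsgLib.Coprime.pCore_isPGroup p).to_le hW) ho (pow_mem hc _)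
      (pow_mem hmem (p ^ a)).2.2 hq).symm)
  rw [← QuotientGroup.eq_one_iff (N := Cfsg.pCore p G), QuotientGroup.mk_pow] at h0 hgm
  rw [← QuotientGroup.eq_one_iff (N := Cfsg.pCore p G), ← orderOf_eq_one_iff]
  exact Nat.eq_one_of_dvd_coprimes (Nat.Coprime.pow_left a (Nat.coprime_comm.1 hm))
    (orderOf_dvd_of_pow_eq_one h0) (orderOf_dvd_of_pow_eq_one hgm)

namespace SBlock

variable {E F : Subgroup G}

theorem mutNorm (hE : SBlock p E) (hF : SBlock p F) (h : ⁅E, F⁆ ≤ Cfsg.pCore p G) :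
    F ≤ normalizer (E : Set G) ∧ E ≤ normalizer (F : Set G) :=
  ⟨hE.le_normalizer_of_commutator h, hF.le_normalizer_of_commutator (by rwa [commutator_comm])⟩

theorem commutator_le_qE (hE : SBlock p E) (hF : SBlock p F) (h : ⁅E, F⁆ ≤ Cfsg.pCore p G) :
    ⁅E, F⁆ ≤ qE p E := by
  refine le_inf ?_ h
  exact CfsgLib.BaumannBlock.commutator_le_of_normalizes (mutNorm hE hF h).1

/-- The derived group of `E` acts trivially on the sections of `F`. -/
theorem triv_derived (hE : SBlock p E) (hF : SBlock p F) (h : ⁅E, F⁆ ≤ Cfsg.pCore p G) {z : G} (hz : z ∈ ⁅E, E⁆) :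
    Triv (wE p F) (zE p F) z ∧ Triv (qE p F) (wE p F) z := by
  have hEN := (mutNorm hE hF h).2
  have hc : ∀ x ∈ E, ∀ f ∈ F, ⁅x, f⁆ ∈ qE p F := fun x hx f hf => by
    have := commutator_le_qE hF hE (by rwa [commutator_comm])
    rw [commutator_comm] at this
    exact this (commutator_mem_commutator hx hf)
  refine ⟨triv_of_le_closure (K := ⁅E, E⁆) hF.secW.toIsAbSec (S := {g | ∃ a ∈ E, ∃ b ∈ E, ⁅a, b⁆ = g})
    (by rw [Subgroup.commutator_def]) ?_ ?_ z hz, ?_⟩
  · rintro _ ⟨a, ha, b, hb, rfl⟩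
    exact hF.norm_secW (hEN (mul_mem (mul_mem (mul_mem ha hb) (inv_mem ha)) (inv_mem hb)))
  · rintro _ ⟨a, ha, b, hb, rfl⟩
    exact hF.secW.triv_commutator (hF.norm_secW (hEN ha)) (hF.norm_secW (hEN hb))
      (fun f hf => hF.triv_qE_W (hc a ha f hf)) (fun f hf => hF.triv_qE_W (hc b hb f hf))
  · by_cases hq : qE p F = wE p F
    · intro a ha
      have h1 : z ∈ E := (commutator_le.2 fun a ha b hb =>
        mul_mem (mul_mem (mul_mem ha hb) (inv_mem ha)) (inv_mem hb) : ⁅E, E⁆ ≤ E) hz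
      rw [← hq, commutatorElement_def]
      exact mul_mem ((mem_normalizer_iff.1 (qE_norm (hEN h1)) a).1 ha) (inv_mem ha)
    · refine triv_of_le_closure (K := ⁅E, E⁆) (hF.secQ hq).toIsAbSec
        (S := {g | ∃ a ∈ E, ∃ b ∈ E, ⁅a, b⁆ = g}) (by rw [Subgroup.commutator_def]) ?_ ?_ z hz
      · rintro _ ⟨a, ha, b, hb, rfl⟩
        exact hF.norm_secQ (hEN (mul_mem (mul_mem (mul_mem ha hb) (inv_mem ha)) (inv_mem hb)))
      · rintro _ ⟨a, ha, b, hb, rfl⟩
        exact (hF.secQ hq).triv_commutator (hF.norm_secQ (hEN ha)) (hF.norm_secQ (hEN hb))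
          (fun f hf => hF.triv_qE_Q (hc a ha f hf)) (fun f hf => hF.triv_qE_Q (hc b hb f hf))

/-- If a stable subset of `E` is trivial on the sections of `F`, then `F` is trivial on a section of `E`. -/
theorem triv_of_stable (hE : SBlock p E) (hF : SBlock p F) (h : ⁅E, F⁆ ≤ Cfsg.pCore p G) {A A₀ : Subgroup G}
    (hs : IsIrrSec E A A₀) (hA : A ≤ qE p E) (hAF : F ≤ secN A A₀) (hnonfix : ¬ ∀ e ∈ E, Triv A A₀ e)
    (hq : ∀ x ∈ qE p E, Triv A A₀ x) {S : Set G} (hS : S ⊆ E) (hconj : ∀ e ∈ E, ∀ z ∈ S, e⁻¹ * z * e ∈ S)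
    (hne : ∃ z ∈ S, ¬ Triv A A₀ z) (ht : ∀ z ∈ S, Triv (wE p F) (zE p F) z ∧ Triv (qE p F) (wE p F) z) :
    ∀ f ∈ F, Triv A A₀ f := by
  intro f hf
  have hc : ∀ e ∈ E, Triv A A₀ ⁅f, e⁆ := fun e he => by
    refine hq _ ?_
    have := commutator_le_qE hE hF h
    rw [commutator_comm] at this
    exact this (commutator_mem_commutator hf he)
  refine (hs.triv_or_free (hAF hf) hc).resolve_right fun hfree => hnonfix fun e he a ha => ?_
  have hAA : ∀ u ∈ A, u ∈ A₀ := by
    intro u hu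
    refine hfree u hu ?_
    set x := ⁅f, u⁆ with hx
    have hxA : x ∈ A := SecRep.comm_mem ⟨f, hAF hf⟩ hu
    have hxq : x ∈ qE p F := by
      refine ⟨?_, qE_le_core E (hA hxA)⟩
      rw [hx, commutatorElement_def, show f * u * f⁻¹ * u⁻¹ = f * (u * f⁻¹ * u⁻¹) by group]
      exact mul_mem hf ((mem_normalizer_iff.1 ((mutNorm hE hF h).2 (qE_le E (hA hu))) _).1 (inv_mem hf))
    refine hs.fix_le hS hconj hne hxA fun z hz => hs.fix_le hS hconj hne ?_ fun z' hz' => ?_
    · exact SecRep.comm_mem ⟨z, hs.nE (hS hz)⟩ hxA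
    · have h1 : ⁅z, x⁆ ∈ wE p F := (ht z hz).2 x hxq
      have h2 : ⁅z', ⁅z, x⁆⁆ ∈ zE p F := (ht z' hz').1 _ h1
      refine hfree _ (SecRep.comm_mem ⟨z', hs.nE (hS hz')⟩ (SecRep.comm_mem ⟨z, hs.nE (hS hz)⟩ hxA)) ?_
      rw [show ⁅f, ⁅z', ⁅z, x⁆⁆⁆ = 1 from commutatorElement_eq_one_iff_mul_comm.2 (mem_centralizer_iff.1 h2.2 f hf)]
      exact one_mem _
  exact hAA _ (SecRep.comm_mem ⟨e, hs.nE he⟩ ha)

/-- `F` acts trivially on both sections of `E`. -/
def TrivOn (p : ℕ) (E F : Subgroup G) : Prop :=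
  (∀ f ∈ F, Triv (wE p E) (zE p E) f) ∧ (qE p E ≠ wE p E → ∀ f ∈ F, Triv (qE p E) (wE p E) f)

theorem conj_mem_derived {e z : G} (he : e ∈ E) (hz : z ∈ ⁅E, E⁆) : e⁻¹ * z * e ∈ ⁅E, E⁆ :=
  (mem_normalizer_iff''.1 (CfsgLib.BaumannBlock.mem_normalizer_commutator (le_normalizer he) (le_normalizer he))
    z).1 hz

theorem trivOn_of_nfix (hE : SBlock p E) (hF : SBlock p F) (h : ⁅E, F⁆ ≤ Cfsg.pCore p G) (hn : ¬ IsThree p E) :
    TrivOn p E F := by
  have hEE : ((⁅E, E⁆ : Subgroup G) : Set G) ⊆ (E : Set G) := fun z hz => (commutator_le.2 fun a ha b hb =>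
    mul_mem (mul_mem (mul_mem ha hb) (inv_mem ha)) (inv_mem hb) : ⁅E, E⁆ ≤ E) hz
  have hN := (mutNorm hE hF h).1
  exact ⟨triv_of_stable hE hF h hE.secW (wE_le E) (fun f hf => hE.norm_secW (hN hf)) hE.nonfix_W
      (fun x hx => hE.triv_qE_W hx) hEE (fun e he z hz => conj_mem_derived he hz) (hE.nfix hn).1
      (fun z hz => triv_derived hE hF h hz),
    fun hq => triv_of_stable hE hF h (hE.secQ hq) le_rfl (fun f hf => hE.norm_secQ (hN hf)) (hE.nonfix_Q hq)
      (fun x hx => hE.triv_qE_Q hx) hEE (fun e he z hz => conj_mem_derived he hz) ((hE.nfix hn).2 hq)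
      (fun z hz => triv_derived hE hF h hz)⟩

theorem qE_eq_of_two (hE : SBlock p E) (h2 : p = 2) : qE p E = wE p E := by
  by_contra h
  have := (hE.exc h).1
  omega

theorem trivOn_of_swap (hE : SBlock p E) (hF : SBlock p F) (h : ⁅E, F⁆ ≤ Cfsg.pCore p G) (h2 : p = 2)
    (hFE : TrivOn p F E) : TrivOn p E F := by
  refine ⟨triv_of_stable hE hF h hE.secW (wE_le E) (fun f hf => hE.norm_secW ((mutNorm hE hF h).1 hf)) hE.nonfix_W
    (fun x hx => hE.triv_qE_W hx) (S := (E : Set G)) subset_rfl (fun e he z hz => mul_mem (mul_mem (inv_mem he) hz) he)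
    (by simpa using hE.nonfix_W) (fun z hz => ⟨hFE.1 z hz, fun a ha => ?_⟩), fun hq => absurd (hE.qE_eq_of_two h2) hq⟩
  rw [← hF.qE_eq_of_two h2, commutatorElement_def]
  exact mul_mem ((mem_normalizer_iff.1 (qE_norm ((mutNorm hE hF h).2 hz)) a).1 ha) (inv_mem ha)

/-- An element generating a block of type `C₃` modulo `O_p`. -/
theorem exists_gen (hE : SBlock p E) (h3 : Nat.card ↥(img p E) = 3) {e : G} (he : e ∈ E)
    (hne : e ∉ Cfsg.pCore p G) : E ≤ closure (insert e (qE p E : Set G)) := by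
  intro x hx
  haveI : Fact (Nat.Prime 3) := ⟨Nat.prime_three⟩
  have hbar : ∀ y ∈ E, (QuotientGroup.mk' (Cfsg.pCore p G) y) ∈ img p E := fun y hy => mem_map_of_mem _ hy
  have hne' : (⟨_, hbar e he⟩ : ↥(img p E)) ≠ 1 := fun h =>
    hne ((QuotientGroup.eq_one_iff e).1 (congrArg Subtype.val h))
  obtain ⟨n, hn⟩ := mem_zpowers_iff.1 (mem_zpowers_of_prime_card h3 hne' (g' := ⟨_, hbar x hx⟩))
  have h1 : (QuotientGroup.mk' (Cfsg.pCore p G)) (e ^ n) = QuotientGroup.mk' (Cfsg.pCore p G) x := by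
    rw [map_zpow]; exact congrArg Subtype.val hn
  have h2 : (e ^ n)⁻¹ * x ∈ qE p E := ⟨E.mul_mem (E.inv_mem (E.zpow_mem he n)) hx, QuotientGroup.eq.1 h1⟩
  rw [← mul_inv_cancel_left (e ^ n) x]
  exact mul_mem (zpow_mem (subset_closure (Set.mem_insert _ _)) n) (subset_closure (Set.mem_insert_of_mem _ h2))

theorem three_eq (hG : centralizer (Cfsg.pCore p G : Set G) ≤ Cfsg.pCore p G) (hE : SBlock p E) (hF : SBlock p F)
    (h : ⁅E, F⁆ ≤ Cfsg.pCore p G) (hE3 : IsThree p E) (hF3 : IsThree p F) (hnt : ¬ TrivOn p E F) : E = F := by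
  have h2 := hE3.1
  have hEq := hE.qE_eq_of_two h2
  have hFq := hF.qE_eq_of_two h2
  obtain ⟨hEV, hEz⟩ : Nat.card ↥(vE p E) = 4 ∧ zE p E = ⊥ := by
    rcases hE.kind with hk | ⟨-, -, hc, hz⟩ | ⟨h3, -⟩
    · haveI : IsCyclic ↥(img p E) := by
        haveI : Fact (Nat.Prime 3) := ⟨Nat.prime_three⟩
        exact isCyclic_of_prime_card hE3.2
      exact absurd (by
        haveI := IsCyclic.commGroup (α := ↥(img p E))
        exact CfsgLib.Coprime.isSolvable_of_isMulCommutative (A := img p E) ⟨⟨(IsCyclic.commGroup (α := ↥(img p E))).mul_comm⟩⟩)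
        (CfsgLib.Coprime.not_isSolvable_of_isComponent hk)
    · exact ⟨hc, hz⟩
    · omega
  have hEv := hE.vE_eq_wE_of_eq hEq
  obtain ⟨f, hf, hfW⟩ : ∃ f ∈ F, ¬ Triv (wE p E) (zE p E) f := by
    by_contra! hcon
    exact hnt ⟨hcon, fun hq => absurd hEq hq⟩
  obtain ⟨hFN, hEN⟩ := mutNorm hE hF h
  have hfN := hE.norm_secW (hFN hf)
  -- the two modules agree
  have hWW : wE p E = wE p F := by
    set I := wE p E ⊓ wE p F
    have hI : ∀ {x : G}, x ∈ normalizer (E : Set G) → x ∈ normalizer (F : Set G) → x ∈ normalizer (I : Set G) :=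
      fun h1 h2 => CfsgLib.Coprime.inf_le_normalizer (A := zpowers _) (zpowers_le.2 (wE_norm h1))
        (zpowers_le.2 (wE_norm h2)) (mem_zpowers _)
    obtain ⟨u, hu, hfu⟩ : ∃ u ∈ wE p E, ⁅f, u⁆ ∉ zE p E := by simpa [Triv] using hfW
    have hxI : ⁅f, u⁆ ∈ I := by
      refine ⟨SecRep.comm_mem ⟨f, hfN⟩ hu, ?_⟩
      rw [← hFq]
      refine ⟨?_, qE_le_core E (wE_le E (SecRep.comm_mem ⟨f, hfN⟩ hu))⟩
      rw [commutatorElement_def, show f * u * f⁻¹ * u⁻¹ = f * (u * f⁻¹ * u⁻¹) by group]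
      exact mul_mem hf ((mem_normalizer_iff.1 (hEN (wE_le_E E hu)) _).1 (inv_mem hf))
    have e1 : I = wE p E := (hE.irr I inf_le_left (by rw [hEz]; exact bot_le)
      fun e he => hI (le_normalizer he) (hEN he)).resolve_left fun e0 => hfu (e0 ▸ hxI)
    have hFz : zE p F = ⊥ := by
      rcases hF.kind with hk | ⟨-, -, -, hz⟩ | ⟨h3, -⟩
      · haveI : IsCyclic ↥(img p F) := by
          haveI : Fact (Nat.Prime 3) := ⟨Nat.prime_three⟩
          exact isCyclic_of_prime_card hF3.2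
        exact absurd (by
          haveI := IsCyclic.commGroup (α := ↥(img p F))
          exact CfsgLib.Coprime.isSolvable_of_isMulCommutative (A := img p F) ⟨⟨(IsCyclic.commGroup (α := ↥(img p F))).mul_comm⟩⟩)
          (CfsgLib.Coprime.not_isSolvable_of_isComponent hk)
      · exact hz
      · omega
    have e2 : I = wE p F := (hF.irr I inf_le_right (by rw [hFz]; exact bot_le)
      fun x hx => hI (hFN hx) (le_normalizer hx)).resolve_left fun e0 => hfu (by
        have h9 := e0 ▸ hxI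
        rw [hFz, mem_bot] at h9
        rw [h9]; exact one_mem _)
    exact e1.symm.trans e2
  obtain ⟨e, he, heQ⟩ : ∃ e ∈ E, e ∉ Cfsg.pCore p G := SetLike.not_le_iff_exists.1 hE.not_le_core
  have hgenE := hE.exists_gen hE3.2 he heQ
  -- the action
  obtain ⟨M, iM, ⟨R⟩⟩ := exists_secRep hE.secW.toIsAbSec
  haveI := R.finite
  have hcardM : Nat.card M = 4 := by
    rw [← hEV, hEv, hEq]
    refine (Nat.card_eq_of_bijective (fun a : ↥(wE p E) => R.pr a) ⟨fun a b hab => ?_, fun m => ?_⟩).symm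
    · have h9 := (R.pr_eq_iff a.2 b.2).1 hab
      rw [hEz, mem_bot] at h9
      exact Subtype.ext (mul_inv_eq_one.1 h9)
    · obtain ⟨a, ha, ham⟩ := R.pr_surj m
      exact ⟨⟨a, ha⟩, ham⟩
  set e' : ↥(secN (wE p E) (zE p E)) := ⟨e, hE.secW.nE he⟩
  set f' : ↥(secN (wE p E) (zE p E)) := ⟨f, hfN⟩
  have hfree : ∀ m : M, R.act e' m = m → m = 0 := by
    intro m hm
    obtain ⟨a, ha, rfl⟩ := R.pr_surj m
    refine (R.pr_eq_zero a ha).2 (hE.secW.fix_le (S := (E : Set G)) subset_rfl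
      (fun x hx z hz => mul_mem (mul_mem (inv_mem hx) hz) hx) (by simpa using hE.nonfix_W) ha fun z hz => ?_)
    let K : Subgroup G :=
      { carrier := {z | ∃ hz : z ∈ secN (wE p E) (zE p E), R.act ⟨z, hz⟩ (R.pr a) = R.pr a}
        one_mem' := ⟨one_mem _, by rw [show (⟨1, one_mem _⟩ : ↥(secN (wE p E) (zE p E))) = 1 from rfl, map_one]; rfl⟩
        mul_mem' := fun {x y} ⟨hx, ex⟩ ⟨hy, ey⟩ => ⟨mul_mem hx hy, by
          rw [show (⟨x * y, mul_mem hx hy⟩ : ↥(secN (wE p E) (zE p E))) = ⟨x, hx⟩ * ⟨y, hy⟩ from rfl, map_mul,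
            AddMonoid.End.coe_mul, Function.comp_apply, ey, ex]⟩
        inv_mem' := fun {x} ⟨hx, ex⟩ => ⟨inv_mem hx, by
          have h9 := congrArg (fun t => R.act ⟨x⁻¹, inv_mem hx⟩ t) ex
          rw [← Function.comp_apply (f := R.act ⟨x⁻¹, inv_mem hx⟩) (g := R.act ⟨x, hx⟩), ← AddMonoid.End.coe_mul,
            ← map_mul, show (⟨x⁻¹, inv_mem hx⟩ : ↥(secN (wE p E) (zE p E))) * ⟨x, hx⟩ = 1 from
              Subtype.ext (inv_mul_cancel x), map_one] at h9
          exact h9.symm⟩ }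
    have hK : E ≤ K := hgenE.trans ((closure_le K).2 (Set.insert_subset ⟨e'.2, hm⟩ fun x hx =>
      ⟨hE.secW.nE (qE_le E hx), by rw [(R.triv_iff ⟨x, _⟩).1 (hE.triv_qE_W hx)]; rfl⟩))
    obtain ⟨hzN, hzf⟩ := hK hz
    refine (R.pr_eq_zero _ (SecRep.comm_mem ⟨z, hzN⟩ ha)).1 ?_
    rw [R.pr_comm ⟨z, hzN⟩ ha, hzf, sub_self]
  have he3 : e ^ 3 ∈ qE p E := ⟨pow_mem he 3, by
    refine (QuotientGroup.eq_one_iff _).1 ?_
    have := pow_card_eq_one' (x := (⟨_, mem_map_of_mem (QuotientGroup.mk' (Cfsg.pCore p G)) he⟩ : ↥(img p E)))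
    rw [hE3.2] at this
    exact (map_pow (QuotientGroup.mk' (Cfsg.pCore p G)) e 3).trans (congrArg Subtype.val this)⟩
  obtain ⟨m, hm⟩ : ∃ m : M, m ≠ 0 := by
    haveI : Nontrivial M := Finite.one_lt_card_iff_nontrivial.1 (by omega)
    exact exists_ne 0
  have hinj : Function.Injective (R.act e') := (injective_iff_map_eq_zero _).2 fun x hx => hfree x (by
    have h9 := congrArg (fun φ : AddMonoid.End M => φ x) ((R.triv_iff (e' ^ 3)).1 (hE.triv_qE_W he3))
    rw [map_pow, pow_succ, pow_succ, pow_one] at h9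
    simp only [AddMonoid.End.coe_mul, Function.comp_apply, hx, map_zero] at h9
    have : x = 0 := h9.symm
    rw [this, map_zero])
  obtain ⟨i, hi⟩ : ∃ i : ℕ, R.act f' m = R.act (e' ^ i) m := by
    classical
    haveI := Fintype.ofFinite M
    have h0 : R.act f' m ≠ 0 := fun h9 => hm (by
      have := congrArg (R.act f'⁻¹) h9
      rw [← Function.comp_apply (f := R.act f'⁻¹) (g := R.act f'), ← AddMonoid.End.coe_mul, ← map_mul,
        inv_mul_cancel, map_one, map_zero] at this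
      exact this)
    have ne0 : R.act e' m ≠ 0 := fun h9 => hm (hinj (h9.trans (map_zero _).symm))
    have ne1 : R.act e' (R.act e' m) ≠ 0 := fun h9 => ne0 (hinj (h9.trans (map_zero _).symm))
    have d01 : R.act e' m ≠ m := fun h9 => hm (hfree m h9)
    have d12 : R.act e' (R.act e' m) ≠ R.act e' m := fun h9 => ne0 (hfree _ h9)
    have d02 : R.act e' (R.act e' m) ≠ m := fun h9 => by
      have h3 := congrArg (fun φ : AddMonoid.End M => φ m) ((R.triv_iff (e' ^ 3)).1 (hE.triv_qE_W he3))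
      rw [map_pow, pow_succ, pow_succ, pow_one] at h3
      have h4 : R.act e' (R.act e' (R.act e' m)) = m := h3
      rw [h9] at h4
      exact d01 h4
    have huniv : ({0, m, R.act e' m, R.act e' (R.act e' m)} : Finset M) = Finset.univ := by
      apply Finset.eq_univ_of_card
      rw [← Nat.card_eq_fintype_card, hcardM, Finset.card_insert_of_notMem (by simp [Ne.symm hm, ne0.symm, ne1.symm]),
        Finset.card_insert_of_notMem (by simp [d01.symm, d02.symm]),
        Finset.card_insert_of_notMem (by simp [d12.symm]), Finset.card_singleton]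
    have := huniv.symm ▸ Finset.mem_univ (R.act f' m)
    simp only [Finset.mem_insert, Finset.mem_singleton] at this
    rcases this with h9 | h9 | h9 | h9
    · exact absurd h9 h0
    · exact ⟨0, by rw [pow_zero, map_one]; exact h9⟩
    · exact ⟨1, by rw [pow_one]; exact h9⟩
    · exact ⟨2, by rw [pow_two, map_mul]; exact h9⟩
  set c : G := (e ^ i)⁻¹ * f with hc
  have hcE : c ∈ normalizer (E : Set G) := mul_mem (inv_mem (pow_mem (le_normalizer he) i)) (hFN hf)
  have hcomm : ∀ x ∈ E, ⁅c, x⁆ ∈ qE p E := by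
    intro x hx
    have h1 : ⁅f, x⁆ ∈ qE p E := by
      have := commutator_le_qE hE hF h
      rw [commutator_comm] at this
      exact this (commutator_mem_commutator hf hx)
    have h3 : ⁅(e ^ i)⁻¹, x⁆ ∈ qE p E := by
      refine ⟨E.mul_mem (E.mul_mem (E.mul_mem (E.inv_mem (E.pow_mem he i)) hx) (E.inv_mem (E.inv_mem (E.pow_mem he i)))) (E.inv_mem hx),
        (QuotientGroup.eq_one_iff _).1 ?_⟩
      haveI : Fact (Nat.Prime 3) := ⟨Nat.prime_three⟩
      haveI : IsCyclic ↥(img p E) := isCyclic_of_prime_card hE3.2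
      have h9 : ∀ a b : ↥(img p E), a * b = b * a := (IsCyclic.commGroup (α := ↥(img p E))).mul_comm
      have := h9 ⟨_, mem_map_of_mem (QuotientGroup.mk' (Cfsg.pCore p G)) (E.inv_mem (E.pow_mem he i))⟩
        ⟨_, mem_map_of_mem (QuotientGroup.mk' (Cfsg.pCore p G)) hx⟩
      show QuotientGroup.mk' (Cfsg.pCore p G) ⁅(e ^ i)⁻¹, x⁆ = 1
      rw [map_commutatorElement, commutatorElement_eq_one_iff_mul_comm]
      exact congrArg Subtype.val this
    rw [hc, show ⁅(e ^ i)⁻¹ * f, x⁆ = (e ^ i)⁻¹ * ⁅f, x⁆ * (e ^ i) * ⁅(e ^ i)⁻¹, x⁆ by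
      simp only [commutatorElement_def]; group]
    exact mul_mem ((mem_normalizer_iff''.1 (qE_norm (le_normalizer (pow_mem he i))) _).1 h1) h3
  have hctriv : Triv (wE p E) (zE p E) c := by
    refine (hE.secW.triv_or_free (hE.norm_secW hcE) fun x hx => hE.triv_qE_W (hcomm x hx)).resolve_right fun hfr => ?_
    obtain ⟨a, ha, rfl⟩ := R.pr_surj m
    refine hm ((R.pr_eq_zero a ha).2 (hfr a ha ((R.pr_eq_zero _ (SecRep.comm_mem ⟨c, hE.norm_secW hcE⟩ ha)).1 ?_)))
    rw [R.pr_comm ⟨c, hE.norm_secW hcE⟩ ha,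
      show (⟨c, hE.norm_secW hcE⟩ : ↥(secN (wE p E) (zE p E))) = (e' ^ i)⁻¹ * f' from Subtype.ext (by simp [hc, e', f']),
      map_mul, AddMonoid.End.coe_mul, Function.comp_apply, hi, ← Function.comp_apply (f := R.act (e' ^ i)⁻¹),
      ← AddMonoid.End.coe_mul, ← map_mul, inv_mul_cancel, map_one]
    exact sub_self _
  have hcQ : c ∈ Cfsg.pCore p G := by
    refine mem_core_of_chain hG (W := wE p E) ((wE_le E).trans (qE_le_core E)) (m := 3) (by rw [h2]; norm_num)
      ?_ (mem_centralizer_iff.2 fun w hw => ?_) ?_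
    · refine (QuotientGroup.eq_one_iff _).1 ?_
      show QuotientGroup.mk' (Cfsg.pCore p G) (c ^ 3) = 1
      have hf3 : (QuotientGroup.mk' (Cfsg.pCore p G) f) ^ 3 = 1 := by
        have := pow_card_eq_one' (x := (⟨_, mem_map_of_mem (QuotientGroup.mk' (Cfsg.pCore p G)) hf⟩ : ↥(img p F)))
        rw [hF3.2] at this
        exact congrArg Subtype.val this
      have he3' : (QuotientGroup.mk' (Cfsg.pCore p G) e) ^ 3 = 1 := by
        rw [← map_pow]; exact (QuotientGroup.eq_one_iff _).2 (qE_le_core E he3)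
      have hcm : Commute (QuotientGroup.mk' (Cfsg.pCore p G) e) (QuotientGroup.mk' (Cfsg.pCore p G) f) := by
        rw [Commute, SemiconjBy, ← commutatorElement_eq_one_iff_mul_comm, ← map_commutatorElement]
        exact (QuotientGroup.eq_one_iff _).2 (h (commutator_mem_commutator he hf))
      rw [hc, map_pow, map_mul, map_inv, map_pow, ((hcm.pow_left i).inv_left).mul_pow, hf3, inv_pow, ← pow_mul,
        mul_comm i, pow_mul, he3', one_pow, inv_one, one_mul]
    · have h9 := hctriv w hw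
      rw [hEz, mem_bot] at h9
      exact (commutatorElement_eq_one_iff_mul_comm.1 h9).symm
    · have hQ : ∀ q ∈ Cfsg.pCore p G, ∀ x ∈ E, ⁅x, q⁆ ∈ wE p E := fun q hq x hx => by
        rw [← hEq, ← commutatorElement_inv q x]
        exact inv_mem (commutator_core_le hE.qn (commutator_mem_commutator hq hx))
      have hQF : ∀ q ∈ Cfsg.pCore p G, ⁅f, q⁆ ∈ wE p E := fun q hq => by
        rw [hWW, ← hFq, ← commutatorElement_inv q f]
        exact inv_mem (commutator_core_le hF.qn (commutator_mem_commutator hq hf))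
      intro q hq
      rw [hc, show ⁅(e ^ i)⁻¹ * f, q⁆ = (e ^ i)⁻¹ * ⁅f, q⁆ * (e ^ i) * ⁅(e ^ i)⁻¹, q⁆ by
        simp only [commutatorElement_def]; group]
      exact mul_mem ((mem_normalizer_iff''.1 (wE_norm (le_normalizer (pow_mem he i))) _).1 (hQF q hq))
        (hQ q hq _ (inv_mem (pow_mem he i)))
  have hfEQ : f ∈ E ⊔ Cfsg.pCore p G := by
    rw [← mul_inv_cancel_left (e ^ i) f]
    exact mul_mem (mem_sup_left (pow_mem he i)) (mem_sup_right hcQ)
  have hfQ : f ∉ Cfsg.pCore p G := fun h9 => hfW (fun a ha => by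
    rw [show ⁅f, a⁆ = 1 from commutatorElement_eq_one_iff_mul_comm.2
      (wE_comm (hWW ▸ ha : a ∈ wE p F) ⟨hf, h9⟩)]
    exact one_mem _)
  have hFE : F ≤ E := hF.le_of_le_sup hE ((hF.exists_gen hF3.2 hf hfQ).trans ((closure_le _).2
    (Set.insert_subset hfEQ fun x hx => mem_sup_right (qE_le_core F hx))))
  refine le_antisymm (hE.le_of_le_sup hF ?_) hFE
  have himg : img p F = img p E := Subgroup.eq_of_le_of_card_ge (map_mono hFE) (by rw [hE3.2, hF3.2])
  have : E ≤ (img p F).comap (QuotientGroup.mk' _) := himg ▸ le_comap_map _ _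
  rwa [img, comap_map_eq, QuotientGroup.ker_mk'] at this

/-- The trivial action of `F` on both sections of `E` gives commutation. -/
theorem commutator_eq_bot_of_trivOn (hE : SBlock p E) (hF : SBlock p F) (h : ⁅E, F⁆ ≤ Cfsg.pCore p G)
    (ht : TrivOn p E F) : ⁅E, F⁆ = ⊥ := by
  obtain ⟨hFN, hEN⟩ := mutNorm hE hF h
  have hq := commutator_le_qE hE hF h
  have hV : F ≤ centralizer (vE p E : Set G) := by
    refine commutator_eq_bot_iff_le_centralizer.1 ?_
    rw [commutator_comm, vE]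
    refine commutator_commutator_eq_bot_of_rotate ?_ ?_
    · refine commutator_eq_bot_iff_le_centralizer.2 fun x hx => mem_centralizer_iff.2 fun w hw => ?_
      exact (wE_comm hw (hq hx)).symm
    · refine commutator_eq_bot_iff_le_centralizer.2 fun x hx => ?_
      have hle : ⁅F, wE p E⁆ ≤ zE p E := commutator_le.2 fun a ha b hb => ht.1 a ha b hb
      exact (hle hx).2
  have hQ : F ≤ centralizer (qE p E : Set G) := by
    by_cases hex : qE p E = wE p E
    · rwa [← hE.vE_eq_wE_of_eq hex]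
    · have hzf : ∀ f ∈ F, ∀ z ∈ zE p E, f * z = z * f := by
        intro f hf
        have hle : zE p E ≤ centralizer ({f} : Set G) := by
          rw [← (hE.exc hex).2.2.1, commutator_le]
          intro a ha b hb
          refine mem_centralizer_iff.2 fun y hy => ?_
          obtain rfl := Set.mem_singleton_iff.1 hy
          have hconj : ∀ a ∈ qE p E, ∀ b ∈ qE p E, y * ⁅a, b⁆ * y⁻¹ = ⁅a, b⁆ := by
            intro a ha b hb
            obtain ⟨wa, hwa, ea⟩ : ∃ wa ∈ wE p E, y * a * y⁻¹ = wa * a :=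
              ⟨⁅y, a⁆, ht.2 hex y hf a ha, by rw [commutatorElement_def]; group⟩
            obtain ⟨wb, hwb, eb⟩ : ∃ wb ∈ wE p E, y * b * y⁻¹ = wb * b :=
              ⟨⁅y, b⁆, ht.2 hex y hf b hb, by rw [commutatorElement_def]; group⟩
            have c1 : ∀ q ∈ qE p E, wa * q = q * wa := fun q hq => (wE_comm hwa hq).symm
            have c2 : ∀ q ∈ qE p E, wb * q = q * wb := fun q hq => (wE_comm hwb hq).symm
            calc y * ⁅a, b⁆ * y⁻¹ = ⁅y * a * y⁻¹, y * b * y⁻¹⁆ := by simp only [commutatorElement_def]; group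
              _ = ⁅wa * a, wb * b⁆ := by rw [ea, eb]
              _ = wa * (a * (wb * b) * a⁻¹) * wa⁻¹ * (wb * b)⁻¹ := by simp only [commutatorElement_def]; group
              _ = (a * (wb * b) * a⁻¹) * (wb * b)⁻¹ := by
                rw [c1 _ (mul_mem (mul_mem ha (mul_mem (wE_le E hwb) hb)) (inv_mem ha))]; group
              _ = wb * (a * b * a⁻¹) * b⁻¹ * wb⁻¹ := by
                rw [show a * (wb * b) * a⁻¹ = wb * (a * b * a⁻¹) by
                  rw [← mul_assoc a wb b, ← c2 a ha]; group]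
                group
              _ = wb * ⁅a, b⁆ * wb⁻¹ := by simp only [commutatorElement_def]; group
              _ = ⁅a, b⁆ := by
                rw [c2 ⁅a, b⁆ (mul_mem (mul_mem (mul_mem ha hb) (inv_mem ha)) (inv_mem hb))]; group
          exact mul_inv_eq_iff_eq_mul.1 (hconj a ha b hb)
        exact fun z hz => mem_centralizer_iff.1 (hle hz) f rfl
      have hW : F ≤ centralizer (wE p E : Set G) := by
        intro f hf
        have hle : wE p E ≤ centralizer ({f} : Set G) := by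
          rw [← hE.vz]
          refine sup_le (fun v hv => mem_centralizer_iff.2 fun y hy => ?_) fun z hz => mem_centralizer_iff.2 fun y hy => ?_
          · rw [Set.mem_singleton_iff.1 hy]; exact (mem_centralizer_iff.1 (hV hf) v hv).symm
          · rw [Set.mem_singleton_iff.1 hy]; exact hzf f hf z hz
        exact mem_centralizer_iff.2 fun w hw => (mem_centralizer_iff.1 (hle hw) f rfl).symm
      refine CfsgLib.BaumannBlock.le_centralizer_of_stabilizes (D := wE p E) ?_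
        ((isPGroup_qE E).to_le (wE_le E)) (fun x hx d hd => ?_) fun x hx m hm => ht.2 hex x hx m hm
      · rw [CfsgLib.BaumannNormal.pResidualOf_eq_closure]
        exact le_antisymm ((closure_le _).2 fun x hx => hx.1) hF.res
      · rw [mul_inv_eq_iff_eq_mul]
        exact (mem_centralizer_iff.1 (hW hx) d hd).symm
  rw [commutator_comm]
  refine commutator_eq_bot_iff_le_centralizer.2 (CfsgLib.BaumannBlock.le_centralizer_of_stabilizes
    (D := qE p E) ?_ (isPGroup_qE E) (fun x hx d hd => ?_) fun x hx m hm => ?_)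
  · rw [CfsgLib.BaumannNormal.pResidualOf_eq_closure]
    exact le_antisymm ((closure_le _).2 fun x hx => hx.1) hF.res
  · rw [mul_inv_eq_iff_eq_mul]
    exact (mem_centralizer_iff.1 (hQ hx) d hd).symm
  · rw [← commutatorElement_def, ← commutatorElement_inv m x]
    exact inv_mem (hq (commutator_mem_commutator hm hx))

/-- Blocks commuting modulo `O_p(G)` are equal or commute. -/
theorem eq_or_commute (hG : centralizer (Cfsg.pCore p G : Set G) ≤ Cfsg.pCore p G) (hE : SBlock p E)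
    (hF : SBlock p F) (h : ⁅E, F⁆ ≤ Cfsg.pCore p G) : E = F ∨ ⁅E, F⁆ = ⊥ := by
  by_cases ht : TrivOn p E F
  · exact Or.inr (commutator_eq_bot_of_trivOn hE hF h ht)
  refine Or.inl ?_
  have h' : ⁅F, E⁆ ≤ Cfsg.pCore p G := by rwa [commutator_comm]
  by_cases hE3 : IsThree p E
  · by_cases hF3 : IsThree p F
    · exact three_eq hG hE hF h hE3 hF3 ht
    · exact absurd (trivOn_of_swap hE hF h hE3.1 (trivOn_of_nfix hF hE h' hF3)) ht
  · exact absurd (trivOn_of_nfix hE hF h hE3) ht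

end SBlock

end CfsgLib.SubBlock
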