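import Cfsg.Agent.Lib.Char.SubBlock.Basic

/-!
# Conjugates of subnormal blocks
-/

set_option autoImplicit false
set_option linter.unusedSectionVars false

open Subgroup
open scoped commutatorElement

namespace CfsgLib.SubBlock

universe u
variable {G : Type u} [Group G] [Finite G] {p : ℕ} [hp : Fact p.Prime]

attribute [local instance] CfsgLib.Coprime.pCore_normal'

/-- The conjugate of a subgroup. -/
def cjS (g : G) (E : Subgroup G) : Subgroup G := E.map (MulAut.conj g).toMonoidHom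

theorem mem_cjS {g x : G} {E : Subgroup G} : x ∈ cjS g E ↔ g⁻¹ * x * g ∈ E := by
  rw [cjS, Subgroup.mem_map_equiv]
  simp [MulAut.conj_symm_apply]

theorem conj_mem_cjS {g x : G} {E : Subgroup G} (h : x ∈ E) : g * x * g⁻¹ ∈ cjS g E := ⟨x, h, rfl⟩

theorem map_core (g : G) : cjS g (Cfsg.pCore p G) = Cfsg.pCore p G := CfsgLib.Coprime.map_pCore_equiv _ p

theorem conj_mem_core_iff (g x : G) : g * x * g⁻¹ ∈ Cfsg.pCore p G ↔ x ∈ Cfsg.pCore p G :=
  ((mem_normalizer_iff.1 (by rw [normalizer_eq_top_iff.2 (CfsgLib.Coprime.pCore_normal' p)]; exact mem_top g)) x).symm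

theorem qE_cjS (g : G) (E : Subgroup G) : qE p (cjS g E) = cjS g (qE p E) := by
  rw [qE, qE, cjS, cjS, map_inf _ _ _ (MulAut.conj g).injective]
  exact congrArg _ (map_core g).symm

theorem wE_cjS (g : G) (E : Subgroup G) : wE p (cjS g E) = cjS g (wE p E) := by
  rw [wE, qE_cjS, wE, Cfsg.omegaOneCenter, Cfsg.omegaOneCenter, cjS, cjS,
    CfsgLib.LS.map_omegaOne_center (MulAut.conj g).injective]

theorem zE_cjS (g : G) (E : Subgroup G) : zE p (cjS g E) = cjS g (zE p E) := by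
  ext x
  simp only [zE, mem_inf, wE_cjS, mem_cjS, mem_centralizer_iff]
  refine and_congr_right fun _ => ⟨fun h e he => ?_, fun h e he => ?_⟩
  · have h1 := h _ (conj_mem_cjS (g := g) he)
    calc e * (g⁻¹ * x * g) = g⁻¹ * (g * e * g⁻¹ * x) * g := by group
      _ = g⁻¹ * (x * (g * e * g⁻¹)) * g := by rw [h1]
      _ = g⁻¹ * x * g * e := by group
  · have h1 := h _ (mem_cjS.1 he)
    calc e * x = g * ((g⁻¹ * e * g) * (g⁻¹ * x * g)) * g⁻¹ := by group
      _ = g * ((g⁻¹ * x * g) * (g⁻¹ * e * g)) * g⁻¹ := by rw [h1]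
      _ = x * e := by group

theorem vE_cjS (g : G) (E : Subgroup G) : vE p (cjS g E) = cjS g (vE p E) := by
  rw [vE, wE_cjS, vE, cjS, cjS, cjS, map_commutator]

theorem vG_conj (g : G) {x : G} (hx : x ∈ vG G p) : g * x * g⁻¹ ∈ vG G p := by
  have h : cjS g (vG G p) = vG G p := by
    rw [vG, Cfsg.omegaOneCenter, cjS, CfsgLib.LS.map_omegaOne_center (MulAut.conj g).injective,
      CfsgLib.Coprime.map_pCore_equiv]
  exact h ▸ conj_mem_cjS hx

theorem img_cjS (g : G) (E : Subgroup G) :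
    img p (cjS g E) = (img p E).map (MulAut.conj (QuotientGroup.mk' (Cfsg.pCore p G) g)).toMonoidHom := by
  rw [img, img, cjS, map_map, map_map]
  congr 1

theorem triv_cjS {g z : G} {A A₀ : Subgroup G} : Triv (cjS g A) (cjS g A₀) (g * z * g⁻¹) ↔ Triv A A₀ z := by
  constructor
  · intro h a ha
    have h1 := h _ (conj_mem_cjS (g := g) ha)
    rw [mem_cjS] at h1
    rwa [show g⁻¹ * ⁅g * z * g⁻¹, g * a * g⁻¹⁆ * g = ⁅z, a⁆ by simp only [commutatorElement_def]; group] at h1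
  · intro h a ha
    rw [mem_cjS, show g⁻¹ * ⁅g * z * g⁻¹, a⁆ * g = ⁅z, g⁻¹ * a * g⁆ by simp only [commutatorElement_def]; group]
    exact h _ (mem_cjS.1 ha)

theorem cjS_le_iff {g : G} {A B : Subgroup G} : cjS g A ≤ cjS g B ↔ A ≤ B :=
  map_le_map_iff_of_injective (MulAut.conj g).injective

theorem cjS_inj {g : G} {A B : Subgroup G} : cjS g A = cjS g B ↔ A = B :=
  (map_injective (MulAut.conj g).injective).eq_iff

theorem cjS_bot (g : G) : cjS g (⊥ : Subgroup G) = ⊥ := Subgroup.map_bot _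

theorem card_cjS (g : G) (A : Subgroup G) : Nat.card ↥(cjS g A) = Nat.card ↥A :=
  (Nat.card_congr (A.equivMapOfInjective _ (MulAut.conj g).injective).toEquiv).symm

theorem cjS_norm {g x : G} {A : Subgroup G} (hx : x ∈ normalizer (A : Set G)) :
    g * x * g⁻¹ ∈ normalizer (cjS g A : Set G) := by
  refine mem_normalizer_iff.2 fun y => ?_
  rw [mem_cjS, mem_cjS, mem_normalizer_iff.1 hx (g⁻¹ * y * g)]
  rw [show x * (g⁻¹ * y * g) * x⁻¹ = g⁻¹ * (g * x * g⁻¹ * y * (g * x * g⁻¹)⁻¹) * g by group]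

theorem irr_cjS {g : G} {E A A₀ : Subgroup G}
    (h : ∀ M : Subgroup G, M ≤ A → A₀ ≤ M → E ≤ normalizer (M : Set G) → M = A₀ ∨ M = A) :
    ∀ M : Subgroup G, M ≤ cjS g A → cjS g A₀ ≤ M → cjS g E ≤ normalizer (M : Set G) → M = cjS g A₀ ∨ M = cjS g A := by
  intro M h1 h2 h3
  have e : cjS g (cjS g⁻¹ M) = M := by
    ext x; simp [mem_cjS, mul_assoc]
  refine (h (cjS g⁻¹ M) (cjS_le_iff (g := g).1 (e.le.trans h1)) (cjS_le_iff (g := g).1 (h2.trans e.ge)) ?_).imp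
    (fun h9 => by rw [← e, h9]) fun h9 => by rw [← e, h9]
  intro x hx
  have h4 := cjS_norm (g := g⁻¹) (h3 (conj_mem_cjS hx))
  simpa [mul_assoc] using h4

namespace SBlock

theorem conj {E : Subgroup G} (hb : SBlock p E) (g : G) : SBlock p (cjS g E) := by
  have himg : Nat.card ↥(img p (cjS g E)) = Nat.card ↥(img p E) := by
    rw [img_cjS]
    exact (Nat.card_congr ((img p E).equivMapOfInjective _ (MulAut.conj _).injective).toEquiv).symm
  have h3 : IsThree p (cjS g E) ↔ IsThree p E := by rw [IsThree, IsThree, himg]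
  refine ⟨CfsgLib.Coprime.isSubnormal_conjBy hb.sn g, ?_, ?_, ?_, ?_, ?_, ?_, ?_, ?_, ?_, ?_, ?_⟩
  · refine (map_mono hb.res).trans ((MonoidHom.map_closure _ _).le.trans (closure_mono ?_))
    rintro _ ⟨x, ⟨hx, ho⟩, rfl⟩
    exact ⟨⟨x, hx, rfl⟩, (orderOf_injective (MulAut.conj g).toMonoidHom (MulAut.conj g).injective x).symm ▸ ho⟩
  · exact fun h => hb.ne (cjS_inj (g := g).1 (h.trans (cjS_bot g).symm))
  · intro q hq
    have h1 := cjS_norm (g := g) (hb.qn (show g⁻¹ * q * g ∈ Cfsg.pCore p G from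
      (conj_mem_core_iff (g := g) _).1 (by simpa [mul_assoc] using hq)))
    simpa [mul_assoc] using h1
  · rw [qE_cjS, cjS, cjS, ← map_commutator, hb.commQ]
  · intro x hx
    obtain ⟨h1, h2⟩ := mem_inf.1 hx
    refine (conj_mem_core_iff (g := g⁻¹) x).1 (hb.ker (mem_inf.2 ⟨by simpa using mem_cjS.1 h1,
      mem_centralizer_iff.2 fun v hv => ?_⟩))
    have h4 := mem_centralizer_iff.1 h2 (g * v * g⁻¹) (by rw [vE_cjS]; exact conj_mem_cjS hv)
    rw [inv_inv]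
    calc v * (g⁻¹ * x * g) = g⁻¹ * (g * v * g⁻¹ * x) * g := by group
      _ = g⁻¹ * (x * (g * v * g⁻¹)) * g := by rw [h4]
      _ = g⁻¹ * x * g * v := by group
  · rw [vE_cjS, zE_cjS, wE_cjS, cjS, cjS, cjS, ← Subgroup.map_sup, hb.vz]
  · intro x hx
    rw [vE_cjS, mem_cjS] at hx
    simpa [mul_assoc] using vG_conj g (hb.vV hx)
  · rw [wE_cjS, zE_cjS]
    exact irr_cjS hb.irr
  · rw [qE_cjS, wE_cjS, zE_cjS, ne_eq, cjS_inj]
    intro hne
    obtain ⟨a, b, c, d⟩ := hb.exc hne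
    refine ⟨a, irr_cjS b, ?_, fun h => d (cjS_inj (g := g).1 (h.trans (cjS_bot g).symm))⟩
    rw [cjS, cjS, ← map_commutator, c]
  · rw [h3]
    intro hn
    obtain ⟨⟨z, hz, hzn⟩, hq⟩ := hb.nfix hn
    have hmem : ∀ z ∈ ⁅E, E⁆, g * z * g⁻¹ ∈ ⁅cjS g E, cjS g E⁆ := fun z hz => by
      rw [cjS, ← map_commutator]; exact ⟨z, hz, rfl⟩
    refine ⟨⟨_, hmem z hz, by rw [wE_cjS, zE_cjS, triv_cjS]; exact hzn⟩, ?_⟩
    rw [qE_cjS, wE_cjS, ne_eq, cjS_inj]
    intro hne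
    obtain ⟨y, hy, hyn⟩ := hq hne
    exact ⟨_, hmem y hy, by rw [triv_cjS]; exact hyn⟩
  · rw [himg, h3, vE_cjS, qE_cjS, wE_cjS, zE_cjS, card_cjS, cjS_inj]
    rcases hb.kind with hk | ⟨h, hq, hc, hz⟩ | ⟨hp3, hc, hv, hvz, h1, h2, ⟨e, he, hen⟩, hex⟩
    · exact Or.inl ((img_cjS (p := p) g E) ▸ CfsgLib.Coprime.isComponent_map_equiv _ hk)
    · exact Or.inr (Or.inl ⟨h, hq, hc, by rw [hz, cjS_bot]⟩)
    · have hpow : ∀ (x : G) (n : ℕ), (g * x * g⁻¹) ^ n = g * x ^ n * g⁻¹ := fun x n => conj_pow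
      refine Or.inr (Or.inr ⟨hp3, hc, hv, ?_, ?_, ?_, ⟨g * e * g⁻¹, conj_mem_cjS he, ?_⟩, ?_⟩)
      · rw [cjS, cjS, ← map_inf _ _ _ (MulAut.conj g).injective, hvz, Subgroup.map_bot]
      · rintro _ ⟨x, hx, rfl⟩ hxn _ ⟨v, hv', rfl⟩
        simp only [MulEquiv.toMonoidHom_eq_coe, MonoidHom.coe_coe, MulAut.conj_apply, hpow] at hxn ⊢
        rw [conj_mem_core_iff] at hxn
        rw [show (g * v * g⁻¹)⁻¹ = g * v⁻¹ * g⁻¹ by group, ← h1 x hx hxn v hv']
        group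
      · rintro _ ⟨x, hx, rfl⟩ hxn hx2
        simp only [MulEquiv.toMonoidHom_eq_coe, MonoidHom.coe_coe, MulAut.conj_apply, hpow] at hxn hx2 ⊢
        rw [conj_mem_core_iff] at hxn hx2
        obtain ⟨y, hy, hy2, hyx⟩ := h2 x hx hxn hx2
        refine ⟨g * y * g⁻¹, conj_mem_cjS hy, by rwa [hpow, conj_mem_core_iff], ?_⟩
        rw [hpow, show (g * x * g⁻¹)⁻¹ * (g * y ^ 2 * g⁻¹) = g * (x⁻¹ * y ^ 2) * g⁻¹ by group, conj_mem_core_iff]
        exact hyx
      · rwa [hpow, conj_mem_core_iff]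
      · intro hne
        obtain ⟨hcard, t, ht, htp, htn⟩ := hex fun h9 => hne (congrArg (cjS g) h9)
        have hz : zpowers (g * t * g⁻¹) = cjS g (zpowers t) :=
          (MonoidHom.map_zpowers (MulAut.conj g).toMonoidHom t).symm
        refine ⟨by simp only [card_cjS]; exact hcard, g * t * g⁻¹, cjS_norm ht, ?_, ?_⟩
        · rw [hz]; exact htp.map _
        · rw [hz, cjS, cjS, cjS, ← map_commutator, ← map_commutator]
          exact fun h9 => htn (cjS_le_iff (g := g).1 h9)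

end SBlock

end CfsgLib.SubBlock
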