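import Cfsg.Agent.Lib.Invol.CharTwo
import Cfsg.Prelude.Def_Transfer
import Mathlib.GroupTheory.FiniteAbelian.Duality
import Mathlib.Analysis.Complex.Polynomial.Basic
import Mathlib.RingTheory.RootsOfUnity.AlgebraicallyClosed

/-!
# An abelian group with a simple fixed-point space acts through fewer elements than the module has
-/

set_option autoImplicit false
set_option linter.unusedSectionVars false
set_option linter.style.haveILetI false

open Subgroup
open scoped commutatorElement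

namespace CfsgLib.SubBlock

universe u
variable {G : Type u} [Group G] [Finite G] {p : ℕ} [hp : Fact p.Prime]

/-- If the fixed points of the abelian `p`-group `P` on the abelian `p`-group `L` have order at most `p`,
then `|P : C_P(L)| < |L|`. -/
theorem card_lt_of_fixed_le {P L : Subgroup G} (hP : IsPGroup p ↥P) (hPc : ∀ a ∈ P, ∀ b ∈ P, a * b = b * a)
    (hL : IsPGroup p ↥L) (hLc : ∀ a ∈ L, ∀ b ∈ L, a * b = b * a) (hne : L ≠ ⊥)
    (hPL : P ≤ normalizer (L : Set G)) (hfix : Nat.card ↥(L ⊓ centralizer (P : Set G)) ≤ p) :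
    Nat.card ↥P < Nat.card ↥L * Nat.card ↥(P ⊓ centralizer (L : Set G)) := by
  classical
  letI iL : CommGroup ↥L :=
    { (inferInstance : Group ↥L) with mul_comm := fun a b => Subtype.ext (hLc a a.2 b b.2) }
  obtain ⟨c, hc, hco, hcP⟩ := CfsgLib.Invol.exists_fixed_of_normalized hP hL hne hPL
  have hc1 : (⟨c, hc⟩ : ↥L) ≠ 1 := fun h => hp.out.one_lt.ne' (by
    rw [← hco, show c = 1 from congrArg Subtype.val h, orderOf_one])
  obtain ⟨χ, hχ⟩ := CommGroup.exists_apply_ne_one_of_hasEnoughRootsOfUnity (↥L) ℂ hc1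
  have hcfix : ∀ x ∈ P, x * c * x⁻¹ = c := fun x hx => by
    rw [mul_inv_eq_iff_eq_mul]
    exact mem_centralizer_singleton_iff.1 (hcP hx)
  let cj : ↥P → (↥L →* ↥L) := fun x => MonoidHom.mk'
    (fun a => (⟨(x : G) * a * (x : G)⁻¹, (mem_normalizer_iff.1 (hPL x.2) a).1 a.2⟩ : ↥L))
    (fun a b => Subtype.ext (by show (x : G) * (a * b : G) * _ = (x * a * (x : G)⁻¹ : G) * (x * b * (x : G)⁻¹); group))
  let f : ↥P → {φ : ↥L →* ℂˣ // φ ≠ 1} := fun x => ⟨χ.comp (cj x), fun h => hχ (by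
    have h1 := DFunLike.congr_fun h ⟨c, hc⟩
    simp only [MonoidHom.comp_apply, MonoidHom.one_apply] at h1
    rwa [show cj x ⟨c, hc⟩ = ⟨c, hc⟩ from Subtype.ext (hcfix x x.2)] at h1)⟩
  have hinj : ∀ x y : ↥P, f x = f y → ((x⁻¹ * y : ↥P) : G) ∈ centralizer (L : Set G) := by
    intro x y hxy
    have h0 : ∀ a : ↥L, χ (cj x a) = χ (cj y a) := fun a => DFunLike.congr_fun (congrArg Subtype.val hxy) a
    obtain ⟨s, hs⟩ : ∃ s : ↥P, s = x⁻¹ * y := ⟨_, rfl⟩
    rw [← hs]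
    have hs' : ∀ a : ↥L, χ (cj s a) = χ a := by
      intro a
      have h1 := h0 (cj x⁻¹ a)
      rw [show cj x (cj x⁻¹ a) = a from Subtype.ext (by simp [cj, mul_assoc]),
        show cj y (cj x⁻¹ a) = cj s a from Subtype.ext (by
          show (y : G) * ((x⁻¹ : ↥P) * (a : G) * ((x⁻¹ : ↥P) : G)⁻¹) * (y : G)⁻¹ = (s : G) * a * (s : G)⁻¹
          rw [hs, Subgroup.coe_mul, Subgroup.coe_inv, hPc _ (inv_mem x.2) _ y.2]
          group)] at h1
      exact h1.symm
    let φ : ↥L →* ↥L := cj s / MonoidHom.id _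
    have hφ : ∀ a, χ (φ a) = 1 := fun a => by
      simp only [φ, MonoidHom.div_apply, MonoidHom.id_apply, map_div, hs', div_self']
    by_contra hne'
    obtain ⟨R, hR⟩ : ∃ R, R = φ.range.map L.subtype := ⟨_, rfl⟩
    have hRne : R ≠ ⊥ := fun h => hne' (mem_centralizer_iff.2 fun a ha => by
      have h1 : ((φ ⟨a, ha⟩ : ↥L) : G) ∈ R := hR ▸ ⟨_, ⟨_, rfl⟩, rfl⟩
      rw [h, mem_bot] at h1
      have h2 : φ ⟨a, ha⟩ = 1 := Subtype.ext h1
      simp only [φ, MonoidHom.div_apply, MonoidHom.id_apply, div_eq_one] at h2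
      exact (mul_inv_eq_iff_eq_mul.1 (congrArg Subtype.val h2)).symm)
    have hRL : R ≤ L := hR ▸ map_subtype_le _
    have hPR : P ≤ normalizer (R : Set G) := by
      intro g hg
      refine mem_normalizer_iff.2 fun r => ?_
      have key : ∀ g ∈ P, ∀ r ∈ R, g * r * g⁻¹ ∈ R := by
        intro g hg r hr
        rw [hR] at hr ⊢
        obtain ⟨_, ⟨a, rfl⟩, rfl⟩ := hr
        refine ⟨φ (cj ⟨g, hg⟩ a), ⟨_, rfl⟩, ?_⟩
        simp only [φ, MonoidHom.div_apply, MonoidHom.id_apply, div_eq_mul_inv]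
        show (s : G) * (g * a * g⁻¹) * (s : G)⁻¹ * (g * a * g⁻¹)⁻¹ = g * ((s : G) * a * (s : G)⁻¹ * (a : G)⁻¹) * g⁻¹
        rw [show g * ((s : G) * a * (s : G)⁻¹ * (a : G)⁻¹) * g⁻¹ = (g * s) * a * (g * s)⁻¹ * (g * a * g⁻¹)⁻¹ by group,
          hPc g hg s s.2]
        group
      exact ⟨key g hg r, fun h => by simpa [mul_assoc] using key g⁻¹ (inv_mem hg) _ h⟩
    obtain ⟨t, htR, hto, htP⟩ := CfsgLib.Invol.exists_fixed_of_normalized hP (hL.to_le hRL) hRne hPR
    have hmem : ∀ {v}, v ∈ L → P ≤ centralizer ({v} : Set G) → v ∈ L ⊓ centralizer (P : Set G) :=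
      fun {v} hv hvP => ⟨hv, mem_centralizer_iff.2 fun x hx => mem_centralizer_singleton_iff.1 (hvP hx)⟩
    have heq : zpowers t = L ⊓ centralizer (P : Set G) := eq_of_le_of_card_ge
      (zpowers_le.2 (hmem (hRL htR) htP)) (by rw [Nat.card_zpowers, hto]; exact hfix)
    have hcR : c ∈ R := (zpowers_le.2 htR) (heq.ge (hmem hc hcP))
    rw [hR] at hcR
    obtain ⟨_, ⟨a, rfl⟩, ha⟩ := hcR
    exact hχ (by rw [← show φ a = ⟨c, hc⟩ from Subtype.ext ha]; exact hφ a)
  haveI : Finite (↥L →* ℂˣ) := Nat.finite_of_card_ne_zero (by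
    rw [CommGroup.card_monoidHom_of_hasEnoughRootsOfUnity]; exact Nat.card_pos.ne')
  obtain ⟨K, hK⟩ : ∃ K, K = (P ⊓ centralizer (L : Set G)).subgroupOf P := ⟨_, rfl⟩
  have hKc : Nat.card ↥K = Nat.card ↥(P ⊓ centralizer (L : Set G)) := by
    rw [hK]; exact Nat.card_congr (subgroupOfEquivOfLe inf_le_left).toEquiv
  have hq : Nat.card (↥P ⧸ K) ≤ Nat.card {φ : ↥L →* ℂˣ // φ ≠ 1} := by
    refine Nat.card_le_card_of_injective (fun q => f q.out) fun q q' h => ?_
    rw [← QuotientGroup.out_eq' q, ← QuotientGroup.out_eq' q', QuotientGroup.eq]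
    exact hK.ge (mem_subgroupOf.2 ⟨SetLike.coe_mem _, hinj _ _ h⟩)
  have hlt : Nat.card {φ : ↥L →* ℂˣ // φ ≠ 1} < Nat.card ↥L := by
    rw [← CommGroup.card_monoidHom_of_hasEnoughRootsOfUnity (↥L) ℂ]
    haveI := Fintype.ofFinite (↥L →* ℂˣ)
    rw [Nat.card_eq_fintype_card, Nat.card_eq_fintype_card]
    exact Fintype.card_subtype_lt (x := (1 : ↥L →* ℂˣ)) (by simp)
  rw [card_eq_card_quotient_mul_card_subgroup K, hKc]
  exact Nat.mul_lt_mul_of_pos_right (hq.trans_lt hlt) Nat.card_pos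

end CfsgLib.SubBlock
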