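import Cfsg.Agent.Lib.Char.SubBlock.Kernel

/-!
# The elements acting like an element of the block
-/

set_option autoImplicit false
set_option linter.unusedSectionVars false
set_option linter.style.haveILetI false

open Subgroup
open scoped commutatorElement

namespace CfsgLib.SubBlock

universe u
variable {G : Type u} [Group G] [Finite G] {p : ℕ} [hp : Fact p.Prime] {E : Subgroup G}

attribute [local instance] CfsgLib.Coprime.pCore_normal'

/-- The normalising elements that centralise `[W, E]`. -/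
def kE (p : ℕ) (E : Subgroup G) : Subgroup G := normalizer (E : Set G) ⊓ centralizer (vE p E : Set G)

/-- The elements acting on `[W, E]` like an element of `E`. -/
def ekSub (p : ℕ) (E : Subgroup G) : Subgroup G := E ⊔ kE p E

theorem kE_norm {x : G} (hx : x ∈ normalizer (E : Set G)) : x ∈ normalizer (kE p E : Set G) :=
  CfsgLib.Coprime.inf_le_normalizer (A := normalizer (E : Set G)) le_normalizer
    (fun y hy => CfsgLib.Coprime.normalizer_le_normalizer_centralizer _ (vE_norm hy)) hx

theorem ekSub_norm {x : G} (hx : x ∈ normalizer (E : Set G)) : x ∈ normalizer (ekSub p E : Set G) :=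
  CfsgLib.Coprime.sup_le_normalizer (A := zpowers x) (zpowers_le.2 hx) (zpowers_le.2 (kE_norm hx)) (mem_zpowers x)

theorem ekSub_le : ekSub p E ≤ normalizer (E : Set G) := sup_le le_normalizer inf_le_left

theorem mem_ekSub_iff {x : G} :
    x ∈ ekSub p E ↔ x ∈ normalizer (E : Set G) ∧ ∃ e ∈ E, e⁻¹ * x ∈ centralizer (vE p E : Set G) := by
  constructor
  · intro hx
    obtain ⟨e, he, k, hk, rfl⟩ := CfsgLib.Coprime.mem_sup_exists (fun y hy => (mem_inf.1 hy).1) hx
    exact ⟨ekSub_le hx, e, he, by rw [inv_mul_cancel_left]; exact (mem_inf.1 hk).2⟩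
  · rintro ⟨hx, e, he, hex⟩
    rw [← mul_inv_cancel_left e x]
    exact mul_mem (mem_sup_left he) (mem_sup_right (mem_inf.2 ⟨mul_mem (inv_mem (le_normalizer he)) hx, hex⟩))

theorem SBlock.mem_ekSub (hb : SBlock p E) {x : G} (hx : x ∈ normalizer (E : Set G)) {e : G} (he : e ∈ E)
    (ht : Triv (wE p E) (zE p E) (e⁻¹ * x)) : x ∈ ekSub p E :=
  mem_ekSub_iff.2 ⟨hx, e, he, hb.cent_vE_of_triv (mul_mem (inv_mem (le_normalizer he)) hx) ht⟩

/-- `E` meets the kernel in `O_p(E)`. -/
theorem SBlock.inf_kE_le (hb : SBlock p E) {x : G} (hx : x ∈ E) (hk : x ∈ centralizer (vE p E : Set G)) :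
    x ∈ qE p E :=
  ⟨hx, hb.ker (mem_inf.2 ⟨hx, hk⟩)⟩

end CfsgLib.SubBlock
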