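import Cfsg.Agent.Lib.Char.SubBlock.Basic

/-!
# The module of a small block splits
-/

set_option autoImplicit false
set_option linter.unusedSectionVars false
set_option linter.style.haveILetI false

open Subgroup
open scoped commutatorElement

namespace CfsgLib.SubBlock

universe u
variable {G : Type u} [Group G] [Finite G] {p : ℕ} [hp : Fact p.Prime] {E : Subgroup G}

attribute [local instance] CfsgLib.Coprime.pCore_normal'

/-- An element central modulo `Q` whose order modulo `Q` is prime to `p` splits `W = [W, E] × C_W(E)`. -/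
theorem fitting {e : G} {k : ℕ} (he : e ∈ E) (hne : e ∉ qE p E) (hcent : ∀ g ∈ E, g * e * g⁻¹ * e⁻¹ ∈ qE p E)
    (hk : k.Coprime p) (hek : e ^ k ∈ qE p E)
    (hker : E ⊓ centralizer (wE p E : Set G) ≤ qE p E)
    (hirr : ∀ M : Subgroup G, M ≤ wE p E → zE p E ≤ M → E ≤ normalizer (M : Set G) →
      M = zE p E ∨ M = wE p E) :
    vE p E ⊓ zE p E = ⊥ ∧ Nat.card ↥(wE p E) = Nat.card ↥(vE p E) * Nat.card ↥(zE p E) := by
  have hnw : ∀ g ∈ E, g ∈ normalizer (wE p E : Set G) := fun g hg => wE_norm (le_normalizer hg)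
  have hWc : ∀ a ∈ wE p E, ∀ b ∈ wE p E, a * b = b * a := fun a ha b hb => wE_comm hb (wE_le E ha)
  have hcW : ∀ a ∈ wE p E, ⁅e, a⁆ ∈ wE p E := fun a ha => by
    rw [commutatorElement_def]
    exact mul_mem ((mem_normalizer_iff.1 (hnw e he) a).1 ha) (inv_mem ha)
  let φ : ↥(wE p E) →* ↥(wE p E) := MonoidHom.mk' (fun a => ⟨⁅e, (a : G)⁆, hcW a a.2⟩) fun a b => Subtype.ext (by
    show ⁅e, (a : G) * b⁆ = ⁅e, (a : G)⁆ * ⁅e, (b : G)⁆
    calc ⁅e, (a : G) * b⁆ = ⁅e, (a : G)⁆ * ((a : G) * ⁅e, (b : G)⁆ * (a : G)⁻¹) := by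
          simp only [commutatorElement_def]; group
      _ = _ := by rw [hWc _ a.2 _ (hcW b b.2), mul_inv_cancel_right])
  have hequiv : ∀ g ∈ E, ∀ a ∈ wE p E, g * ⁅e, a⁆ * g⁻¹ = ⁅e, g * a * g⁻¹⁆ := by
    intro g hg a ha
    have hb : g * a * g⁻¹ ∈ wE p E := (mem_normalizer_iff.1 (hnw g hg) a).1 ha
    have hr : g * e * g⁻¹ * e⁻¹ ∈ qE p E := by
      exact hcent g hg
    have hcom : ∀ w ∈ wE p E, g * e * g⁻¹ * e⁻¹ * w = w * (g * e * g⁻¹ * e⁻¹) := fun w hw => wE_comm hw hr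
    obtain ⟨r, hr'⟩ : ∃ r, r = g * e * g⁻¹ * e⁻¹ := ⟨_, rfl⟩
    calc g * ⁅e, a⁆ * g⁻¹ = ⁅g * e * g⁻¹, g * a * g⁻¹⁆ := by simp only [commutatorElement_def]; group
      _ = (r * ⁅e, g * a * g⁻¹⁆ * r⁻¹) * (r * (g * a * g⁻¹) * r⁻¹ * (g * a * g⁻¹)⁻¹) := by
          rw [show g * e * g⁻¹ = r * e by rw [hr']; group]
          simp only [commutatorElement_def]; group
      _ = ⁅e, g * a * g⁻¹⁆ := by
          rw [hr', hcom _ (hcW _ hb), mul_inv_cancel_right, hcom _ hb, mul_inv_cancel_right, mul_inv_cancel, mul_one]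
  obtain ⟨K, hK⟩ : ∃ K, K = φ.ker.map (wE p E).subtype := ⟨_, rfl⟩
  have hKmem : ∀ a, a ∈ K ↔ a ∈ wE p E ∧ ⁅e, a⁆ = 1 := fun a => by
    rw [hK]
    constructor
    · rintro ⟨b, hb, rfl⟩
      exact ⟨b.2, congrArg Subtype.val hb⟩
    · rintro ⟨ha, h⟩
      exact ⟨⟨a, ha⟩, Subtype.ext h, rfl⟩
  have hKZ : K = zE p E := by
    refine (hirr K (fun a ha => ((hKmem a).1 ha).1) (fun a ha => (hKmem a).2 ⟨zE_le E ha, ?_⟩) ?_).resolve_right
      fun h => hne ?_
    · exact commutatorElement_eq_one_iff_mul_comm.2 (mem_centralizer_iff.1 (mem_inf.1 ha).2 e he)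
    · intro g hg
      refine CfsgLib.Fusion.conjBy_eq_iff.1 (CfsgLib.Fusion.conjBy_eq_of_le ?_)
      rintro _ ⟨a, ha, rfl⟩
      obtain ⟨haW, ha1⟩ := (hKmem a).1 ha
      refine (hKmem _).2 ⟨(mem_normalizer_iff.1 (hnw g hg) a).1 haW, ?_⟩
      show ⁅e, g * a * g⁻¹⁆ = 1
      rw [← hequiv g hg a haW, ha1, mul_one, mul_inv_cancel]
    · have he' : e ∈ qE p E := hker ⟨he, mem_centralizer_iff.2 fun a ha =>
        (commutatorElement_eq_one_iff_mul_comm.1 ((hKmem a).1 (h.ge ha)).2).symm⟩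
      exact he'
  obtain ⟨R, hR⟩ : ∃ R, R = φ.range.map (wE p E).subtype := ⟨_, rfl⟩
  have hRmem : ∀ a, a ∈ R ↔ ∃ w ∈ wE p E, ⁅e, w⁆ = a := fun a => by
    rw [hR]
    constructor
    · rintro ⟨_, ⟨b, rfl⟩, rfl⟩
      exact ⟨b, b.2, rfl⟩
    · rintro ⟨w, hw, rfl⟩
      exact ⟨φ ⟨w, hw⟩, ⟨_, rfl⟩, rfl⟩
  have hRE : E ≤ normalizer (R : Set G) := fun g hg => by
    refine CfsgLib.Fusion.conjBy_eq_iff.1 (CfsgLib.Fusion.conjBy_eq_of_le ?_)
    rintro _ ⟨a, ha, rfl⟩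
    obtain ⟨w, hw, rfl⟩ := (hRmem a).1 ha
    exact (hRmem _).2 ⟨g * w * g⁻¹, (mem_normalizer_iff.1 (hnw g hg) w).1 hw, (hequiv g hg w hw).symm⟩
  have hRW : R ≤ wE p E := fun a ha => by obtain ⟨w, hw, rfl⟩ := (hRmem a).1 ha; exact hcW w hw
  have hRZ : R ⊓ zE p E = ⊥ := by
    refine (eq_bot_iff_forall _).2 fun z ⟨hzR, hzZ⟩ => ?_
    obtain ⟨w, hw, hwz⟩ := (hRmem z).1 hzR
    have hez : e * z = z * e := mem_centralizer_iff.1 (mem_inf.1 hzZ).2 e he
    have key : ∀ n : ℕ, e ^ n * w * (e ^ n)⁻¹ = z ^ n * w := by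
      intro n
      induction n with
      | zero => simp
      | succ n ih =>
        calc e ^ (n + 1) * w * (e ^ (n + 1))⁻¹ = e * (e ^ n * w * (e ^ n)⁻¹) * e⁻¹ := by rw [pow_succ']; group
          _ = (e * z ^ n * e⁻¹) * (⁅e, w⁆ * w) := by rw [ih, commutatorElement_def]; group
          _ = z ^ (n + 1) * w := by
            rw [show e * z ^ n = z ^ n * e from (show Commute e z from hez).pow_right n, hwz, pow_succ]; group
    have h1 := key k
    rw [wE_comm hw hek, mul_inv_cancel_right] at h1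
    have h2 : z ^ k = 1 := mul_eq_right.1 h1.symm
    refine orderOf_eq_one_iff.1 (Nat.eq_one_of_dvd_coprimes (hk : k.Coprime p)
      (orderOf_dvd_of_pow_eq_one h2) (orderOf_dvd_of_pow_eq_one (wE_pow (zE_le E hzZ))))
  have hRV : R ≤ vE p E := fun a ha => by
    obtain ⟨w, hw, rfl⟩ := (hRmem a).1 ha
    rw [← commutatorElement_inv]
    exact inv_mem (commutator_mem_commutator hw he)
  have hsup : R ⊔ zE p E = wE p E := by
    refine (hirr _ (sup_le hRW (zE_le E)) le_sup_right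
      (CfsgLib.Coprime.sup_le_normalizer hRE fun g hg => zE_norm (le_normalizer hg))).resolve_left fun h => ?_
    have hR1 : R = ⊥ := le_bot_iff.1 ((le_inf le_rfl (le_sup_left.trans h.le)).trans hRZ.le)
    have hWK : wE p E ≤ K := fun a ha => (hKmem a).2 ⟨ha, by
      have : ⁅e, a⁆ ∈ R := (hRmem _).2 ⟨a, ha, rfl⟩
      rwa [hR1, mem_bot] at this⟩
    have he' : e ∈ qE p E := hker ⟨he, mem_centralizer_iff.2 fun a ha =>
      (commutatorElement_eq_one_iff_mul_comm.1 ((hKmem a).1 (hWK ha)).2).symm⟩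
    exact hne he'
  have hVR : vE p E ≤ R := by
    refine commutator_le.2 fun w hw g hg => ?_
    have hn : zE p E ≤ normalizer (R : Set G) := fun z hz => by
      refine (centralizer_le_normalizer (R : Set G)) (mem_centralizer_iff.2 fun r hr => ?_)
      exact hWc r (hRW hr) z (zE_le E hz)
    obtain ⟨r, hr, z, hz, rfl⟩ := CfsgLib.Coprime.mem_sup_exists hn (hsup.ge hw)
    have hgz : g * z = z * g := mem_centralizer_iff.1 (mem_inf.1 hz).2 g hg
    rw [show ⁅r * z, g⁆ = r * (g * r⁻¹ * g⁻¹) by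
      rw [commutatorElement_def, mul_inv_rev, show r * z * g = r * (g * z) by rw [hgz]; group]; group]
    exact mul_mem hr ((mem_normalizer_iff.1 (hRE hg) _).1 (inv_mem hr))
  have hV : vE p E = R := le_antisymm hVR hRV
  refine ⟨by rw [hV, hRZ], ?_⟩
  rw [hV, ← hKZ, hR, hK, ← Nat.card_congr (φ.range.equivMapOfInjective _ (wE p E).subtype_injective).toEquiv,
    ← Nat.card_congr (φ.ker.equivMapOfInjective _ (wE p E).subtype_injective).toEquiv,
    card_eq_card_quotient_mul_card_subgroup φ.ker, Nat.card_congr (QuotientGroup.quotientKerEquivRange φ).toEquiv]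


/-- If the image of `E` is a non-trivial group of prime power order prime to `p`, then `W = [W, E] × C_W(E)`. -/
theorem small_module {q k : ℕ} [Fact q.Prime] (hk : Nat.card ↥(img p E) = q ^ k) (hk0 : k ≠ 0) (hqp : q ≠ p)
    (hker : E ⊓ centralizer (wE p E : Set G) ≤ qE p E)
    (hirr : ∀ M : Subgroup G, M ≤ wE p E → zE p E ≤ M → E ≤ normalizer (M : Set G) →
      M = zE p E ∨ M = wE p E) :
    vE p E ⊓ zE p E = ⊥ ∧ Nat.card ↥(wE p E) = Nat.card ↥(vE p E) * Nat.card ↥(zE p E) := by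
  have hq : IsPGroup q ↥(img p E) := IsPGroup.of_card hk
  haveI : Nontrivial ↥(img p E) := Finite.one_lt_card_iff_nontrivial.1
    (by rw [hk]; exact Nat.one_lt_pow hk0 (Fact.out : q.Prime).one_lt)
  haveI := hq.center_nontrivial
  obtain ⟨⟨⟨c, hcI⟩, hcC⟩, hc1⟩ := exists_ne (1 : ↥(center ↥(img p E)))
  obtain ⟨e, he, rfl⟩ := id hcI
  refine fitting he (fun h => hc1 (Subtype.ext (Subtype.ext ((QuotientGroup.eq_one_iff e).2 h.2)))) (fun g hg => ?_)
    (Nat.Coprime.pow_left k ((Nat.coprime_primes (Fact.out : q.Prime) hp.out).2 hqp)) ⟨pow_mem he _, ?_⟩ hker hirr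
  · refine mem_inf.2 ⟨mul_mem (mul_mem (mul_mem hg he) (inv_mem hg)) (inv_mem he), ?_⟩
    have h1 := congrArg Subtype.val (mem_center_iff.1 hcC ⟨QuotientGroup.mk' _ g, mem_map_of_mem _ hg⟩)
    have h2 : QuotientGroup.mk' (Cfsg.pCore p G) g * QuotientGroup.mk' (Cfsg.pCore p G) e =
        QuotientGroup.mk' (Cfsg.pCore p G) e * QuotientGroup.mk' (Cfsg.pCore p G) g := h1
    rw [← QuotientGroup.eq_one_iff]
    show QuotientGroup.mk' (Cfsg.pCore p G) (g * e * g⁻¹ * e⁻¹) = 1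
    rw [map_mul, map_mul, map_mul, map_inv, map_inv, h2, mul_inv_cancel_right, mul_inv_cancel]
  · refine (QuotientGroup.eq_one_iff _).1 ?_
    show QuotientGroup.mk' (Cfsg.pCore p G) (e ^ (q ^ k)) = 1
    rw [map_pow, ← hk]
    exact congrArg Subtype.val (pow_card_eq_one' (x := (⟨_, hcI⟩ : ↥(img p E))))

end CfsgLib.SubBlock
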