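import Cfsg.Agent.Lib.Char.SubBlock.Kernel

/-!
# The module of a symmetric block splits
-/

set_option autoImplicit false
set_option linter.unusedSectionVars false
set_option linter.style.haveILetI false
set_option maxHeartbeats 1000000

open Subgroup Equiv
open scoped commutatorElement

namespace CfsgLib.SubBlock

universe u

/-- The three-cycle `i → j → k → i`. -/
def tri {n : ℕ} (i j k : Fin n) : Perm (Fin n) := swap i j * swap j k

section Tri

variable {n : ℕ} {i j k : Fin n}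

theorem tri_mem_alternating (hij : i ≠ j) (hjk : j ≠ k) : tri i j k ∈ alternatingGroup (Fin n) := by
  rw [Equiv.Perm.mem_alternatingGroup, tri, map_mul, Equiv.Perm.sign_swap hij, Equiv.Perm.sign_swap hjk]
  decide

theorem tri_apply (hik : i ≠ k) (hjk : j ≠ k) (hij : i ≠ j) :
    tri i j k i = j ∧ tri i j k j = k ∧ tri i j k k = i ∧ ∀ a, a ≠ i → a ≠ j → a ≠ k → tri i j k a = a := by
  refine ⟨?_, ?_, ?_, fun a ha hb hc => ?_⟩ <;> simp only [tri, Perm.mul_apply, swap_apply_def] <;>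
    split_ifs <;> simp_all

theorem tri_rot (hik : i ≠ k) (hjk : j ≠ k) (hij : i ≠ j) : tri j k i = tri i j k := by
  obtain ⟨a1, a2, a3, a4⟩ := tri_apply hik hjk hij
  obtain ⟨b1, b2, b3, b4⟩ := tri_apply (i := j) (j := k) (k := i) hij.symm hik.symm hjk
  refine Equiv.ext fun a => ?_
  by_cases h1 : a = i
  · subst h1; rw [b3, a1]
  by_cases h2 : a = j
  · subst h2; rw [b1, a2]
  by_cases h3 : a = k
  · subst h3; rw [b2, a3]
  rw [a4 a h1 h2 h3, b4 a h2 h3 h1]

theorem tri_inv (hik : i ≠ k) (hjk : j ≠ k) (hij : i ≠ j) : (tri i j k)⁻¹ = tri j i k := by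
  obtain ⟨a1, a2, a3, a4⟩ := tri_apply hik hjk hij
  obtain ⟨b1, b2, b3, b4⟩ := tri_apply (i := j) (j := i) (k := k) hjk hik hij.symm
  refine inv_eq_of_mul_eq_one_left (Equiv.ext fun a => ?_)
  rw [Perm.mul_apply, Perm.one_apply]
  by_cases h1 : a = i
  · subst h1; rw [a1, b1]
  by_cases h2 : a = j
  · subst h2; rw [a2, b3]
  by_cases h3 : a = k
  · subst h3; rw [a3, b2]
  rw [a4 a h1 h2 h3, b4 a h2 h1 h3]

theorem swap_mul_swap_mem_closure_tri (a b c d : Fin n) (hab : a ≠ b) (hcd : c ≠ d) :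
    swap a b * swap c d ∈ closure {σ : Perm (Fin n) | ∃ i j k, i ≠ k ∧ j ≠ k ∧ i ≠ j ∧ tri i j k = σ} := by
  have h3 : ∀ {a b c : Fin n}, a ≠ b → b ≠ c →
      swap a b * swap b c ∈ closure {σ : Perm (Fin n) | ∃ i j k, i ≠ k ∧ j ≠ k ∧ i ≠ j ∧ tri i j k = σ} := by
    intro a b c hab hbc
    by_cases hac : a = c
    · subst hac
      rw [swap_comm b a, swap_mul_self]
      exact one_mem _
    · exact subset_closure ⟨a, b, c, hac, hbc, hab, rfl⟩
  by_cases hbc : b = c
  · subst hbc; exact h3 hab hcd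
  · rw [show swap a b * swap c d = swap a b * swap b c * (swap b c * swap c d) by
      rw [mul_assoc, ← mul_assoc (swap b c) (swap b c), swap_mul_self, one_mul]]
    exact mul_mem (h3 hab hbc) (h3 hbc hcd)

theorem alternating_le_closure_tri :
    alternatingGroup (Fin n) ≤ closure {σ : Perm (Fin n) | ∃ i j k, i ≠ k ∧ j ≠ k ∧ i ≠ j ∧ tri i j k = σ} := by
  intro σ hσ
  rw [← Equiv.Perm.closure_three_cycles_eq_alternating] at hσ
  refine (closure_le _).2 (fun τ hτ => ?_) hσ
  have hτa : τ ∈ alternatingGroup (Fin n) := hτ.mem_alternatingGroup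
  obtain ⟨l, hprod, hl⟩ : ∃ l : List (Perm (Fin n)), l.prod = τ ∧ ∀ g ∈ l, g.IsSwap :=
    ((Equiv.Perm.truncSwapFactors τ).out).2.imp id id |> fun h => ⟨_, h.1, h.2⟩
  have key : ∀ l : List (Perm (Fin n)), (∀ g ∈ l, g.IsSwap) →
      (Even l.length → l.prod ∈ closure {σ : Perm (Fin n) | ∃ i j k, i ≠ k ∧ j ≠ k ∧ i ≠ j ∧ tri i j k = σ}) := by
    intro l
    induction hm : l.length using Nat.strong_induction_on generalizing l with
    | _ m ih =>
      intro hs he
      match l, hm with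
      | [], _ => simp
      | [x], hm => exact absurd he (Nat.not_even_iff_odd.2 (by subst hm; exact odd_one))
      | x :: y :: t, hm =>
        simp only [List.length_cons] at hm
        obtain ⟨a, b, hab, rfl⟩ := hs x (by simp)
        obtain ⟨c, d, hcd, rfl⟩ := hs y (by simp)
        rw [List.prod_cons, List.prod_cons, ← mul_assoc]
        refine mul_mem (swap_mul_swap_mem_closure_tri a b c d hab hcd)
          (ih t.length (by omega) t rfl (fun g hg => hs g (by simp [hg])) ?_)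
        obtain ⟨r, hr⟩ := he
        exact ⟨r - 1, by omega⟩
  rw [← hprod]
  refine key l hl ?_
  have hsgn := Equiv.Perm.sign_prod_list_swap hl
  rw [hprod, Equiv.Perm.mem_alternatingGroup.1 hτa] at hsgn
  exact neg_one_pow_eq_one_iff_even (by decide) |>.1 hsgn.symm

end Tri

/-- An exponent-two group with an action of `A_n`, `n ≥ 5` odd, over the even-weight module: the commutators
lie in a complement of the fixed kernel. -/
theorem even_module_split {n : ℕ} [NeZero n] (h5 : 5 ≤ n) {W : Type u} [CommGroup W] (hsq : ∀ a : W, a * a = 1)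
    (f : W → (Fin n → ZMod 2)) (hf : ∀ a b, f (a * b) = f a + f b) (hev : ∀ a, ∑ i, f a i = 0)
    (hsur : ∀ v : Fin n → ZMod 2, ∑ i, v i = 0 → ∃ a, f a = v) (act : Perm (Fin n) → (W →* W))
    (hmul : ∀ σ ∈ alternatingGroup (Fin n), ∀ τ ∈ alternatingGroup (Fin n), ∀ a, act (σ * τ) a = act σ (act τ a))
    (hone : ∀ a, act 1 a = a)
    (hact : ∀ σ ∈ alternatingGroup (Fin n), ∀ a i, f (act σ a) i = f a (σ⁻¹ i))
    (hfix : ∀ σ ∈ alternatingGroup (Fin n), ∀ z, f z = 0 → act σ z = z) :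
    ∃ W₀ : Subgroup W, (∀ σ ∈ alternatingGroup (Fin n), ∀ y, act σ y * y ∈ W₀) ∧ ∀ a ∈ W₀, f a = 0 → a = 1 := by
  classical
  have hf1 : f 1 = 0 := by
    have h := hf 1 1
    rw [one_mul, ← sub_eq_iff_eq_add, sub_self] at h
    exact h.symm
  have hadd : ∀ v : Fin n → ZMod 2, v + v = 0 := fun v => funext fun i => CharTwo.add_self_eq_zero _
  let Ok : Perm (Fin n) → W → Prop := fun σ x => x * act σ x * act σ (act σ x) = 1
  have hOkmul : ∀ σ x y, Ok σ x → Ok σ y → Ok σ (x * y) := by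
    intro σ x y hx hy
    show x * y * act σ (x * y) * act σ (act σ (x * y)) = 1
    rw [map_mul, map_mul, ← mul_one (1 : W)]
    conv_rhs => arg 1; rw [← hx]
    conv_rhs => arg 2; rw [← hy]
    ac_rfl
  have htmem : ∀ {i j k : Fin n}, i ≠ j → j ≠ k → tri i j k ∈ alternatingGroup (Fin n) :=
    fun h1 h2 => tri_mem_alternating h1 h2
  have htri3 : ∀ {i j k : Fin n}, i ≠ k → j ≠ k → i ≠ j → tri i j k * tri i j k = tri j i k := by
    intro i j k hik hjk hij
    obtain ⟨a1, a2, a3, a4⟩ := tri_apply hik hjk hij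
    obtain ⟨b1, b2, b3, b4⟩ := tri_apply (i := j) (j := i) (k := k) hjk hik hij.symm
    refine Equiv.ext fun a => ?_
    rw [Perm.mul_apply]
    by_cases h1 : a = i
    · subst h1; rw [a1, a2, b2]
    by_cases h2 : a = j
    · subst h2; rw [a2, a3, b1]
    by_cases h3 : a = k
    · subst h3; rw [a3, a1, b3]
    rw [a4 a h1 h2 h3, a4 a h1 h2 h3, b4 a h2 h1 h3]
  have hcube : ∀ {i j k : Fin n}, i ≠ k → j ≠ k → i ≠ j → ∀ a,
      act (tri i j k) (act (tri i j k) (act (tri i j k) a)) = a := by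
    intro i j k hik hjk hij a
    rw [← hmul _ (htmem hij hjk) _ (htmem hij hjk), htri3 hik hjk hij, ← hmul _ (htmem hij.symm hik) _ (htmem hij hjk),
      ← tri_inv hik hjk hij, inv_mul_cancel, hone]
  have hOkinv : ∀ {i j k : Fin n}, i ≠ k → j ≠ k → i ≠ j → ∀ x, Ok (tri i j k) x → Ok (tri j i k) x := by
    intro i j k hik hjk hij x hx
    have e : act (tri j i k) x = act (tri i j k) (act (tri i j k) x) := by
      rw [← htri3 hik hjk hij, hmul _ (htmem hij hjk) _ (htmem hij hjk)]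
    show x * act (tri j i k) x * act (tri j i k) (act (tri j i k) x) = 1
    rw [e, show act (tri j i k) (act (tri i j k) (act (tri i j k) x)) = act (tri i j k) x by
      rw [← htri3 hik hjk hij, hmul _ (htmem hij hjk) _ (htmem hij hjk), hcube hik hjk hij]]
    rw [mul_right_comm]
    exact hx
  have huniq : ∀ {i j k : Fin n}, i ≠ k → j ≠ k → i ≠ j → ∀ x y, Ok (tri i j k) x → Ok (tri i j k) y →
      f x = f y → x = y := by
    intro i j k hik hjk hij x y hx hy hxy
    have h0 : f (x * y) = 0 := by rw [hf, hxy, hadd]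
    have h1 : x * y * act (tri i j k) (x * y) * act (tri i j k) (act (tri i j k) (x * y)) = 1 := hOkmul _ x y hx hy
    rw [hfix _ (htmem hij hjk) _ h0, hfix _ (htmem hij hjk) _ h0, hsq, one_mul] at h1
    rw [eq_inv_of_mul_eq_one_left h1]
    exact inv_eq_of_mul_eq_one_left (hsq y)
  have hcomm : ∀ {i j k : Fin n}, i ≠ k → j ≠ k → i ≠ j → ∀ y, Ok (tri i j k) (act (tri i j k) y * y) := by
    intro i j k hik hjk hij y
    show act (tri i j k) y * y * act (tri i j k) (act (tri i j k) y * y) *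
      act (tri i j k) (act (tri i j k) (act (tri i j k) y * y)) = 1
    simp only [map_mul, hcube hik hjk hij]
    obtain ⟨a, ha⟩ : ∃ a, a = act (tri i j k) y := ⟨_, rfl⟩
    obtain ⟨b, hb⟩ : ∃ b, b = act (tri i j k) (act (tri i j k) y) := ⟨_, rfl⟩
    rw [← hb, ← ha]
    calc a * y * (b * a) * (y * b) = (a * a) * (y * y) * (b * b) := by ac_rfl
      _ = 1 := by simp [hsq]
  have hOkequiv : ∀ τ ∈ alternatingGroup (Fin n), ∀ σ ∈ alternatingGroup (Fin n), ∀ σ' ∈ alternatingGroup (Fin n),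
      τ * σ = σ' * τ → ∀ x, Ok σ x → Ok σ' (act τ x) := by
    intro τ hτ σ hσ σ' hσ' he x hx
    have e : ∀ a, act σ' (act τ a) = act τ (act σ a) := fun a => by rw [← hmul _ hσ' _ hτ, ← he, hmul _ hτ _ hσ]
    show act τ x * act σ' (act τ x) * act σ' (act σ' (act τ x)) = 1
    rw [e, e, ← map_mul, ← map_mul, hx, map_one]
  obtain ⟨ev, hevd⟩ : ∃ ev : Fin n → Fin n → (Fin n → ZMod 2),
      ev = fun i j => Pi.single i 1 + Pi.single j 1 := ⟨_, rfl⟩
  have hevz : ∀ i j, ∑ a, ev i j a = 0 := fun i j => by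
    simp [hevd, Finset.sum_add_distrib, CharTwo.add_self_eq_zero]
  have hevat : ∀ i j a, ev i j a = (if a = i then 1 else 0) + (if a = j then 1 else 0) := fun i j a => by
    rw [hevd]; simp only [Pi.add_apply, Pi.single_apply]
  have hevsymm : ∀ i j, ev i j = ev j i := fun i j => by rw [hevd]; exact add_comm _ _
  have hactev : ∀ σ ∈ alternatingGroup (Fin n), ∀ x i j, f x = ev i j → f (act σ x) = ev (σ i) (σ j) := by
    intro σ hσ x i j hx
    funext a
    rw [hact σ hσ, hx, hevat, hevat]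
    simp only [Perm.inv_eq_iff_eq]
  have hex : ∀ {i j k : Fin n}, i ≠ k → j ≠ k → i ≠ j → ∃ x, Ok (tri i j k) x ∧ f x = ev i j := by
    intro i j k hik hjk hij
    obtain ⟨y, hy⟩ := hsur (ev j k) (hevz j k)
    obtain ⟨a1, a2, a3, a4⟩ := tri_apply hik hjk hij
    refine ⟨_, hcomm hik hjk hij y, ?_⟩
    rw [hf, hactev _ (htmem hij hjk) y j k hy, hy, a2, a3, hevd]
    funext a
    simp only [Pi.add_apply]
    linear_combination CharTwo.add_self_eq_zero ((Pi.single k (1 : ZMod 2) : Fin n → ZMod 2) a)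
  have hindep : ∀ {i j k l : Fin n}, i ≠ j → i ≠ k → j ≠ k → i ≠ l → j ≠ l → ∀ a b,
      Ok (tri i j k) a → f a = ev i j → Ok (tri i j l) b → f b = ev i j → a = b := by
    intro i j k l hij hik hjk hil hjl a b ha hfa hb' hfb
    by_cases hkl : k = l
    · subst hkl; exact huniq hik hjk hij a b ha hb' (hfa.trans hfb.symm)
    obtain ⟨x, -, hx⟩ := Finset.exists_mem_notMem_of_card_lt_card (s := ({i, j, k, l} : Finset (Fin n)))
      (t := Finset.univ) (lt_of_le_of_lt Finset.card_le_four (by rw [Finset.card_univ, Fintype.card_fin]; omega))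
    simp only [Finset.mem_insert, Finset.mem_singleton, not_or] at hx
    obtain ⟨hxi, hxj, hxk, hxl⟩ := hx
    obtain ⟨c, hc, hfc⟩ := hex (Ne.symm hxi) (Ne.symm hxj) hij
    obtain ⟨τ, hτ⟩ : ∃ τ, τ = swap i j * swap k l := ⟨_, rfl⟩
    have hτA : τ ∈ alternatingGroup (Fin n) := by
      rw [hτ, Equiv.Perm.mem_alternatingGroup, map_mul, Equiv.Perm.sign_swap hij, Equiv.Perm.sign_swap hkl]; decide
    have t1 : τ i = j := by rw [hτ, Perm.mul_apply, swap_apply_of_ne_of_ne hik hil, swap_apply_left]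
    have t2 : τ j = i := by rw [hτ, Perm.mul_apply, swap_apply_of_ne_of_ne hjk hjl, swap_apply_right]
    have t3 : τ k = l := by rw [hτ, Perm.mul_apply, swap_apply_left, swap_apply_of_ne_of_ne hil.symm hjl.symm]
    have t4 : τ x = x := by
      rw [hτ, Perm.mul_apply, swap_apply_of_ne_of_ne hxk hxl, swap_apply_of_ne_of_ne hxi hxj]
    have htc : ∀ p q r, τ * tri p q r = tri (τ p) (τ q) (τ r) * τ := fun p q r => by
      simp only [tri, Equiv.swap_apply_apply]; group
    have key : ∀ r w, i ≠ r → j ≠ r → i ≠ τ r → j ≠ τ r → Ok (tri i j r) w → f w = ev i j →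
        Ok (tri i j (τ r)) (act τ w) ∧ f (act τ w) = ev i j := by
      intro r w h1 h2 h3 h4 hw hfw
      have h := hOkequiv τ hτA _ (htmem hij h2) _ (htmem hij.symm h3) (by rw [htc, t1, t2]) w hw
      exact ⟨hOkinv h4 h3 hij.symm _ h, by rw [hactev τ hτA w i j hfw, t1, t2, hevsymm]⟩
    have k1 : act τ a = b := by
      obtain ⟨h1, h2⟩ := key k a hik hjk (by rw [t3]; exact hil) (by rw [t3]; exact hjl) ha hfa
      rw [t3] at h1
      exact huniq hil hjl hij _ _ h1 hb' (h2.trans hfb.symm)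
    have k2 : act τ c = c := by
      obtain ⟨h1, h2⟩ := key x c (Ne.symm hxi) (Ne.symm hxj) (by rw [t4]; exact Ne.symm hxi)
        (by rw [t4]; exact Ne.symm hxj) hc hfc
      rw [t4] at h1
      exact huniq (Ne.symm hxi) (Ne.symm hxj) hij _ _ h1 hc (h2.trans hfc.symm)
    have hzc := hfix τ hτA (a * c) (by rw [hf, hfa, hfc, hadd])
    rw [map_mul, k1, k2] at hzc
    exact (mul_right_cancel hzc).symm
  have hthird : ∀ i j : Fin n, ∃ k, i ≠ k ∧ j ≠ k := fun i j => by
    obtain ⟨k, -, hk⟩ := Finset.exists_mem_notMem_of_card_lt_card (s := ({i, j} : Finset (Fin n)))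
      (t := Finset.univ) (lt_of_le_of_lt Finset.card_le_two (by rw [Finset.card_univ, Fintype.card_fin]; omega))
    simp only [Finset.mem_insert, Finset.mem_singleton, not_or] at hk
    exact ⟨k, Ne.symm hk.1, Ne.symm hk.2⟩
  have hpair : ∀ i j : Fin n, ∃ x, i ≠ j → f x = ev i j ∧ ∀ k, i ≠ k → j ≠ k → Ok (tri i j k) x := by
    intro i j
    by_cases hij : i = j
    · exact ⟨1, fun h => absurd hij h⟩
    obtain ⟨k₀, h1, h2⟩ := hthird i j
    obtain ⟨x, hx, hfx⟩ := hex h1 h2 hij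
    refine ⟨x, fun _ => ⟨hfx, fun k hik hjk => ?_⟩⟩
    obtain ⟨y, hy, hfy⟩ := hex hik hjk hij
    rwa [hindep hij h1 h2 hik hjk x y hx hfx hy hfy]
  choose u hu using hpair
  let u0 : Fin n → W := fun i => if 0 = i then 1 else u 0 i
  let Φ : (Fin n → ZMod 2) → W := fun v => ∏ i, u0 i ^ (v i).val
  have hΦmul : ∀ v w, Φ (v + w) = Φ v * Φ w := fun v w => by
    simp only [Φ, ← Finset.prod_mul_distrib, Pi.add_apply]
    refine Finset.prod_congr rfl fun i _ => ?_
    rw [← pow_add, ZMod.val_add, ← pow_mod_orderOf _ ((v i).val + (w i).val)]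
    refine Eq.trans ?_ (pow_mod_orderOf _ _).symm |>.trans (pow_mod_orderOf _ _)
    exact (pow_eq_pow_mod _ ((pow_two (u0 i)).trans (hsq _))).symm.trans (pow_mod_orderOf _ _).symm
  have hΦ0 : Φ 0 = 1 := Finset.prod_eq_one fun i _ => by simp
  obtain ⟨W₀, hW₀⟩ : ∃ W₀ : Subgroup W, ∀ a, a ∈ W₀ ↔ ∃ v, Φ v = a := ⟨
    { carrier := Set.range Φ
      one_mem' := ⟨0, hΦ0⟩
      mul_mem' := fun {a b} ⟨v, hv⟩ ⟨w, hw⟩ => ⟨v + w, by rw [hΦmul, hv, hw]⟩
      inv_mem' := fun {a} ⟨v, hv⟩ => ⟨v, hv.trans (eq_inv_of_mul_eq_one_left (hsq a))⟩ }, fun a => Iff.rfl⟩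
  have hfΦ : ∀ v i, (0 : Fin n) ≠ i → f (Φ v) i = v i := by
    intro v i hi
    let fh : W →* Multiplicative (ZMod 2) := MonoidHom.mk' (fun a => Multiplicative.ofAdd (f a i))
      (fun a b => by rw [hf]; rfl)
    have h := map_prod fh (fun a => u0 a ^ (v a).val) Finset.univ
    rw [Finset.prod_eq_single (f := fun x => fh (u0 x ^ (v x).val)) i] at h
    · rw [map_pow] at h
      have h4 : f (Φ v) i = (v i).val • f (u0 i) i := congrArg Multiplicative.toAdd h
      rw [h4, show u0 i = u 0 i from if_neg hi, (hu 0 i hi).1, hevat]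
      simp [Ne.symm hi]
    · intro a _ hai
      rw [map_pow]
      refine Multiplicative.toAdd.injective ?_
      show (v a).val • f (u0 a) i = 0
      by_cases ha : (0 : Fin n) = a
      · rw [show u0 a = 1 from if_pos ha, hf1]; simp
      · rw [show u0 a = u 0 a from if_neg ha, (hu 0 a ha).1, hevat]
        simp [Ne.symm hi, Ne.symm hai]
    · simp
  have hu0 : ∀ i, (0 : Fin n) ≠ i → u 0 i ∈ W₀ := fun i hi => by
    refine (hW₀ _).2 ⟨Pi.single i 1, ?_⟩
    show ∏ a, u0 a ^ ((Pi.single i (1 : ZMod 2) : Fin n → ZMod 2) a).val = _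
    rw [Finset.prod_eq_single i]
    · rw [Pi.single_eq_same, show u0 i = u 0 i from if_neg hi]; exact pow_one _
    · intro a _ ha; rw [Pi.single_eq_of_ne ha]; simp
    · simp
  have hsymm : ∀ i j, i ≠ j → u i j = u j i := by
    intro i j hij
    obtain ⟨k, hik, hjk⟩ := hthird i j
    exact huniq hik hjk hij _ _ ((hu i j hij).2 k hik hjk)
      (hOkinv hjk hik hij.symm _ ((hu j i hij.symm).2 k hjk hik))
      (by rw [(hu i j hij).1, (hu j i hij.symm).1, hevsymm])
  have huW : ∀ i j, i ≠ j → u i j ∈ W₀ := by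
    intro i j hij
    by_cases hi : (0 : Fin n) = i
    · subst hi; exact hu0 j hij
    by_cases hj : (0 : Fin n) = j
    · subst hj; rw [hsymm _ _ hij]; exact hu0 i hij.symm
    suffices h : u 0 i * u 0 j = u i j by rw [← h]; exact mul_mem (hu0 i hi) (hu0 j hj)
    refine huniq (Ne.symm hi) (Ne.symm hj) hij _ _ (hOkmul _ _ _ ?_ ?_) ((hu i j hij).2 0 (Ne.symm hi) (Ne.symm hj)) ?_
    · rw [tri_rot (i := 0) (j := i) (k := j) hj hij hi]
      exact (hu 0 i hi).2 j hj hij
    · rw [tri_rot (i := 0) (j := i) (k := j) hj hij hi, tri_rot (i := j) (j := 0) (k := i) hij.symm hi (Ne.symm hj)]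
      exact hOkinv hi hij.symm hj _ ((hu 0 j hj).2 i hi hij.symm)
    · rw [hf, (hu 0 i hi).1, (hu 0 j hj).1, (hu i j hij).1, hevd]
      funext a
      simp only [Pi.add_apply]
      linear_combination CharTwo.add_self_eq_zero ((Pi.single 0 (1 : ZMod 2) : Fin n → ZMod 2) a)
  refine ⟨W₀, ?_, fun a ha h0 => ?_⟩
  swap
  · obtain ⟨v, rfl⟩ := (hW₀ a).1 ha
    refine Finset.prod_eq_one fun i _ => ?_
    by_cases hi : (0 : Fin n) = i
    · rw [show u0 i = 1 from if_pos hi, one_pow]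
    · rw [← hfΦ v i hi, h0]; simp
  intro σ hσ
  have hgen : ∀ {i j k : Fin n}, i ≠ k → j ≠ k → i ≠ j → ∀ y, act (tri i j k) y * y ∈ W₀ := by
    intro i j k hik hjk hij y
    obtain ⟨a1, a2, a3, a4⟩ := tri_apply hik hjk hij
    obtain ⟨x, hxdef⟩ : ∃ x, x = act (tri i j k) y * y := ⟨_, rfl⟩
    have hx := hxdef ▸ hcomm hik hjk hij y
    rw [← hxdef]
    have hout : ∀ a, a ≠ i → a ≠ j → a ≠ k → f x a = 0 := fun a b1 b2 b3 => by
      rw [hxdef, hf, Pi.add_apply, hact _ (htmem hij hjk),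
        show (tri i j k)⁻¹ a = a from by rw [Perm.inv_eq_iff_eq, a4 a b1 b2 b3], CharTwo.add_self_eq_zero]
    have hsum : f x i + f x j + f x k = 0 := by
      have h := hev x
      rw [← Finset.sum_subset (Finset.subset_univ ({i, j, k} : Finset (Fin n))) (fun a _ ha => by
        simp only [Finset.mem_insert, Finset.mem_singleton, not_or] at ha
        exact hout a ha.1 ha.2.1 ha.2.2)] at h
      rw [Finset.sum_insert (by simp [hij, hik]), Finset.sum_insert (by simp [hjk]), Finset.sum_singleton] at h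
      rw [add_assoc]; exact h
    have hval : ∀ w, Ok (tri i j k) w → w ∈ W₀ →
        f w i = f x i → f w j = f x j → f w k = f x k → (∀ a, a ≠ i → a ≠ j → a ≠ k → f w a = 0) → x ∈ W₀ := by
      intro w hw hwW e1 e2 e3 e4
      rwa [huniq hik hjk hij x w hx hw (funext fun a => ?_)]
      by_cases b1 : a = i
      · subst b1; exact e1.symm
      by_cases b2 : a = j
      · subst b2; exact e2.symm
      by_cases b3 : a = k
      · subst b3; exact e3.symm
      rw [hout a b1 b2 b3, e4 a b1 b2 b3]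
    have hjk' : Ok (tri i j k) (u j k) := by
      rw [← tri_rot hik hjk hij]
      exact (hu j k hjk).2 i hij.symm hik.symm
    have hki : Ok (tri i j k) (u k i) := by
      rw [← tri_rot hik hjk hij, ← tri_rot hij.symm hik.symm hjk]
      exact (hu k i hik.symm).2 j hjk.symm hij
    have hz : ∀ b : ZMod 2, b = 0 ∨ b = 1 := by decide
    have h3 : f x k = f x i + f x j := by
      linear_combination hsum - CharTwo.add_self_eq_zero (f x i + f x j)
    rcases hz (f x i) with p1 | p1 <;> rcases hz (f x j) with p2 | p2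
    · refine hval 1 (by show _ = 1; simp) (one_mem _) ?_ ?_ ?_ (fun a _ _ _ => by rw [hf1]; rfl)
      · rw [hf1, p1]; rfl
      · rw [hf1, p2]; rfl
      · rw [hf1, h3, p1, p2]; rfl
    · refine hval _ hjk' (huW _ _ hjk) ?_ ?_ ?_ (fun a b1 b2 b3 => by rw [(hu j k hjk).1, hevat]; simp [b2, b3])
      · rw [(hu j k hjk).1, hevat, p1]; simp [hij, hik]
      · rw [(hu j k hjk).1, hevat, p2]; simp [hjk]
      · rw [(hu j k hjk).1, hevat, h3, p1, p2]; simp [hjk.symm]
    · refine hval _ hki (huW _ _ hik.symm) ?_ ?_ ?_ (fun a b1 b2 b3 => by rw [(hu k i hik.symm).1, hevat]; simp [b1, b3])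
      · rw [(hu k i hik.symm).1, hevat, p1]; simp [hik]
      · rw [(hu k i hik.symm).1, hevat, p2]; simp [hij.symm, hjk]
      · rw [(hu k i hik.symm).1, hevat, h3, p1, p2]; simp [hik.symm]
    · refine hval _ ((hu i j hij).2 k hik hjk) (huW _ _ hij) ?_ ?_ ?_
        (fun a b1 b2 b3 => by rw [(hu i j hij).1, hevat]; simp [b1, b2])
      · rw [(hu i j hij).1, hevat, p1]; simp [hij]
      · rw [(hu i j hij).1, hevat, p2]; simp [hij.symm]
      · rw [(hu i j hij).1, hevat, h3, p1, p2]; simp [hik.symm, hjk.symm, CharTwo.add_self_eq_zero]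
  have h := alternating_le_closure_tri hσ
  rw [← Subgroup.mem_toSubmonoid, Subgroup.closure_toSubmonoid_of_finite] at h
  have hmem : ∀ {r}, r ∈ Submonoid.closure {σ : Perm (Fin n) | ∃ i j k, i ≠ k ∧ j ≠ k ∧ i ≠ j ∧ tri i j k = σ} →
      r ∈ alternatingGroup (Fin n) := by
    intro r hr
    refine (Submonoid.closure_le (S := (alternatingGroup (Fin n)).toSubmonoid)).2 ?_ hr
    rintro _ ⟨i, j, k, -, hjk, hij, rfl⟩
    exact tri_mem_alternating hij hjk
  clear hσ
  induction h using Submonoid.closure_induction with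
  | mem s hs =>
    obtain ⟨i, j, k, hik, hjk, hij, rfl⟩ := hs
    exact hgen hik hjk hij
  | one => intro y; rw [hone, hsq]; exact one_mem _
  | mul s t hs ht ihs iht =>
    intro y
    rw [hmul _ (hmem hs) _ (hmem ht), show act s (act t y) * y = (act s (act t y) * act t y) * (act t y * y) by
      rw [mul_assoc, ← mul_assoc (act t y), hsq, one_mul]]
    exact mul_mem (ihs _) (iht _)

variable {G : Type u} [Group G] [Finite G] {p : ℕ} [hp : Fact p.Prime] {E : Subgroup G}

attribute [local instance] CfsgLib.Coprime.pCore_normal'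

/-- The module of a symmetric block meets `C(E)` trivially. -/
theorem perm_split {m : ℕ} (hm : 2 ≤ m) (hb : SBlock p E) (h2 : p = 2)
    (hW : Cfsg.ActsAsOddPermModuleOnSection (2 * m + 1) (alternatingGroup (Fin (2 * m + 1))) E (wE p E) (zE p E)) :
    vE p E ⊓ zE p E = ⊥ := by
  classical
  obtain ⟨-, -, ρ, ψ, hρ, hev, hsur, hker, hact⟩ := hW
  let iW : CommGroup ↥(wE p E) :=
    { (inferInstance : Group ↥(wE p E)) with
      mul_comm := fun a b => Subtype.ext (wE_comm b.2 (wE_le E a.2)) }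
  let cW : ↥E → (↥(wE p E) →* ↥(wE p E)) := fun g => MonoidHom.mk'
    (fun a => ⟨(g : G) * a * (g : G)⁻¹, (mem_normalizer_iff.1 (wE_norm (le_normalizer g.2)) a).1 a.2⟩)
    (fun a b => Subtype.ext (by
      show (g : G) * ((a : G) * b) * _ = (g : G) * a * (g : G)⁻¹ * ((g : G) * b * (g : G)⁻¹); group))
  have hsq : ∀ a : ↥(wE p E), a * a = 1 := fun a => Subtype.ext (by
    show (a : G) * a = 1
    rw [← pow_two]
    exact h2 ▸ wE_pow a.2)
  have hfc : ∀ (g : ↥E) a i, Multiplicative.toAdd (ψ (cW g a)) i = Multiplicative.toAdd (ψ a) ((ρ g)⁻¹ i) :=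
    fun g a i => by
      obtain ⟨w, hw, hwv⟩ := hact g a
      rw [show cW g a = w from Subtype.ext hw.symm]
      exact hwv i
  have hρQ : ∀ g : ↥E, ρ g = 1 → (g : G) ∈ qE p E := fun g hg => hb.triv_le_qE g.2 fun a ha => by
    have h1 : ψ (cW g ⟨a, ha⟩ * (⟨a, ha⟩ : ↥(wE p E))⁻¹) = 1 := by
      rw [map_mul, map_inv, mul_inv_eq_one]
      exact Multiplicative.toAdd.injective (funext fun i => by rw [hfc, hg, inv_one, Perm.one_apply])
    have h3 := (hker _).1 h1
    rwa [show ((cW g ⟨a, ha⟩ * (⟨a, ha⟩ : ↥(wE p E))⁻¹ : ↥(wE p E)) : G) = ⁅(g : G), a⁆ from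
      (commutatorElement_def _ _).symm] at h3
  have hcρ : ∀ g h : ↥E, ρ g = ρ h → ∀ a, cW g a = cW h a := fun g h hgh a => Subtype.ext (by
    have h1 := wE_comm a.2 (hρQ (h⁻¹ * g) (by rw [map_mul, map_inv, hgh, inv_mul_cancel]))
    show (g : G) * a * (g : G)⁻¹ = (h : G) * a * (h : G)⁻¹
    calc (g : G) * a * (g : G)⁻¹ = (h : G) * (((h⁻¹ * g : ↥E) : G) * a * ((h⁻¹ * g : ↥E) : G)⁻¹) * (h : G)⁻¹ := by
          simp only [Subgroup.coe_mul, Subgroup.coe_inv]; group
      _ = (h : G) * a * (h : G)⁻¹ := by rw [h1, mul_inv_cancel_right])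
  let sec : Perm (Fin (2 * m + 1)) → ↥E := Function.invFun ρ
  have hsec : ∀ σ ∈ alternatingGroup (Fin (2 * m + 1)), ρ (sec σ) = σ := fun σ hσ =>
    Function.invFun_eq (hρ.ge hσ)
  obtain ⟨W₀, hW₀, hW₀z⟩ := even_module_split (n := 2 * m + 1) (by omega) hsq
    (fun a => Multiplicative.toAdd (ψ a)) (fun a b => by simp only [map_mul, toAdd_mul]) hev hsur
    (fun σ => cW (sec σ))
    (fun σ hσ τ hτ a => by
      show cW (sec (σ * τ)) a = cW (sec σ) (cW (sec τ) a)
      rw [hcρ (sec (σ * τ)) (sec σ * sec τ) (by rw [hsec _ (mul_mem hσ hτ), map_mul, hsec _ hσ, hsec _ hτ])]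
      exact Subtype.ext (by
        show ((sec σ : G) * sec τ) * a * ((sec σ : G) * sec τ)⁻¹ = _
        show _ = (sec σ : G) * ((sec τ : G) * a * (sec τ : G)⁻¹) * (sec σ : G)⁻¹
        group))
    (fun a => by
      show cW (sec 1) a = a
      rw [hcρ (sec 1) 1 (by rw [hsec _ (one_mem _), map_one])]
      exact Subtype.ext (by show (1 : G) * a * (1 : G)⁻¹ = a; group))
    (fun σ hσ a i => by
      show Multiplicative.toAdd (ψ (cW (sec σ) a)) i = _
      rw [hfc, hsec σ hσ])
    (fun σ _ z hz => Subtype.ext (by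
      show (sec σ : G) * z * (sec σ : G)⁻¹ = z
      have h1 := mem_centralizer_iff.1 (mem_inf.1 ((hker z).1 (toAdd_eq_zero.1 hz))).2 (sec σ : G) (sec σ).2
      rw [h1, mul_inv_cancel_right]))
  have hVW : vE p E ≤ W₀.map (wE p E).subtype := by
    refine commutator_le.2 fun w hw e he => ?_
    rw [← commutatorElement_inv e w]
    refine inv_mem ⟨cW ⟨e, he⟩ ⟨w, hw⟩ * ⟨w, hw⟩, ?_, ?_⟩
    · have := hW₀ (ρ ⟨e, he⟩) (hρ.le ⟨_, rfl⟩) ⟨w, hw⟩
      rwa [hcρ _ _ (hsec _ (hρ.le ⟨_, rfl⟩))] at this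
    · show e * w * e⁻¹ * w = ⁅e, w⁆
      rw [commutatorElement_def, inv_eq_of_mul_eq_one_left (congrArg Subtype.val (hsq ⟨w, hw⟩))]
  refine (eq_bot_iff_forall _).2 fun z hz => ?_
  obtain ⟨a, ha, rfl⟩ := hVW hz.1
  rw [show a = 1 from hW₀z a ha (toAdd_eq_zero.2 ((hker a).2 hz.2)), map_one]

end CfsgLib.SubBlock
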