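import Cfsg.Agent.Lib.Char.SubBlock.EK
import Cfsg.Agent.Lib.Char.SubBlock.PermSplit

/-!
# The normaliser of a symmetric block induces permutations
-/

set_option autoImplicit false
set_option linter.unusedSectionVars false
set_option linter.style.haveILetI false
set_option linter.unusedVariables false
set_option maxHeartbeats 1000000

open Subgroup Equiv
open scoped commutatorElement

namespace CfsgLib.SubBlock

universe u

section Edge

variable {n : ℕ}

/-- The weight-two vector on `i, j`. -/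
def edge (i j : Fin n) : Fin n → ZMod 2 := Pi.single i 1 + Pi.single j 1

theorem edge_apply (i j a : Fin n) : edge i j a = (if a = i then 1 else 0) + (if a = j then 1 else 0) := by
  simp [edge, Pi.single_apply]

theorem add_self' (v : Fin n → ZMod 2) : v + v = 0 := funext fun _ => CharTwo.add_self_eq_zero _

theorem sum_edge (i j : Fin n) : ∑ a, edge i j a = 0 := by
  simp [edge, Finset.sum_add_distrib, CharTwo.add_self_eq_zero]

theorem edge_add (i j k : Fin n) : edge i j + edge j k = edge i k := by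
  simp only [edge]
  rw [show Pi.single i 1 + Pi.single j 1 + (Pi.single j 1 + Pi.single k 1) =
    Pi.single i (1 : ZMod 2) + (Pi.single j 1 + Pi.single j 1) + Pi.single k 1 by abel]
  rw [add_self', add_zero]

theorem edge_comm (i j : Fin n) : edge i j = edge j i := add_comm _ _

theorem edge_eq_one_iff {i j : Fin n} (h : i ≠ j) (a : Fin n) : edge i j a = 1 ↔ a = i ∨ a = j := by
  rw [edge_apply]
  by_cases h1 : a = i <;> by_cases h2 : a = j <;> simp_all

theorem eq_edge_iff_of_one {i j a b : Fin n} (hij : i ≠ j) (hab : a ≠ b) (ha : edge i j a = 1) (hb : edge i j b = 1) :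
    edge i j = edge a b := by
  rcases (edge_eq_one_iff hij a).1 ha with rfl | rfl <;> rcases (edge_eq_one_iff hij b).1 hb with rfl | rfl
  · exact absurd rfl hab
  · rfl
  · exact edge_comm _ _
  · exact absurd rfl hab

theorem perm_eq_one_of_fix (h3 : 3 ≤ n) {σ : Perm (Fin n)}
    (h : ∀ v : Fin n → ZMod 2, ∑ i, v i = 0 → ∀ i, v (σ i) = v i) : σ = 1 := by
  refine Equiv.ext fun i => ?_
  by_contra hne
  rw [Perm.one_apply] at hne
  obtain ⟨j, -, hj⟩ := Finset.exists_mem_notMem_of_card_lt_card (s := ({i, σ i} : Finset (Fin n)))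
    (t := Finset.univ) (lt_of_le_of_lt Finset.card_le_two (by rw [Finset.card_univ, Fintype.card_fin]; omega))
  simp only [Finset.mem_insert, Finset.mem_singleton, not_or] at hj
  have := h _ (sum_edge i j) i
  simp [edge_apply, hne, hj.1, hj.2, Ne.symm hj.1, Ne.symm hj.2] at this

/-- A map of weight-two vectors to weight-two vectors compatible with addition comes from a permutation. -/
theorem exists_perm_of_edges (h5 : 5 ≤ n) (T : (Fin n → ZMod 2) → (Fin n → ZMod 2))
    (hadd : ∀ v w, ∑ i, v i = 0 → ∑ i, w i = 0 → T (v + w) = T v + T w)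
    (hedge : ∀ i j, i ≠ j → ∃ a b, a ≠ b ∧ T (edge i j) = edge a b) :
    ∃ π : Perm (Fin n), ∀ v, ∑ i, v i = 0 → ∀ i, T v i = v (π⁻¹ i) := by
  classical
  have htri : ∀ i j k, i ≠ j → T (edge i j) + T (edge i k) = T (edge j k) := fun i j k _ => by
    rw [edge_comm i j, ← hadd _ _ (sum_edge _ _) (sum_edge _ _), edge_add]
  have hne : ∀ i j k, i ≠ j → i ≠ k → j ≠ k → T (edge i j) ≠ T (edge i k) := by
    intro i j k h1 h2 h3 he
    obtain ⟨a, b, hab, hjk⟩ := hedge j k h3
    have h := htri i j k h1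
    rw [he, add_self', hjk] at h
    have := congrFun h a
    rw [(edge_eq_one_iff hab a).2 (Or.inl rfl)] at this
    exact zero_ne_one this
  -- the inner product of adjacent images
  let B : (Fin n → ZMod 2) → (Fin n → ZMod 2) → ZMod 2 := fun v w => ∑ a, v a * w a
  have hBe : ∀ a b (v : Fin n → ZMod 2), B (edge a b) v = v a + v b := fun a b v => by
    simp [B, edge_apply, add_mul, Finset.sum_add_distrib]
  have hB : ∀ i j k, i ≠ j → i ≠ k → j ≠ k → ∃ a, T (edge i j) a = 1 ∧ T (edge i k) a = 1 ∧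
      B (T (edge i j)) (T (edge i k)) = 1 := by
    intro i j k h1 h2 h3
    obtain ⟨a, b, hab, hij⟩ := hedge i j h1
    obtain ⟨c, d, hcd, hik⟩ := hedge i k h2
    obtain ⟨s, t, hst, hjk⟩ := hedge j k h3
    have h := htri i j k h1
    rw [hij, hik, hjk] at h
    have hne' := hne i j k h1 h2 h3
    rw [hij, hik] at hne'
    rw [hij, hik, hBe]
    by_cases hac : a = c ∨ a = d
    · have hb' : ¬ (b = c ∨ b = d) := fun hb' => hne' ((eq_edge_iff_of_one hcd hab
        ((edge_eq_one_iff hcd a).2 hac) ((edge_eq_one_iff hcd b).2 hb')).symm)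
      refine ⟨a, (edge_eq_one_iff hab a).2 (Or.inl rfl), (edge_eq_one_iff hcd a).2 hac, ?_⟩
      rw [(edge_eq_one_iff hcd a).2 hac, edge_apply, if_neg fun h => hb' (Or.inl h), if_neg fun h => hb' (Or.inr h)]
      decide
    · by_cases hbc : b = c ∨ b = d
      · refine ⟨b, (edge_eq_one_iff hab b).2 (Or.inr rfl), (edge_eq_one_iff hcd b).2 hbc, ?_⟩
        rw [(edge_eq_one_iff hcd b).2 hbc, edge_apply, if_neg fun h => hac (Or.inl h), if_neg fun h => hac (Or.inr h)]
        decide
      · exfalso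
        rw [not_or] at hac hbc
        have ea := congrFun h a
        have eb := congrFun h b
        have ec := congrFun h c
        simp only [Pi.add_apply, edge_apply, if_pos, if_neg hab, if_neg hab.symm, if_neg hac.1, if_neg hac.2,
          if_neg hbc.1, if_neg hbc.2, if_neg (Ne.symm hac.1), if_neg (Ne.symm hbc.1), if_neg hcd] at ea eb ec
        have hs : ∀ x, (1 : ZMod 2) = ((if x = s then 1 else 0) + if x = t then 1 else 0) → x = s ∨ x = t := by
          intro x hx
          by_contra hcon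
          rw [not_or] at hcon
          rw [if_neg hcon.1, if_neg hcon.2] at hx
          exact one_ne_zero hx
        have qa := hs a (by simpa using ea)
        have qb := hs b (by simpa using eb)
        have qc := hs c (by simpa using ec)
        rcases qa with rfl | rfl <;> rcases qb with rfl | rfl <;> rcases qc with rfl | rfl <;>
          first
            | exact hab rfl
            | exact hac.1 rfl
            | exact hbc.1 rfl
  have hpick : ∀ l : List (Fin n), l.length ≤ 4 → ∃ a, a ∉ l := fun l hl => by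
    obtain ⟨a, -, ha⟩ := Finset.exists_mem_notMem_of_card_lt_card (s := l.toFinset) (t := Finset.univ)
      (lt_of_le_of_lt l.toFinset_card_le (by rw [Finset.card_univ, Fintype.card_fin]; omega))
    exact ⟨a, by simpa using ha⟩
  have hpoint : ∀ i, ∃ a, ∀ j, j ≠ i → T (edge i j) a = 1 := by
    intro i
    obtain ⟨j, hj⟩ := hpick [i] (by simp)
    obtain ⟨k, hk⟩ := hpick [i, j] (by simp)
    simp only [List.mem_cons, List.not_mem_nil, or_false, not_or] at hj hk
    obtain ⟨a, ha1, ha2, -⟩ := hB i j k (Ne.symm hj) (Ne.symm hk.1) (Ne.symm hk.2)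
    refine ⟨a, fun l hl => ?_⟩
    by_contra hla
    have hla : T (edge i l) a = 0 := by
      revert hla; generalize T (edge i l) a = z; revert z; decide
    obtain ⟨m, hm⟩ := hpick [i, j, k, l] (by simp)
    simp only [List.mem_cons, List.not_mem_nil, or_false, not_or] at hm
    have hlj : l ≠ j := fun h => by subst h; rw [hla] at ha1; exact zero_ne_one ha1
    have hlk : l ≠ k := fun h => by subst h; rw [hla] at ha2; exact zero_ne_one ha2
    obtain ⟨a', b, hab, e1⟩ := hedge i j (Ne.symm hj)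
    obtain ⟨c', c, hcc, e2⟩ := hedge i k (Ne.symm hk.1)
    obtain ⟨s, t, hst, e3⟩ := hedge i l (Ne.symm hl)
    obtain ⟨b, hab, e1⟩ : ∃ b, a ≠ b ∧ T (edge i j) = edge a b := by
      rcases (edge_eq_one_iff hab a).1 (e1 ▸ ha1) with rfl | rfl
      · exact ⟨b, hab, e1⟩
      · exact ⟨a', hab.symm, e1.trans (edge_comm _ _)⟩
    obtain ⟨c, hac, e2⟩ : ∃ c, a ≠ c ∧ T (edge i k) = edge a c := by
      rcases (edge_eq_one_iff hcc a).1 (e2 ▸ ha2) with rfl | rfl
      · exact ⟨c, hcc, e2⟩
      · exact ⟨c', hcc.symm, e2.trans (edge_comm _ _)⟩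
    have hbc : b ≠ c := fun h => hne i j k (Ne.symm hj) (Ne.symm hk.1) (Ne.symm hk.2) (by rw [e1, e2, h])
    have gl : ∀ {w c}, T (edge i w) = edge a c → i ≠ w → w ≠ l → T (edge i l) c = 1 := fun {w c} e h1 h2 => by
      obtain ⟨-, -, -, h⟩ := hB i w l h1 (Ne.symm hl) h2
      rwa [e, hBe, hla, zero_add] at h
    have hbl := gl e1 (Ne.symm hj) (Ne.symm hlj)
    have hcl := gl e2 (Ne.symm hk.1) (Ne.symm hlk)
    have e3' : T (edge i l) = edge b c := e3.trans (eq_edge_iff_of_one hst hbc (e3 ▸ hbl) (e3 ▸ hcl))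
    have hsum : T (edge i j) + T (edge i k) = T (edge i l) := by
      rw [e1, e2, e3', edge_comm a b, edge_add]
    obtain ⟨-, -, -, w1⟩ := hB i j m (Ne.symm hj) (Ne.symm hm.1) (Ne.symm hm.2.1)
    obtain ⟨-, -, -, w2⟩ := hB i k m (Ne.symm hk.1) (Ne.symm hm.1) (Ne.symm hm.2.2.1)
    obtain ⟨-, -, -, w3⟩ := hB i l m (Ne.symm hl) (Ne.symm hm.1) (Ne.symm hm.2.2.2)
    rw [← hsum] at w3
    simp only [B, Pi.add_apply, add_mul, Finset.sum_add_distrib] at w3
    simp only [B] at w1 w2
    rw [w1, w2] at w3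
    exact absurd w3 (by decide)
  choose π hπ using hpoint
  have hinj : Function.Injective π := by
    intro i i' h
    by_contra hne'
    obtain ⟨j, hj⟩ := hpick [i, i'] (by simp)
    simp only [List.mem_cons, List.not_mem_nil, or_false, not_or] at hj
    have h1 := congrFun (htri i' i j (Ne.symm hne')) (π i)
    rw [Pi.add_apply, hπ i j hj.1, h, hπ i' i hne', hπ i' j hj.2] at h1
    exact absurd h1 (by decide)
  obtain ⟨σ, hσ⟩ : ∃ σ : Perm (Fin n), ∀ i, σ i = π i :=
    ⟨Equiv.ofBijective π ⟨hinj, Finite.surjective_of_injective hinj⟩, fun _ => rfl⟩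
  have himg : ∀ i j, i ≠ j → T (edge i j) = edge (σ i) (σ j) := by
    intro i j h
    obtain ⟨a, b, hab, e⟩ := hedge i j h
    rw [hσ, hσ, e]
    exact eq_edge_iff_of_one hab (fun hh => h (hinj hh)) (e ▸ hπ i j (Ne.symm h))
      (e ▸ (edge_comm i j ▸ hπ j i h))
  have hT0 : T 0 = 0 := by
    have := hadd 0 0 (by simp) (by simp)
    rw [add_zero, add_self'] at this
    exact this
  refine ⟨σ, fun v hv => ?_⟩
  obtain ⟨i₀, hi₀⟩ : ∃ i₀ : Fin n, i₀.val = 0 := ⟨⟨0, by omega⟩, rfl⟩
  let w : Finset (Fin n) → (Fin n → ZMod 2) := fun s => ∑ j ∈ s, edge i₀ j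
  have hw : ∀ s : Finset (Fin n), i₀ ∉ s → ∀ a, T (w s) a = w s (σ⁻¹ a) := by
    intro s
    induction s using Finset.induction with
    | empty => intro _ a; simp [w, hT0]
    | @insert j s hj ih =>
      intro hi a
      rw [Finset.mem_insert, not_or] at hi
      have hws : ∑ i, w s i = 0 := by
        simp only [w, Finset.sum_apply]
        rw [Finset.sum_comm]
        simp [sum_edge]
      simp only [w, Finset.sum_insert hj] at ih ⊢
      rw [hadd _ _ (sum_edge _ _) hws, Pi.add_apply, Pi.add_apply, himg i₀ j hi.1, ih hi.2 a]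
      congr 1
      simp only [edge_apply, Perm.inv_eq_iff_eq]
  have hv' : v = w (Finset.univ.filter fun j => j ≠ i₀ ∧ v j = 1) := by
    funext a
    simp only [w, Finset.sum_apply, edge_apply, Finset.sum_add_distrib, Finset.sum_ite_eq]
    have h01 : ∀ z : ZMod 2, z ≠ 1 → z = 0 := by decide
    by_cases ha : a = i₀
    · subst ha
      simp only [if_true, Finset.mem_filter, Finset.mem_univ, ne_eq, not_true_eq_false, false_and, and_false,
        if_false, add_zero]
      rw [← Finset.add_sum_erase _ _ (Finset.mem_univ a)] at hv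
      have h2 : ∑ x ∈ Finset.univ.erase a, v x =
          ∑ x ∈ Finset.univ.filter (fun j => ¬ j = a ∧ v j = 1), (1 : ZMod 2) := by
        rw [← Finset.sum_filter_add_sum_filter_not (Finset.univ.erase a) (fun j => v j = 1),
          Finset.sum_eq_zero (s := (Finset.univ.erase a).filter fun j => ¬ v j = 1)
            (fun x hx => h01 _ (Finset.mem_filter.1 hx).2), add_zero]
        refine Finset.sum_congr ?_ fun x hx => (Finset.mem_filter.1 hx).2.2
        ext x
        simp [Finset.mem_filter]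
      rw [h2] at hv
      rw [CharTwo.add_eq_zero] at hv
      exact hv
    · simp only [if_neg ha, Finset.sum_const_zero, zero_add, Finset.mem_filter, Finset.mem_univ, true_and, ne_eq, ha,
        not_false_eq_true, if_false, Finset.sum_const_zero, zero_add]
      by_cases h1 : v a = 1
      · rw [if_pos h1, h1]
      · rw [if_neg h1, h01 _ h1]
  intro a
  rw [hv']
  exact hw _ (by simp) a

end Edge

section Triple

variable {n : ℕ}

/-- A map conjugating three-cycles to permutations sends weight-two vectors to weight-two vectors. -/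
theorem edge_to_edge (h5 : 5 ≤ n) (T : (Fin n → ZMod 2) → (Fin n → ZMod 2))
    (hev : ∀ v, ∑ i, v i = 0 → ∑ i, T v i = 0)
    (hadd : ∀ v w, ∑ i, v i = 0 → ∑ i, w i = 0 → T (v + w) = T v + T w)
    (hinj : ∀ v w, ∑ i, v i = 0 → ∑ i, w i = 0 → T v = T w → v = w)
    (hconj : ∀ σ ∈ alternatingGroup (Fin n), ∃ τ : Perm (Fin n),
      ∀ v, ∑ i, v i = 0 → T (fun i => v (σ⁻¹ i)) = fun i => T v (τ⁻¹ i)) :
    ∀ i j, i ≠ j → ∃ a b, a ≠ b ∧ T (edge i j) = edge a b := by
  classical
  intro i j hij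
  obtain ⟨k, -, hk⟩ := Finset.exists_mem_notMem_of_card_lt_card (s := ({i, j} : Finset (Fin n)))
    (t := Finset.univ) (lt_of_le_of_lt Finset.card_le_two (by rw [Finset.card_univ, Fintype.card_fin]; omega))
  simp only [Finset.mem_insert, Finset.mem_singleton, not_or] at hk
  obtain ⟨a1, a2, a3, a4⟩ := tri_apply (i := i) (j := j) (k := k) (Ne.symm hk.1) (Ne.symm hk.2) hij
  obtain ⟨σ, hσ⟩ : ∃ σ, σ = tri i j k := ⟨_, rfl⟩
  rw [← hσ] at a1 a2 a3 a4
  obtain ⟨τ, hτ⟩ := hconj σ (hσ ▸ tri_mem_alternating hij (Ne.symm hk.2))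
  have hsur : ∀ w, ∑ i, w i = 0 → ∃ v, ∑ i, v i = 0 ∧ T v = w := by
    intro w hw
    obtain ⟨⟨v, hv⟩, h⟩ := Finite.surjective_of_injective
      (f := fun v : {v : Fin n → ZMod 2 // ∑ i, v i = 0} => (⟨T v.1, hev _ v.2⟩ : {v : Fin n → ZMod 2 // ∑ i, v i = 0}))
      (fun v v' h => Subtype.ext (hinj _ _ v.2 v'.2 (congrArg Subtype.val h))) ⟨w, hw⟩
    exact ⟨v, hv, congrArg Subtype.val h⟩
  have hsum : ∀ (v : Fin n → ZMod 2) (ρ : Perm (Fin n)), ∑ i, v i = 0 → ∑ i, v (ρ i) = 0 := fun v ρ hv =>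
    (Equiv.sum_comp ρ v).trans hv
  -- `τ ^ 3 = 1`
  have hτ3 : τ⁻¹ * τ⁻¹ * τ⁻¹ = 1 := by
    refine perm_eq_one_of_fix (by omega) fun w hw a => ?_
    obtain ⟨v, hv, rfl⟩ := hsur w hw
    have e1 := hτ _ (hsum _ σ⁻¹ (hsum _ σ⁻¹ hv))
    have e2 := hτ _ (hsum _ σ⁻¹ hv)
    have e3 := hτ v hv
    have hσ3 : σ⁻¹ * σ⁻¹ * σ⁻¹ = 1 := by
      rw [← mul_inv_rev, ← mul_inv_rev, inv_eq_one]
      refine Equiv.ext fun a => ?_
      simp only [Perm.mul_apply, Perm.one_apply]
      by_cases h1 : a = i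
      · subst h1; rw [a1, a2, a3]
      by_cases h2 : a = j
      · subst h2; rw [a2, a3, a1]
      by_cases h3 : a = k
      · subst h3; rw [a3, a1, a2]
      rw [a4 a h1 h2 h3, a4 a h1 h2 h3, a4 a h1 h2 h3]
    have h4 : T (fun x => v (σ⁻¹ (σ⁻¹ (σ⁻¹ x)))) = T v := congrArg T (funext fun x =>
      congrArg v (show (σ⁻¹ * σ⁻¹ * σ⁻¹) x = x by rw [hσ3, Perm.one_apply]))
    rw [e1, e2, e3] at h4
    exact congrFun h4 a
  -- the moved vectors
  have hsupp : ∀ v : Fin n → ZMod 2, ∑ i, v i = 0 → ∀ a, a ≠ i → a ≠ j → a ≠ k → v (σ⁻¹ a) + v a = 0 := fun v _ a h1 h2 h3 => by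
    rw [show σ⁻¹ a = a by rw [Perm.inv_eq_iff_eq, a4 a h1 h2 h3], CharTwo.add_self_eq_zero]
  have himg : ∀ w : Fin n → ZMod 2, (∃ u : Fin n → ZMod 2, ∑ i, u i = 0 ∧ ∀ x, u (τ⁻¹ x) + u x = w x) → ∃ v, ∑ i, v i = 0 ∧ T v = w ∧
      ∀ a, a ≠ i → a ≠ j → a ≠ k → v a = 0 := by
    rintro w ⟨u, hu, huw⟩
    obtain ⟨v, hv, rfl⟩ := hsur u hu
    refine ⟨fun x => v (σ⁻¹ x) + v x, ?_, ?_, hsupp v hv⟩
    · rw [Finset.sum_add_distrib, hsum _ σ⁻¹ hv, hv, add_zero]
    · show T ((fun x => v (σ⁻¹ x)) + v) = w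
      rw [hadd _ _ (hsum _ σ⁻¹ hv) hv, hτ v hv]
      exact funext huw
  -- the edge is such a vector
  have hedge_img : ∃ u : Fin n → ZMod 2, ∑ x, u x = 0 ∧ ∀ x, u (τ⁻¹ x) + u x = T (edge i j) x := by
    refine ⟨T (edge j k), hev _ (sum_edge _ _), fun x => ?_⟩
    have h1 : (fun a => edge j k (σ⁻¹ a)) = edge k i := funext fun a => by
      rw [edge_apply, edge_apply]
      simp only [Perm.inv_eq_iff_eq, a2, a3]
    have h2 := hτ _ (sum_edge j k)
    rw [h1] at h2
    rw [← congrFun h2 x, ← Pi.add_apply, ← hadd _ _ (sum_edge _ _) (sum_edge _ _),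
      show edge k i + edge j k = edge i j by rw [add_comm, edge_add, edge_comm]]
  -- `τ` moves some point
  obtain ⟨u₀, hu₀, hu₀w⟩ := hedge_img
  obtain ⟨a, ha⟩ : ∃ a, τ a ≠ a := by
    by_contra! hall
    have h0 : T (edge i j) = 0 := funext fun x => by
      rw [← hu₀w, show τ⁻¹ x = x by rw [Perm.inv_eq_iff_eq, hall], CharTwo.add_self_eq_zero]; rfl
    have hT0 : T 0 = 0 := by
      have := hadd 0 0 (by simp) (by simp)
      rw [add_zero, add_self'] at this
      exact this
    have h1 := congrFun (hinj _ 0 (sum_edge i j) (by simp) (h0.trans hT0.symm)) i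
    rw [(edge_eq_one_iff hij i).2 (Or.inl rfl)] at h1
    exact one_ne_zero h1
  have hcyc : ∀ x, τ (τ (τ x)) = x := fun x => by
    have h := congrArg (fun ρ : Perm (Fin n) => ρ⁻¹ x) hτ3
    simpa [mul_inv_rev] using h
  have hdist : ∀ x, τ x ≠ x → τ x ≠ τ (τ x) ∧ x ≠ τ (τ x) := fun x hx =>
    ⟨fun h => hx (τ.injective h).symm, fun h => hx (by conv_lhs => rw [h, hcyc])⟩
  by_cases hb : ∃ b, τ b ≠ b ∧ b ≠ a ∧ b ≠ τ a ∧ b ≠ τ (τ a)
  · exfalso
    obtain ⟨b, hbm, hba, hbta, hbtta⟩ := hb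
    obtain ⟨q1, q2⟩ := hdist a ha
    obtain ⟨q3, q4⟩ := hdist b hbm
    have d1 : τ b ≠ a := fun h => hbtta (by rw [← h, hcyc])
    have d2 : τ (τ b) ≠ a := fun h => hbta (by rw [← h, hcyc])
    have hw : ∀ x y, ∃ u : Fin n → ZMod 2, ∑ z, u z = 0 ∧ ∀ z, u (τ⁻¹ z) + u z = (edge (τ x) (τ y) + edge x y) z := fun x y =>
      ⟨edge x y, sum_edge x y, fun z => by simp only [Pi.add_apply, edge_apply, Perm.inv_eq_iff_eq]⟩
    let w : Fin 5 → (Fin n → ZMod 2) :=
      ![0, edge a (τ (τ a)), edge (τ a) a, edge b (τ (τ b)), edge (τ b) b]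
    have hmem : ∀ t, ∃ u : Fin n → ZMod 2, ∑ z, u z = 0 ∧ ∀ z, u (τ⁻¹ z) + u z = w t z := by
      intro t
      fin_cases t
      · exact ⟨0, by simp, fun z => by simp [w]⟩
      · obtain ⟨u, hu, huw⟩ := hw a (τ a)
        exact ⟨u, hu, fun z => by rw [huw, edge_comm (τ a) (τ (τ a)), edge_comm a (τ a), edge_add, edge_comm]; simp [w]⟩
      · obtain ⟨u, hu, huw⟩ := hw (τ a) (τ (τ a))
        exact ⟨u, hu, fun z => by
          rw [huw, hcyc, edge_comm (τ (τ a)) a, edge_comm (τ a) (τ (τ a)), edge_add, edge_comm]; simp [w]⟩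
      · obtain ⟨u, hu, huw⟩ := hw b (τ b)
        exact ⟨u, hu, fun z => by rw [huw, edge_comm (τ b) (τ (τ b)), edge_comm b (τ b), edge_add, edge_comm]; simp [w]⟩
      · obtain ⟨u, hu, huw⟩ := hw (τ b) (τ (τ b))
        exact ⟨u, hu, fun z => by
          rw [huw, hcyc, edge_comm (τ (τ b)) b, edge_comm (τ b) (τ (τ b)), edge_add, edge_comm]; simp [w]⟩
    have hv := fun t => himg (w t) (hmem t)
    choose v hv0 hvT hvsupp using hv
    obtain ⟨s, t, hst, hv2⟩ := Fintype.exists_ne_map_eq_of_card_lt (fun t => (v t i, v t j)) (by simp)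
    obtain ⟨e1, e2⟩ := Prod.ext_iff.1 hv2
    have hk' : ∀ t, v t k = v t i + v t j := fun t => by
      have h := hv0 t
      rw [← Finset.sum_subset (Finset.subset_univ ({i, j, k} : Finset (Fin n))) fun x _ hx => by
        simp only [Finset.mem_insert, Finset.mem_singleton, not_or] at hx
        exact hvsupp t x hx.1 hx.2.1 hx.2.2,
        Finset.sum_insert (by simp [hij, Ne.symm hk.1]), Finset.sum_insert (by simp [Ne.symm hk.2]),
        Finset.sum_singleton] at h
      revert h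
      generalize v t i = x, v t j = y, v t k = z
      revert x y z
      decide
    have heq : v s = v t := funext fun x => by
      by_cases h1 : x = i
      · subst h1; exact e1
      by_cases h2 : x = j
      · subst h2; exact e2
      by_cases h3 : x = k
      · subst h3; rw [hk', hk']; exact congrArg₂ (· + ·) e1 e2
      rw [hvsupp s x h1 h2 h3, hvsupp t x h1 h2 h3]
    have hwst : w s = w t := by rw [← hvT, ← hvT, heq]
    have c0 := congrFun hwst a
    have c1 := congrFun hwst (τ a)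
    have c2 := congrFun hwst (τ b)
    have c3 := congrFun hwst b
    fin_cases s <;> fin_cases t <;>
      simp [w, edge_apply, q1, q2, q3, q4, Ne.symm ha, ha, hbm, Ne.symm hbm, hba, Ne.symm hba, hbta, Ne.symm hbta,
        hbtta, Ne.symm hbtta, d1, Ne.symm d1, d2, Ne.symm d2, q1.symm, q2.symm, q3.symm, q4.symm] at c0 c1 c2 c3 hst
  · push Not at hb
    obtain ⟨q1, q2⟩ := hdist a ha
    have hsupp' : ∀ x, x ≠ a → x ≠ τ a → x ≠ τ (τ a) → T (edge i j) x = 0 := fun x h1 h2 h3 => by
      have hx : τ x = x := by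
        by_contra hx
        exact h3 (hb x hx h1 h2)
      rw [← hu₀w, show τ⁻¹ x = x by rw [Perm.inv_eq_iff_eq, hx], CharTwo.add_self_eq_zero]
    have hs3 := hev _ (sum_edge i j)
    rw [← Finset.sum_subset (Finset.subset_univ ({a, τ a, τ (τ a)} : Finset (Fin n))) fun x _ hx => by
        simp only [Finset.mem_insert, Finset.mem_singleton, not_or] at hx
        exact hsupp' x hx.1 hx.2.1 hx.2.2,
        Finset.sum_insert (by simp [Ne.symm ha, q2]), Finset.sum_insert (by simp [q1]),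
        Finset.sum_singleton] at hs3
    have hne : T (edge i j) ≠ 0 := fun h0 => by
      have hT0 : T 0 = 0 := by
        have := hadd 0 0 (by simp) (by simp)
        rw [add_zero, add_self'] at this
        exact this
      have h1 := congrFun (hinj _ 0 (sum_edge i j) (by simp) (h0.trans hT0.symm)) i
      rw [(edge_eq_one_iff hij i).2 (Or.inl rfl)] at h1
      exact one_ne_zero h1
    have h01 : ∀ z : ZMod 2, z = 0 ∨ z = 1 := by decide
    have key : ∀ x y z : Fin n, x ≠ y → T (edge i j) x = 1 → T (edge i j) y = 1 → T (edge i j) z = 0 →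
        (∀ w, w ≠ x → w ≠ y → w ≠ z → T (edge i j) w = 0) → ∃ c d, c ≠ d ∧ T (edge i j) = edge c d :=
      fun x y z hxy hx hy hz hr => ⟨x, y, hxy, funext fun w => by
        rw [edge_apply]
        by_cases h1 : w = x
        · subst h1; simp [hx, hxy]
        by_cases h2 : w = y
        · subst h2; simp [hy, h1]
        by_cases h3 : w = z
        · subst h3; simp [hz, h1, h2]
        simp [h1, h2, hr w h1 h2 h3]⟩
    rcases h01 (T (edge i j) a) with e0 | e0 <;> rcases h01 (T (edge i j) (τ a)) with e1 | e1 <;>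
      rcases h01 (T (edge i j) (τ (τ a))) with e2 | e2 <;> simp only [e0, e1, e2] at hs3
    · exact absurd (funext fun w => by
        by_cases h1 : w = a
        · subst h1; exact e0
        by_cases h2 : w = τ a
        · subst h2; exact e1
        by_cases h3 : w = τ (τ a)
        · subst h3; exact e2
        exact hsupp' w h1 h2 h3) hne
    · exact absurd hs3 (by decide)
    · exact absurd hs3 (by decide)
    · exact key _ _ _ q1 e1 e2 e0 fun w h1 h2 h3 => hsupp' w h3 h1 h2
    · exact absurd hs3 (by decide)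
    · exact key _ _ _ q2 e0 e2 e1 fun w h1 h2 h3 => hsupp' w h1 h3 h2
    · exact key _ _ _ (Ne.symm ha) e0 e1 e2 fun w h1 h2 h3 => hsupp' w h1 h2 h3
    · exact absurd hs3 (by decide)

end Triple

namespace SBlock

variable {G : Type u} [Group G] [Finite G] {p : ℕ} [hp : Fact p.Prime] {E : Subgroup G}

attribute [local instance] CfsgLib.Coprime.pCore_normal'

/-- The normaliser of a symmetric block has abelian image modulo `E`. -/
theorem commutator_mem_ek_perm {m : ℕ} (hm : 2 ≤ m) (hb : SBlock p E)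
    (hW : Cfsg.ActsAsOddPermModuleOnSection (2 * m + 1) (alternatingGroup (Fin (2 * m + 1))) E (wE p E) (zE p E))
    {x y : G} (hx : x ∈ normalizer (E : Set G)) (hy : y ∈ normalizer (E : Set G)) : ⁅x, y⁆ ∈ ekSub p E := by
  classical
  obtain ⟨-, -, ρ, ψ, hρ, hev, hsur, hker, hact⟩ := hW
  let f : ↥(wE p E) → (Fin (2 * m + 1) → ZMod 2) := fun a => Multiplicative.toAdd (ψ a)
  have hadd : ∀ a b, f (a * b) = f a + f b := fun a b => by simp only [f, map_mul, toAdd_mul]
  have hf0 : ∀ a b : ↥(wE p E), f a = f b ↔ (a : G) * (b : G)⁻¹ ∈ zE p E := fun a b => by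
    rw [← Subgroup.coe_inv, ← Subgroup.coe_mul, ← hker, map_mul, map_inv, mul_inv_eq_one]
    exact ⟨fun h => Multiplicative.toAdd.injective h, fun h => congrArg Multiplicative.toAdd h⟩
  let cw : ↥(normalizer (E : Set G)) → ↥(wE p E) → ↥(wE p E) := fun g a =>
    ⟨(g : G) * a * (g : G)⁻¹, (mem_normalizer_iff.1 (wE_norm g.2) a).1 a.2⟩
  choose lift hlift using hsur
  let T : ↥(normalizer (E : Set G)) → (Fin (2 * m + 1) → ZMod 2) → (Fin (2 * m + 1) → ZMod 2) :=
    fun g v => if hv : ∑ i, v i = 0 then f (cw g (lift v hv)) else 0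
  have hT : ∀ g a, T g (f a) = f (cw g a) := fun g a => by
    simp only [T]
    rw [dif_pos (show ∑ i, f a i = 0 from hev a)]
    refine (hf0 _ _).2 ?_
    have h1 := (hf0 _ _).1 (hlift (f a) (hev a))
    have h2 := (mem_normalizer_iff.1 (zE_norm g.2) _).1 h1
    show (g : G) * _ * (g : G)⁻¹ * ((g : G) * a * (g : G)⁻¹)⁻¹ ∈ _
    convert h2 using 1
    group
  have hrep : ∀ v : Fin (2 * m + 1) → ZMod 2, ∑ i, v i = 0 → ∃ a, f a = v := fun v hv => ⟨lift v hv, hlift v hv⟩
  have hmul : ∀ g h v, ∑ i, v i = 0 → T (g * h) v = T g (T h v) := fun g h v hv => by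
    obtain ⟨a, rfl⟩ := hrep v hv
    rw [hT, hT, hT]
    exact congrArg f (Subtype.ext (by show (g : G) * h * a * ((g : G) * h)⁻¹ = _; simp [cw, mul_assoc]))
  have hone : ∀ v, ∑ i, v i = 0 → T 1 v = v := fun v hv => by
    obtain ⟨a, rfl⟩ := hrep v hv
    rw [hT]
    exact congrArg f (Subtype.ext (by simp [cw]))
  have hE : ∀ (e : ↥E) v, ∑ i, v i = 0 → T ⟨e, le_normalizer e.2⟩ v = fun i => v ((ρ e)⁻¹ i) := fun e v hv => by
    obtain ⟨a, rfl⟩ := hrep v hv
    obtain ⟨w, hw, hwv⟩ := hact e a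
    rw [hT, show cw ⟨e, le_normalizer e.2⟩ a = w from Subtype.ext hw.symm]
    exact funext hwv
  have hperm : ∀ g, ∃ π : Perm (Fin (2 * m + 1)), ∀ v, ∑ i, v i = 0 → ∀ i, T g v i = v (π⁻¹ i) := by
    intro g
    have hev' : ∀ v, ∑ i, v i = 0 → ∑ i, T g v i = 0 := fun v hv => by
      obtain ⟨a, rfl⟩ := hrep v hv
      rw [hT]
      exact hev _
    have hadd' : ∀ v w, ∑ i, v i = 0 → ∑ i, w i = 0 → T g (v + w) = T g v + T g w := fun v w hv hw => by
      obtain ⟨a, rfl⟩ := hrep v hv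
      obtain ⟨b, rfl⟩ := hrep w hw
      rw [← hadd, hT, hT, hT, ← hadd]
      exact congrArg f (Subtype.ext (by simp [cw, mul_assoc]))
    refine exists_perm_of_edges (by omega) (T g) hadd' (edge_to_edge (by omega) (T g) hev' hadd' ?_ ?_)
    · intro v w hv hw h
      have := congrArg (T g⁻¹) h
      rwa [← hmul _ _ _ hv, ← hmul _ _ _ hw, inv_mul_cancel, hone _ hv, hone _ hw] at this
    · intro σ hσ
      obtain ⟨e, rfl⟩ := hρ.ge hσ
      refine ⟨ρ ⟨(g : G) * e * (g : G)⁻¹, (mem_normalizer_iff.1 g.2 e).1 e.2⟩, fun v hv => ?_⟩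
      obtain ⟨a, rfl⟩ := hrep v hv
      rw [← hE e _ hv, hT, hT, hT, ← hE _ _ (hev _), hT]
      exact congrArg f (Subtype.ext (by simp [cw, mul_assoc]))
  choose π hπ using hperm
  have huniq : ∀ σ τ : Perm (Fin (2 * m + 1)),
      (∀ v : Fin (2 * m + 1) → ZMod 2, ∑ i, v i = 0 → ∀ i, v (σ⁻¹ i) = v (τ⁻¹ i)) → σ = τ := fun σ τ h => by
    have h1 := perm_eq_one_of_fix (σ := σ⁻¹ * τ) (by omega) fun v hv i => by
      have := h v hv (τ i)
      simpa using this
    rwa [inv_mul_eq_one] at h1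
  have hπmul : ∀ g h, π (g * h) = π g * π h := fun g h => huniq _ _ fun v hv i => by
    rw [← hπ (g * h) v hv, hmul g h v hv, hπ g _ (by
      obtain ⟨a, rfl⟩ := hrep v hv
      rw [hT]; exact hev _), hπ h v hv, mul_inv_rev, Perm.mul_apply]
  let PH : ↥(normalizer (E : Set G)) →* Perm (Fin (2 * m + 1)) := MonoidHom.mk' π hπmul
  obtain ⟨c, hc⟩ : ∃ c, c = ⁅(⟨x, hx⟩ : ↥(normalizer (E : Set G))), (⟨y, hy⟩ : ↥(normalizer (E : Set G)))⁆ := ⟨_, rfl⟩
  have hcA : π c ∈ alternatingGroup (Fin (2 * m + 1)) := by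
    show PH c ∈ _
    rw [hc, map_commutatorElement, Equiv.Perm.mem_alternatingGroup, map_commutatorElement,
      commutatorElement_eq_one_iff_mul_comm]
    exact mul_comm _ _
  obtain ⟨e, he⟩ := hρ.ge hcA
  have hcN : (c : G) ∈ normalizer (E : Set G) := c.2
  have hce : ((c : G)) = ⁅x, y⁆ := by rw [hc]; rfl
  rw [← hce]
  refine hb.mem_ekSub hcN e.2 fun a ha => ?_
  have h1 : π (⟨e, le_normalizer e.2⟩⁻¹ * c) = 1 := by
    show PH _ = 1
    rw [map_mul, map_inv, inv_mul_eq_one]
    show π _ = π c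
    rw [← he]
    exact huniq _ _ fun v hv i => by rw [← hπ _ v hv, hE e v hv]
  have h2 : T (⟨e, le_normalizer e.2⟩⁻¹ * c) (f ⟨a, ha⟩) = f ⟨a, ha⟩ := funext fun i => by
    rw [hπ _ _ (hev _), h1, inv_one, Perm.one_apply]
  rw [hT] at h2
  have h3 := (hf0 _ _).1 h2
  rw [commutatorElement_def]
  exact h3

end SBlock

end CfsgLib.SubBlock
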