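import Cfsg.Agent.Lib.Char.SubBlock.Linear
import Cfsg.Agent.Lib.Char.SubBlock.PermAut

/-!
# Groups generated by commutators with the Baumann subgroup act like the block
-/

set_option autoImplicit false
set_option linter.unusedSectionVars false
set_option linter.style.haveILetI false
set_option linter.unusedVariables false
set_option maxHeartbeats 1000000

open Subgroup Matrix
open scoped commutatorElement MatrixGroups

namespace CfsgLib.SubBlock

universe u
variable {G : Type u} [Group G] [Finite G] {p : ℕ} [hp : Fact p.Prime] {E : Subgroup G}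

attribute [local instance] CfsgLib.Coprime.pCore_normal'

/-- An automorphism of a field of three elements is trivial. -/
theorem ringEquiv_three {F : Type} [Field F] [Fintype F] (h : Fintype.card F = 3) (σ : F ≃+* F) (t : F) :
    σ t = t := by
  have h1 : t * (t - 1) * (t + 1) = 0 := by
    have := FiniteField.pow_card t
    rw [h] at this
    linear_combination this
  rcases mul_eq_zero.1 h1 with h1 | h1
  · rcases mul_eq_zero.1 h1 with h2 | h2
    · rw [h2, map_zero]
    · rw [sub_eq_zero.1 h2, map_one]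
  · rw [eq_neg_of_add_eq_zero_left h1, map_neg, map_one]

theorem card_sl_two_three : Fintype.card SL(2, ZMod 3) = 24 := by decide +kernel

theorem noncomm_conj_zmod : ∀ h u : SL(2, ZMod 3), h ^ 4 = 1 → h ^ 2 ≠ 1 → u ^ 3 = 1 → u ≠ 1 →
    h * (u * h * u⁻¹) ≠ u * h * u⁻¹ * h := by decide +kernel

/-- An element of `SL₂(3)` of order prime to `3` lies in the derived group. -/
theorem mem_comm_three {F : Type} [Field F] [Fintype F] (hF : Fintype.card F = 3) {g : SL(2, F)} {n : ℕ}
    (hn : n.Coprime 3) (hg : g ^ n = 1) : g ∈ commutator SL(2, F) := by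
  classical
  have h24 : Nat.card SL(2, F) = 24 := by
    rw [Nat.card_congr (slCongr (ZMod.ringEquivOfPrime F Nat.prime_three hF).symm).toEquiv, Nat.card_eq_fintype_card,
      card_sl_two_three]
  haveI : (commutator SL(2, F)).Normal := inferInstance
  have h3 : (commutator SL(2, F)).index = 3 := by
    have := (commutator SL(2, F)).card_mul_index
    rw [card_comm_three hF, h24] at this
    omega
  rw [← QuotientGroup.eq_one_iff, ← orderOf_eq_one_iff]
  refine Nat.eq_one_of_dvd_coprimes hn (orderOf_dvd_of_pow_eq_one ?_) ?_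
  · rw [← QuotientGroup.mk_pow, hg, QuotientGroup.mk_one]
  · rw [← h3, index_eq_card]
    exact orderOf_dvd_natCard _

theorem noncomm_conj {F : Type} [Field F] [Fintype F] (hF : Fintype.card F = 3) {h u : SL(2, F)} (h4 : h ^ 4 = 1)
    (h2 : h ^ 2 ≠ 1) (hu : u ^ 3 = 1) (hu1 : u ≠ 1) : h * (u * h * u⁻¹) ≠ u * h * u⁻¹ * h := by
  set e := slCongr (ZMod.ringEquivOfPrime F Nat.prime_three hF).symm
  intro hc
  refine noncomm_conj_zmod (e h) (e u) (by rw [← map_pow, h4, map_one])
    (fun hh => h2 (e.injective (by rw [map_pow, hh, map_one]))) (by rw [← map_pow, hu, map_one])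
    (fun hh => hu1 (e.injective (by rw [hh, map_one]))) ?_
  rw [← map_inv, ← map_mul, ← map_mul, ← map_mul, ← map_mul, hc]

/-- A subgroup generated by its elements of order prime to `p`. -/
theorem closure_coprime_eq {F : Subgroup G} (h : Cfsg.pResidualOf p F = F) :
    F = closure {g : G | g ∈ F ∧ (orderOf g).Coprime p} := by
  rw [← CfsgLib.BaumannNormal.pResidualOf_eq_closure]
  exact h.symm

namespace SLData

variable {F : Type} [Field F] [Fintype F] (hb : SBlock p E) (d : SLData p E F)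

theorem rho_inj {g g' : SL(2, F)} (h : ∀ v : Fin 2 → F, g.1.mulVec v = g'.1.mulVec v) : g = g' :=
  Subtype.ext (Matrix.mulVec_injective (funext h))

/-- The elements acting as elements of `SL₂`. -/
def slSub : Subgroup G where
  carrier := {x | ∃ hx : x ∈ normalizer (E : Set G), ∃ g : SL(2, F), ∀ v, d.phi hb hx v = g.1.mulVec v}
  one_mem' := ⟨one_mem _, 1, fun v => by rw [d.phi_one hb, Matrix.SpecialLinearGroup.coe_one, Matrix.one_mulVec]⟩
  mul_mem' := fun {x y} ⟨hx, g, hg⟩ ⟨hy, h, hh⟩ => ⟨mul_mem hx hy, g * h, fun v => by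
    rw [d.phi_mul hb hx hy, hh, hg, Matrix.SpecialLinearGroup.coe_mul, ← Matrix.mulVec_mulVec]⟩
  inv_mem' := fun {x} ⟨hx, g, hg⟩ => ⟨inv_mem hx, g⁻¹, fun v => d.phi_injective hb hx (by
    rw [d.phi_self_inv hb hx, hg, Matrix.mulVec_mulVec, ← Matrix.SpecialLinearGroup.coe_mul, mul_inv_cancel,
      Matrix.SpecialLinearGroup.coe_one, Matrix.one_mulVec])⟩

/-- The matrix of an element. -/
noncomputable def slMap : ↥(slSub hb d) →* SL(2, F) :=
  MonoidHom.mk' (fun x => x.2.choose_spec.choose) fun x y => rho_inj fun v => by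
    have hx := x.2.choose_spec.choose_spec
    have hy := y.2.choose_spec.choose_spec
    have hxy := (x * y).2.choose_spec.choose_spec
    rw [← hxy, Matrix.SpecialLinearGroup.coe_mul, ← Matrix.mulVec_mulVec, ← hy, ← hx,
      ← d.phi_mul hb x.2.choose y.2.choose]

theorem slMap_spec (x : ↥(slSub hb d)) (hx : (x : G) ∈ normalizer (E : Set G)) (v : Fin 2 → F) :
    d.phi hb hx v = (slMap hb d x).1.mulVec v :=
  x.2.choose_spec.choose_spec v

theorem slMap_eq {x : ↥(slSub hb d)} (hx : (x : G) ∈ normalizer (E : Set G)) {g : SL(2, F)}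
    (h : ∀ v, d.phi hb hx v = g.1.mulVec v) : slMap hb d x = g :=
  rho_inj fun v => by rw [← slMap_spec hb d x hx, h]

theorem slMap_ker (x : ↥(slSub hb d)) : slMap hb d x = 1 ↔ (x : G) ∈ centralizer (vE p E : Set G) := by
  have hx : (x : G) ∈ normalizer (E : Set G) := x.2.choose
  rw [← d.phi_fix_of_cent hb hx]
  refine ⟨fun h v => by rw [slMap_spec hb d x hx, h, Matrix.SpecialLinearGroup.coe_one, Matrix.one_mulVec],
    fun h => slMap_eq hb d hx fun v => ?_⟩
  rw [h, Matrix.SpecialLinearGroup.coe_one, Matrix.one_mulVec]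

theorem ek_le_slSub : ekSub p E ≤ slSub hb d := by
  refine sup_le (fun e he => ⟨le_normalizer he, d.ρ ⟨e, he⟩, fun v => d.phi_E hb ⟨e, he⟩ v⟩) fun k hk => ?_
  refine ⟨(mem_inf.1 hk).1, 1, fun v => ?_⟩
  rw [(d.phi_fix_of_cent hb _).2 (mem_inf.1 hk).2, Matrix.SpecialLinearGroup.coe_one, Matrix.one_mulVec]

theorem mem_ek_of_range {x : G} (hx : x ∈ slSub hb d) (h : slMap hb d ⟨x, hx⟩ ∈ d.ρ.range) : x ∈ ekSub p E := by
  obtain ⟨e, he⟩ := h
  have hxN : x ∈ normalizer (E : Set G) := hx.choose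
  refine hb.mem_ekSub hxN e.2 ((d.phi_eq_one_iff hb (mul_mem (inv_mem (le_normalizer e.2)) hxN)).1 fun v => ?_)
  rw [d.phi_mul hb (inv_mem (le_normalizer e.2)) hxN, slMap_spec hb d ⟨x, hx⟩ hxN, ← he, ← d.phi_E hb,
    d.phi_inv_self hb]

theorem mem_range_of_ek {x : G} (hx : x ∈ ekSub p E) :
    slMap hb d ⟨x, ek_le_slSub hb d hx⟩ ∈ d.ρ.range := by
  obtain ⟨hxN, e, he, hex⟩ := mem_ekSub_iff.1 hx
  refine ⟨⟨e, he⟩, (slMap_eq hb d hxN fun v => ?_).symm⟩
  have h1 := (d.phi_fix_of_cent hb (mul_mem (inv_mem (le_normalizer he)) hxN)).2 hex v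
  rw [d.phi_mul hb (inv_mem (le_normalizer he)) hxN] at h1
  conv_rhs => rw [← h1]
  rw [← d.phi_E hb ⟨e, he⟩, d.phi_self_inv hb]

/-- The Baumann subgroup acts inside `SL₂`, as the transvections with a common axis. -/
theorem baumann_slSub (hG : centralizer (Cfsg.pCore p G : Set G) ≤ Cfsg.pCore p G) (T : Sylow p G)
    (hE : Cfsg.IsBaumannBlock p (T : Subgroup G) E) (h3 : 3 ≤ Fintype.card F)
    (hBN : Cfsg.baumannSubgroupOf p (T : Subgroup G) ≤ normalizer (E : Set G)) :
    Cfsg.baumannSubgroupOf p (T : Subgroup G) ≤ slSub hb d ∧ ∃ g : SL(2, F),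
      (∀ x : ↥(slSub hb d), (x : G) ∈ Cfsg.baumannSubgroupOf p (T : Subgroup G) → ∃ c, slMap hb d x = tv g c) ∧
      ∀ c : F, ∃ x : ↥(slSub hb d), (x : G) ∈ Cfsg.baumannSubgroupOf p (T : Subgroup G) ∧ slMap hb d x = tv g c := by
  obtain ⟨g, h1, h2⟩ := baumann_shape hb d hG T hE h3 hBN
  have hle : Cfsg.baumannSubgroupOf p (T : Subgroup G) ≤ slSub hb d := fun b hb' => by
    obtain ⟨c, hc⟩ := h1 b hb'
    exact ⟨hBN hb', tv g c, hc⟩
  refine ⟨hle, g, fun x hx => ?_, fun c => ?_⟩
  · obtain ⟨c, hc⟩ := h1 x hx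
    exact ⟨c, slMap_eq hb d (hBN hx) hc⟩
  · obtain ⟨b, hb', hc⟩ := h2 c
    exact ⟨⟨b, hle hb'⟩, hb', slMap_eq hb d (hBN hb') hc⟩

/-- Over three elements, commutators of normalising elements act with determinant one. -/
theorem commutator_slSub (h3 : Fintype.card F = 3) {x y : G} (hx : x ∈ normalizer (E : Set G))
    (hy : y ∈ normalizer (E : Set G)) : ⁅x, y⁆ ∈ slSub hb d := by
  classical
  have hlin : ∀ g : ↥(normalizer (E : Set G)), ∀ (t : F) v, d.phi hb g.2 (t • v) = t • d.phi hb g.2 v := fun g t v => by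
    obtain ⟨σ, hσ⟩ := d.exists_sigma hb g.2
    rw [hσ, ringEquiv_three h3]
  let mat : ↥(normalizer (E : Set G)) → Matrix (Fin 2) (Fin 2) F := fun g =>
    Matrix.of fun i j => d.phi hb g.2 (Pi.single j 1) i
  have hmat : ∀ g v, d.phi hb g.2 v = (mat g).mulVec v := fun g v => by
    conv_lhs => rw [show v = v 0 • Pi.single (0 : Fin 2) (1 : F) + v 1 • Pi.single (1 : Fin 2) (1 : F) by
      funext i; fin_cases i <;> simp]
    rw [map_add, hlin, hlin]
    funext i
    simp [mat, Matrix.mulVec, dotProduct, Fin.sum_univ_two, mul_comm]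
  let M : ↥(normalizer (E : Set G)) →* Matrix (Fin 2) (Fin 2) F :=
    { toFun := mat
      map_one' := Matrix.mulVec_injective (funext fun v => by
        rw [← hmat, Matrix.one_mulVec]; exact d.phi_one hb v)
      map_mul' := fun g h => Matrix.mulVec_injective (funext fun v => by
        rw [← hmat, ← Matrix.mulVec_mulVec, ← hmat, ← hmat]; exact d.phi_mul hb g.2 h.2 v) }
  let D : ↥(normalizer (E : Set G)) →* Fˣ :=
    ((Matrix.detMonoidHom : Matrix (Fin 2) (Fin 2) F →* F).comp M).toHomUnits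
  obtain ⟨c, hc⟩ : ∃ c, c = ⁅(⟨x, hx⟩ : ↥(normalizer (E : Set G))), (⟨y, hy⟩ : ↥(normalizer (E : Set G)))⁆ := ⟨_, rfl⟩
  have hdet : (mat c).det = 1 := by
    have h1 : D c = 1 := by
      rw [hc, map_commutatorElement, commutatorElement_eq_one_iff_mul_comm]
      exact mul_comm _ _
    exact congrArg Units.val h1
  have hcv : (c : G) = ⁅x, y⁆ := by rw [hc]; rfl
  rw [← hcv]
  exact ⟨c.2, ⟨mat c, hdet⟩, hmat c⟩

end SLData

namespace SBlock

/-- Odd-order normalisers of a block of type `C₃` act like elements of the block. -/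
theorem mem_ek_three (hb : SBlock p E) (h3 : IsThree p E) {x : G} (hx : x ∈ normalizer (E : Set G))
    (ho : (orderOf x).Coprime p) : x ∈ ekSub p E := by
  classical
  obtain ⟨hc2, hs⟩ := hb.vE_data (Or.inl h3)
  have hc4 : Nat.card ↥(vE p E) = 4 := by rw [hc2, h3.1]; rfl
  haveI := Fintype.ofFinite ↥(vE p E)
  obtain ⟨Ω, hΩ⟩ : ∃ Ω : Type u, Ω = {v : ↥(vE p E) // v ≠ 1} := ⟨_, rfl⟩
  subst hΩ
  let P : ↥(normalizer (E : Set G)) → Equiv.Perm {v : ↥(vE p E) // v ≠ 1} := fun g =>
    { toFun := fun v => ⟨⟨(g : G) * v.1 * (g : G)⁻¹, (mem_normalizer_iff.1 (vE_norm g.2) _).1 v.1.2⟩, fun h => v.2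
        (Subtype.ext (conj_eq_one_iff.1 (congrArg Subtype.val h)))⟩
      invFun := fun v => ⟨⟨(g : G)⁻¹ * v.1 * (g : G), (mem_normalizer_iff''.1 (vE_norm g.2) _).1 v.1.2⟩, fun h => v.2
        (Subtype.ext (conj_eq_one_iff (a := (g : G)⁻¹) |>.1 (by rw [inv_inv]; exact congrArg Subtype.val h)))⟩
      left_inv := fun v => Subtype.ext (Subtype.ext (by simp [mul_assoc]))
      right_inv := fun v => Subtype.ext (Subtype.ext (by simp [mul_assoc])) }
  let π : ↥(normalizer (E : Set G)) →* Equiv.Perm {v : ↥(vE p E) // v ≠ 1} := MonoidHom.mk' P fun g h =>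
    Equiv.ext fun v => Subtype.ext (Subtype.ext (by simp [P, mul_assoc]))
  have hker : ∀ g, π g = 1 → (g : G) ∈ centralizer (vE p E : Set G) := fun g hg => by
    refine mem_centralizer_iff.2 fun v hv => ?_
    by_cases h1 : (⟨v, hv⟩ : ↥(vE p E)) = 1
    · rw [show v = 1 from congrArg Subtype.val h1, one_mul, mul_one]
    · have h2 := congrArg (fun f : Equiv.Perm {v : ↥(vE p E) // v ≠ 1} => ((f ⟨⟨v, hv⟩, h1⟩).1 : G)) hg
      exact (mul_inv_eq_iff_eq_mul.1 h2).symm
  have hΩ3 : Fintype.card {v : ↥(vE p E) // v ≠ 1} = 3 := by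
    rw [Fintype.card_subtype_compl, Fintype.card_subtype_eq, ← Nat.card_eq_fintype_card, hc4]
  have halt : ∀ g : ↥(normalizer (E : Set G)), (orderOf (g : G)).Coprime 2 →
      π g ∈ alternatingGroup {v : ↥(vE p E) // v ≠ 1} := fun g hg => by
    rw [Equiv.Perm.mem_alternatingGroup, ← orderOf_eq_one_iff]
    refine Nat.eq_one_of_dvd_coprimes hg ((orderOf_map_dvd _ _).trans ?_) (orderOf_dvd_of_pow_eq_one (by
      rcases Int.units_eq_one_or (Equiv.Perm.sign (π g)) with h | h <;> rw [h] <;> decide))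
    exact (orderOf_map_dvd π g).trans (Subgroup.orderOf_coe g).symm.dvd
  have hA3 : Nat.card ↥(alternatingGroup {v : ↥(vE p E) // v ≠ 1}) = 3 := by
    haveI : Nontrivial {v : ↥(vE p E) // v ≠ 1} := Fintype.one_lt_card_iff_nontrivial.1 (by omega)
    have h := two_mul_nat_card_alternatingGroup (α := {v : ↥(vE p E) // v ≠ 1})
    rw [Nat.card_perm, Nat.card_eq_fintype_card (α := {v : ↥(vE p E) // v ≠ 1}), hΩ3,
      show Nat.factorial 3 = 6 from rfl] at h
    omega
  obtain ⟨e, he, hec, hne⟩ : ∃ e ∈ E, (orderOf e).Coprime p ∧ e ∉ Cfsg.pCore p G := by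
    by_contra! hcon
    exact hb.not_le_core (hb.res.trans ((closure_le _).2 fun g hg => hcon g hg.1 hg.2))
  have he1 : π ⟨e, le_normalizer he⟩ ≠ 1 := fun h => hne (hb.ker (mem_inf.2 ⟨he, hker _ h⟩))
  rw [h3.1] at ho hec
  haveI : Fact (Nat.Prime 3) := ⟨Nat.prime_three⟩
  obtain ⟨i, hi⟩ := mem_zpowers_iff.1 (mem_zpowers_of_prime_card hA3
    (g := (⟨_, halt ⟨e, le_normalizer he⟩ hec⟩ : ↥(alternatingGroup {v : ↥(vE p E) // v ≠ 1})))
    (fun h => he1 (congrArg Subtype.val h)) (g' := ⟨_, halt ⟨x, hx⟩ ho⟩))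
  refine mem_ekSub_iff.2 ⟨hx, e ^ i, E.zpow_mem he i, ?_⟩
  exact hker ((⟨e, le_normalizer he⟩ : ↥(normalizer (E : Set G))) ^ i)⁻¹ |> fun _ => (by
    have := hker (((⟨e, le_normalizer he⟩ : ↥(normalizer (E : Set G))) ^ i)⁻¹ * ⟨x, hx⟩) (by
      rw [map_mul, map_inv, map_zpow, inv_mul_eq_one]
      exact congrArg Subtype.val hi)
    simpa using this)

/-- `F = O^p(F) = [F, B(T)]` acts on `[W, E]` like a subgroup of `E`. -/
theorem le_ek (hG : centralizer (Cfsg.pCore p G : Set G) ≤ Cfsg.pCore p G) (hb : SBlock p E) (T : Sylow p G)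
    (hE : Cfsg.IsBaumannBlock p (T : Subgroup G) E)
    (hBN : Cfsg.baumannSubgroupOf p (T : Subgroup G) ≤ normalizer (E : Set G)) {X : Subgroup G}
    (hXN : X ≤ normalizer (E : Set G)) (hres : Cfsg.pResidualOf p X = X)
    (hXB : ⁅X, Cfsg.baumannSubgroupOf p (T : Subgroup G)⁆ = X) : X ≤ ekSub p E := by
  rcases block_cases T hE hb with ⟨h2, m, hm, hW⟩ | h3 | ⟨F, i₁, i₂, hF, ⟨d⟩⟩
  · rw [← hXB, commutator_le]
    exact fun x hx b hb' => hb.commutator_mem_ek_perm hm hW (hXN hx) (hBN hb')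
  · rw [closure_coprime_eq hres, closure_le]
    exact fun x hx => hb.mem_ek_three h3 (hXN hx.1) hx.2
  · rcases hF.lt_or_eq with h4 | h4
    · have hBek : Cfsg.baumannSubgroupOf p (T : Subgroup G) ≤ ekSub p E := by
        intro b hb'
        obtain ⟨hle, -⟩ := SLData.baumann_slSub hb d hG T hE hF hBN
        exact SLData.mem_ek_of_range hb d (hle hb') (by
          obtain ⟨e, he⟩ := d.surj_of_four h4 (SLData.slMap hb d ⟨b, hle hb'⟩)
          exact ⟨e, he⟩)
      rw [← hXB, commutator_le]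
      intro x hx b hb'
      rw [commutatorElement_def]
      exact mul_mem ((mem_normalizer_iff.1 (ekSub_norm (hXN hx)) b).1 (hBek hb')) (inv_mem (hBek hb'))
    · have hp3 : p = 3 := (Nat.prime_dvd_prime_iff_eq hp.out Nat.prime_three).1 (h4.symm ▸ d.prime_dvd_card)
      have hXs : X ≤ SLData.slSub hb d := by
        rw [← hXB, commutator_le]
        exact fun x hx b hb' => SLData.commutator_slSub hb d h4.symm (hXN hx) (hBN hb')
      rw [closure_coprime_eq hres, closure_le]
      rintro x ⟨hx, ho⟩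
      refine SLData.mem_ek_of_range hb d (hXs hx) (d.range.ge (mem_comm_three h4.symm (hp3 ▸ ho) ?_))
      rw [← map_pow, show (⟨x, hXs hx⟩ : ↥(SLData.slSub hb d)) ^ orderOf x = 1 from
        Subtype.ext (pow_orderOf_eq_one x), map_one]

end SBlock

namespace SLData

variable {F : Type} [Field F] [Fintype F]

/-- A group moving `[W, E]` acts as all of `E`. -/
theorem ek_full (hG : centralizer (Cfsg.pCore p G : Set G) ≤ Cfsg.pCore p G) (hb : SBlock p E) (d : SLData p E F)
    (h3 : 3 ≤ Fintype.card F) (T : Sylow p G) (hE : Cfsg.IsBaumannBlock p (T : Subgroup G) E)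
    (hBN : Cfsg.baumannSubgroupOf p (T : Subgroup G) ≤ normalizer (E : Set G)) {X : Subgroup G}
    (hXN : X ≤ normalizer (E : Set G)) (hres : Cfsg.pResidualOf p X = X)
    (hXB : ⁅X, Cfsg.baumannSubgroupOf p (T : Subgroup G)⁆ = X) (hmove : ¬ X ≤ centralizer (vE p E : Set G))
    {e : G} (he : e ∈ E) : ∃ x ∈ X, x⁻¹ * e ∈ centralizer (vE p E : Set G) := by
  classical
  haveI := d.charP
  have hXek := hb.le_ek hG T hE hBN hXN hres hXB
  obtain ⟨hBs, g, hB1, hB2⟩ := baumann_slSub hb d hG T hE h3 hBN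
  have hXs : X ≤ slSub hb d := hXek.trans (ek_le_slSub hb d)
  have hEs : E ≤ slSub hb d := le_sup_left.trans (ek_le_slSub hb d)
  obtain ⟨H, hH⟩ : ∃ H, H = (X.subgroupOf (slSub hb d)).map (slMap hb d) := ⟨_, rfl⟩
  suffices hfull : d.ρ.range ≤ H by
    obtain ⟨y, hy, hye⟩ := hH.le (hfull ⟨⟨e, he⟩, rfl⟩)
    refine ⟨y, hy, ?_⟩
    have h1 : slMap hb d (y⁻¹ * ⟨e, hEs he⟩) = 1 := by
      rw [map_mul, map_inv, hye, inv_mul_eq_one]
      exact (slMap_eq hb d (le_normalizer he) fun v => d.phi_E hb ⟨e, he⟩ v).symm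
    exact (slMap_ker hb d _).1 h1
  -- transvections normalise the image
  have hnorm : ∀ c, tv g c ∈ normalizer (H : Set SL(2, F)) := by
    intro c
    obtain ⟨b, hb', hbc⟩ := hB2 c
    rw [← hbc]
    have hbX : (b : G) ∈ normalizer (X : Set G) := by
      refine CfsgLib.Fusion.conjBy_eq_iff.1 (CfsgLib.Fusion.conjBy_eq_of_le ?_)
      rintro _ ⟨x, hx, rfl⟩
      show (b : G) * x * (b : G)⁻¹ ∈ X
      rw [show (b : G) * x * (b : G)⁻¹ = ⁅x, (b : G)⁆⁻¹ * x by simp only [commutatorElement_def]; group]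
      exact mul_mem (inv_mem (hXB.le (commutator_mem_commutator hx hb'))) hx
    rw [hH]
    refine Subgroup.le_normalizer_map (slMap hb d) ⟨b, ?_, rfl⟩
    exact mem_normalizer_iff.2 fun z => ⟨fun hz => (mem_normalizer_iff.1 hbX _).1 hz,
      fun hz => (mem_normalizer_iff.1 hbX _).2 hz⟩
  have hHmem : ∀ x (hx : x ∈ X), slMap hb d ⟨x, hXs hx⟩ ∈ H := fun x hx => hH ▸ ⟨⟨x, hXs hx⟩, hx, rfl⟩
  obtain ⟨t, ht⟩ : ∃ t : SL(2, F), t = tv g 1 := ⟨_, rfl⟩
  have htp : ∀ (c : F) (k : ℕ), tv g c ^ k = tv g (k * c) := by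
    intro c k
    induction k with
    | zero =>
      refine rho_inj fun v => ?_
      obtain ⟨a, b, rfl⟩ := exists_coords g v
      rw [tv_mulVec, pow_zero, Matrix.SpecialLinearGroup.coe_one, Matrix.one_mulVec, Nat.cast_zero, zero_mul, zero_mul,
        add_zero]
    | succ k ih =>
      refine rho_inj fun v => ?_
      obtain ⟨a, b, rfl⟩ := exists_coords g v
      rw [pow_succ, ih, Matrix.SpecialLinearGroup.coe_mul, ← Matrix.mulVec_mulVec, tv_mulVec, tv_mulVec, tv_mulVec]
      push_cast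
      congr 2
      ring
  -- if all of `X` acts by such transvections it acts trivially
  have htriv : ¬ ∀ x (hx : x ∈ X), ∃ c, slMap hb d ⟨x, hXs hx⟩ = tv g c := by
    intro hall
    refine hmove ?_
    rw [closure_coprime_eq hres, closure_le]
    rintro x ⟨hx, ho⟩
    obtain ⟨c, hc⟩ := hall x hx
    refine (slMap_ker hb d ⟨x, hXs hx⟩).1 (rho_inj fun v => ?_)
    have h1 : tv g ((orderOf x : F) * c) = 1 := by
      rw [← htp, ← hc, ← map_pow, show (⟨x, hXs hx⟩ : ↥(slSub hb d)) ^ orderOf x = 1 from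
        Subtype.ext (pow_orderOf_eq_one x), map_one]
    have h2 := congrArg (fun M : SL(2, F) => M.1.mulVec ((0 : F) • g.1.mulVec ![1, 0] + (1 : F) • g.1.mulVec ![0, 1])) h1
    simp only [tv_mulVec, Matrix.SpecialLinearGroup.coe_one, Matrix.one_mulVec] at h2
    have h3 : (orderOf x : F) * c = 0 := by simpa using (coords_inj g h2).1
    have hox : (orderOf x : F) ≠ 0 := fun h => hp.out.ne_one (Nat.eq_one_of_dvd_coprimes ho
      ((CharP.cast_eq_zero_iff F p _).1 h) dvd_rfl)
    obtain ⟨a, b, rfl⟩ := exists_coords g v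
    rw [hc, tv_mulVec, (mul_eq_zero.1 h3).resolve_left hox, zero_mul, add_zero, Matrix.SpecialLinearGroup.coe_one,
      Matrix.one_mulVec]
  rcases h3.lt_or_eq with h4 | h4
  · -- the corner entries
    rcases Classical.em (∃ h ∈ H, (g⁻¹ * h * g).1 1 0 ≠ 0) with ⟨h₀, hh₀, hc₀⟩ | hno
    · have hN : ∀ x : SL(2, F), g * x * g⁻¹ ∈ normalizer (H : Set SL(2, F)) := by
        have hmul : ∀ a b : SL(2, F), g * a * g⁻¹ ∈ normalizer (H : Set SL(2, F)) →
            g * b * g⁻¹ ∈ normalizer (H : Set SL(2, F)) → g * (a * b) * g⁻¹ ∈ normalizer (H : Set SL(2, F)) :=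
          fun a b ha hb' => by
            rw [show g * (a * b) * g⁻¹ = (g * a * g⁻¹) * (g * b * g⁻¹) by group]
            exact mul_mem ha hb'
        have hu : ∀ c, g * CfsgLib.Lie.SL2Rel.Fam.upper c * g⁻¹ ∈ normalizer (H : Set SL(2, F)) := hnorm
        obtain ⟨k, hk⟩ : ∃ k, k = g⁻¹ * h₀ * g := ⟨_, rfl⟩
        have hkN : g * k * g⁻¹ ∈ normalizer (H : Set SL(2, F)) := by
          rw [hk, show g * (g⁻¹ * h₀ * g) * g⁻¹ = h₀ by group]
          exact le_normalizer hh₀
        obtain ⟨c, hcdef⟩ : ∃ c, c = k.1 1 0 := ⟨_, rfl⟩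
        have hc0 : c ≠ 0 := by rw [hcdef, hk]; exact hc₀
        have hkd : k.1 0 0 * k.1 1 1 - k.1 0 1 * c = 1 := by rw [hcdef, ← det_fin_two]; exact k.2
        obtain ⟨w, hw⟩ : ∃ w : SL(2, F), w = ⟨!![0, -c⁻¹; c, 0], by simp [Matrix.det_fin_two, hc0]⟩ := ⟨_, rfl⟩
        have hwe : w = CfsgLib.Lie.SL2Rel.Fam.upper (-(k.1 0 0 / c)) * k * CfsgLib.Lie.SL2Rel.Fam.upper (-(k.1 1 1 / c)) := by
          refine Subtype.ext ?_
          rw [hw, Matrix.SpecialLinearGroup.coe_mul, Matrix.SpecialLinearGroup.coe_mul]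
          ext i j
          fin_cases i <;> fin_cases j <;>
            simp [CfsgLib.Lie.SL2Rel.Fam.upper, Matrix.mul_apply, Matrix.vecMul, dotProduct, Fin.sum_univ_two, ← hcdef]
          all_goals (try field_simp)
          all_goals first
            | ring1
            | linear_combination hkd
            | linear_combination -hkd
        have hwN : g * w * g⁻¹ ∈ normalizer (H : Set SL(2, F)) := hwe ▸ hmul _ _ (hmul _ _ (hu _) hkN) (hu _)
        have hl : ∀ s, g * CfsgLib.Lie.SL2Rel.Fam.lower s * g⁻¹ ∈ normalizer (H : Set SL(2, F)) := by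
          intro s
          have e1 : CfsgLib.Lie.SL2Rel.Fam.lower s = w * CfsgLib.Lie.SL2Rel.Fam.upper (-s / c ^ 2) * (w * w * w) := by
            refine Subtype.ext ?_
            simp only [Matrix.SpecialLinearGroup.coe_mul]
            rw [hw]
            ext i j
            fin_cases i <;> fin_cases j <;>
              simp [CfsgLib.Lie.SL2Rel.Fam.upper, CfsgLib.Lie.SL2Rel.Fam.lower, Matrix.mul_apply, Fin.sum_univ_two]
            all_goals field_simp
            all_goals ring1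
          rw [e1]
          exact hmul _ _ (hmul _ _ hwN (hu _)) (hmul _ _ (hmul _ _ hwN hwN) hwN)
        intro x
        refine CfsgLib.Lie.SL2Rel.Fam.mem_gens (P := fun a => g * a * g⁻¹ ∈ normalizer (H : Set SL(2, F))) hmul hu ?_ x
        rw [show (CfsgLib.Lie.SL2Rel.Fam.wel : SL(2, F)) = CfsgLib.Lie.SL2Rel.Fam.upper (-1) *
            CfsgLib.Lie.SL2Rel.Fam.lower 1 * CfsgLib.Lie.SL2Rel.Fam.upper (-1) by
          refine Subtype.ext ?_
          simp only [Matrix.SpecialLinearGroup.coe_mul]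
          ext i j
          fin_cases i <;> fin_cases j <;>
            simp [CfsgLib.Lie.SL2Rel.Fam.upper, CfsgLib.Lie.SL2Rel.Fam.lower, CfsgLib.Lie.SL2Rel.Fam.wel,
              Matrix.mul_apply, Fin.sum_univ_two]]
        exact hmul _ _ (hmul _ _ (hu _) (hl _)) (hu _)
      haveI hHn : H.Normal := normalizer_eq_top_iff.1 (eq_top_iff.2 fun x _ => by
        have := hN (g⁻¹ * x * g)
        rwa [show g * (g⁻¹ * x * g) * g⁻¹ = x by group] at this)
      rcases CfsgLib.Coprime.subnormal_eq_top_or_le_center (quasisimple_sl2 (F := F) h4)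
        (Subgroup.Normal.isSubnormal (H := H) inferInstance) with hT | hZ
      · rw [hT]; exact le_top
      · refine absurd ?_ hc₀
        have h1 := mem_center_iff.1 (hZ hh₀) g
        rw [show g⁻¹ * h₀ * g = h₀ by rw [mul_assoc, ← h1, inv_mul_cancel_left]]
        have h2 := congrArg (fun M : SL(2, F) => M.1 1 1)
          (mem_center_iff.1 (hZ hh₀) (CfsgLib.Lie.SL2Rel.Fam.upper 1))
        simp only [Matrix.SpecialLinearGroup.coe_mul] at h2
        simp [CfsgLib.Lie.SL2Rel.Fam.upper, Matrix.mul_apply, Fin.sum_univ_two] at h2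
        exact h2
    · exfalso
      push Not at hno
      refine htriv fun x hx => ?_
      let P : Subgroup ↥(slSub hb d) :=
        { carrier := {y | ∃ c, slMap hb d y = tv g c}
          one_mem' := ⟨0, by rw [map_one, tv]; symm; rw [mul_inv_eq_one]; exact mul_eq_left.2 (Subtype.ext (by
            ext i j; fin_cases i <;> fin_cases j <;> simp [CfsgLib.Lie.SL2Rel.Fam.upper]))⟩
          mul_mem' := fun {a b} ⟨c, hc⟩ ⟨c', hc'⟩ => ⟨c + c', rho_inj fun v => by
            obtain ⟨a', b', rfl⟩ := exists_coords g v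
            rw [map_mul, hc, hc', Matrix.SpecialLinearGroup.coe_mul, ← Matrix.mulVec_mulVec, tv_mulVec, tv_mulVec,
              tv_mulVec]
            congr 2
            ring⟩
          inv_mem' := fun {a} ⟨c, hc⟩ => ⟨-c, by
            rw [map_inv, hc, inv_eq_iff_mul_eq_one]
            refine rho_inj fun v => ?_
            obtain ⟨a', b', rfl⟩ := exists_coords g v
            rw [Matrix.SpecialLinearGroup.coe_mul, ← Matrix.mulVec_mulVec, tv_mulVec, tv_mulVec,
              Matrix.SpecialLinearGroup.coe_one, Matrix.one_mulVec]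
            congr 2
            ring⟩ }
      have hle : X ≤ P.map (slSub hb d).subtype := by
        rw [← hXB, commutator_le]
        intro y hy b hb'
        refine ⟨⁅(⟨y, hXs hy⟩ : ↥(slSub hb d)), ⟨b, hBs hb'⟩⁆, ?_, rfl⟩
        obtain ⟨c, hc⟩ := hB1 ⟨b, hBs hb'⟩ hb'
        obtain ⟨k, hk⟩ : ∃ k, k = g⁻¹ * slMap hb d ⟨y, hXs hy⟩ * g := ⟨_, rfl⟩
        have hk0 : k.1 1 0 = 0 := hk ▸ hno _ (hHmem y hy)
        have hkd : k.1 0 0 * k.1 1 1 = 1 := by
          have := k.2
          rw [det_fin_two, hk0, mul_zero, sub_zero] at this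
          exact this
        have hk11 : k.1 1 1 ≠ 0 := fun h => by rw [h, mul_zero] at hkd; exact zero_ne_one hkd
        refine ⟨c * (k.1 0 0 / k.1 1 1) - c, ?_⟩
        rw [map_commutatorElement, hc, show slMap hb d ⟨y, hXs hy⟩ = g * k * g⁻¹ by rw [hk]; group, tv, tv]
        rw [show ⁅g * k * g⁻¹, g * CfsgLib.Lie.SL2Rel.Fam.upper c * g⁻¹⁆ =
          g * ⁅k, CfsgLib.Lie.SL2Rel.Fam.upper c⁆ * g⁻¹ by simp only [commutatorElement_def]; group]
        congr 2
        rw [commutatorElement_def, mul_inv_eq_iff_eq_mul, mul_inv_eq_iff_eq_mul]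
        refine Subtype.ext ?_
        simp only [Matrix.SpecialLinearGroup.coe_mul]
        ext i j
        fin_cases i <;> fin_cases j <;>
          simp [CfsgLib.Lie.SL2Rel.Fam.upper, Matrix.mul_apply, Fin.sum_univ_two, hk0]
        field_simp
        ring
      obtain ⟨y, ⟨c, hc⟩, hyx⟩ := hle hx
      exact ⟨c, by rw [← hc]; congr 1; exact Subtype.ext hyx.symm⟩
  · -- three elements
    have hF3 : Fintype.card F = 3 := h4.symm
    have hp3 : p = 3 := (Nat.prime_dvd_prime_iff_eq hp.out Nat.prime_three).1 (hF3 ▸ d.prime_dvd_card)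
    have hHc : H ≤ commutator SL(2, F) := by
      rw [hH]
      rintro _ ⟨y, hy, rfl⟩
      exact d.range.le (mem_range_of_ek hb d (hXek hy))
    have ht3 : t ^ 3 = 1 := by
      rw [ht, htp]
      refine rho_inj fun v => ?_
      obtain ⟨a, b, rfl⟩ := exists_coords g v
      rw [tv_mulVec, show ((3 : ℕ) : F) = 0 from (CharP.cast_eq_zero_iff F p 3).2 (by rw [hp3]),
        zero_mul, zero_mul, add_zero, Matrix.SpecialLinearGroup.coe_one, Matrix.one_mulVec]
    have ht1 : t ≠ 1 := fun h => by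
      have h1 := congrArg (fun M : SL(2, F) => M.1.mulVec ((0 : F) • g.1.mulVec ![1, 0] + (1 : F) • g.1.mulVec ![0, 1]))
        (ht ▸ h)
      simp only [tv_mulVec, Matrix.SpecialLinearGroup.coe_one, Matrix.one_mulVec] at h1
      simpa using (coords_inj g h1).1
    rw [d.range]
    rcases Classical.em (∃ h ∈ H, h ^ 2 ≠ 1) with ⟨h, hh, hh2⟩ | hsmall
    · have h4' : h ^ 4 = 1 := by
        rw [show (4 : ℕ) = 2 * 2 from rfl, pow_mul]
        rcases (eight_class hF3 (hHc hh)).1 with e | e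
        · exact absurd e hh2
        · rw [e, neg_one_sq]
      have hnc := noncomm_conj hF3 h4' hh2 ht3 ht1
      have hconj : t * h * t⁻¹ ∈ H := (mem_normalizer_iff.1 (ht ▸ hnorm 1) h).1 hh
      by_contra hcon
      haveI : Fact (Nat.Prime 2) := ⟨Nat.prime_two⟩
      have hdvd : Nat.card ↥H ∣ 2 ^ 3 := by
        have := card_dvd_of_le hHc
        rwa [card_comm_three hF3] at this
      obtain ⟨k, hk, hkc⟩ := (Nat.dvd_prime_pow Nat.prime_two).1 hdvd
      have hk2 : k ≤ 2 := by
        by_contra hk3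
        refine hcon (Subgroup.eq_of_le_of_card_ge hHc ?_).ge
        rw [card_comm_three hF3, hkc, show k = 3 by omega]; norm_num
      refine hnc ?_
      have hcomm : ∀ a b : ↥H, a * b = b * a := by
        interval_cases k
        · haveI : Subsingleton ↥H := (Nat.card_eq_one_iff_unique.1 (by simpa using hkc)).1
          exact fun a b => Subsingleton.elim _ _
        · haveI : IsCyclic ↥H := isCyclic_of_prime_card (p := 2) (by simpa using hkc)
          exact (IsCyclic.commGroup (α := ↥H)).mul_comm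
        · exact (IsPGroup.commGroupOfCardEqPrimeSq (p := 2) hkc).mul_comm
      exact congrArg Subtype.val (hcomm ⟨h, hh⟩ ⟨_, hconj⟩)
    · exfalso
      push Not at hsmall
      refine hmove ?_
      rw [← hXB, commutator_le]
      intro y hy b hb'
      have h1 : slMap hb d ⁅(⟨y, hXs hy⟩ : ↥(slSub hb d)), ⟨b, hBs hb'⟩⁆ = 1 := by
        rw [map_commutatorElement, commutatorElement_eq_one_iff_mul_comm]
        have hm := hHmem y hy
        rcases (eight_class hF3 (hHc hm)).2 (hsmall _ hm) with e | e <;> rw [e]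
        · rw [one_mul, mul_one]
        · exact Subtype.ext (by simp)
      exact (slMap_ker hb d _).1 h1

end SLData

end CfsgLib.SubBlock
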