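import Cfsg.Agent.Lib.Char.SubBlock.Basic

/-!
# Sections of order nine
-/

set_option autoImplicit false
set_option linter.unusedSectionVars false
set_option linter.style.haveILetI false

open Subgroup
open scoped commutatorElement

namespace CfsgLib.SubBlock

universe u
variable {G : Type u} [Group G] [Finite G]

theorem SecRep.card {A A₀ : Subgroup G} {M : Type*} [AddCommGroup M] (R : SecRep A A₀ M) (hle : A₀ ≤ A) :
    Nat.card ↥A = Nat.card M * Nat.card ↥A₀ := by
  let φ : ↥A →* Multiplicative M :=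
    MonoidHom.mk' (fun a => Multiplicative.ofAdd (R.pr a)) fun a b => by rw [← ofAdd_add, ← R.pr_mul _ a.2 _ b.2]; rfl
  have hs : Function.Surjective φ := fun m => by
    obtain ⟨a, ha, h⟩ := R.pr_surj (Multiplicative.toAdd m)
    exact ⟨⟨a, ha⟩, congrArg Multiplicative.ofAdd h⟩
  have hk : φ.ker = A₀.subgroupOf A := by
    ext a
    show Multiplicative.ofAdd (R.pr a) = 1 ↔ _
    rw [ofAdd_eq_one, R.pr_eq_zero _ a.2, mem_subgroupOf]
  rw [Subgroup.card_eq_card_quotient_mul_card_subgroup φ.ker,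
    Nat.card_congr (QuotientGroup.quotientKerEquivOfSurjective φ hs).toEquiv, hk,
    Nat.card_congr (subgroupOfEquivOfLe hle).toEquiv]
  rfl

/-- A `3`-element acting on a group of order nine acts quadratically. -/
theorem quad_of_card_nine {A A₀ : Subgroup G} (h : IsAbSec A A₀) (hc : Nat.card ↥A = 9 * Nat.card ↥A₀) {t : G}
    (ht : t ∈ secN A A₀) (htp : IsPGroup 3 ↥(zpowers t)) {u : G} (hu : u ∈ A) : ⁅t, ⁅t, u⁆⁆ ∈ A₀ := by
  classical
  haveI : Fact (Nat.Prime 3) := ⟨Nat.prime_three⟩
  obtain ⟨M, i, ⟨R⟩⟩ := exists_secRep h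
  haveI := R.finite
  have hM : Nat.card M = 9 := by
    have := R.card h.le
    rw [hc] at this
    exact (Nat.eq_of_mul_eq_mul_right Nat.card_pos this).symm
  set T := R.act ⟨t, ht⟩ with hT
  obtain ⟨k, hk⟩ := htp ⟨t, mem_zpowers t⟩
  have hTk : T ^ (3 ^ k) = 1 := by
    rw [hT, ← map_pow, show (⟨t, ht⟩ : ↥(secN A A₀)) ^ 3 ^ k = 1 from Subtype.ext (by
      have := congrArg Subtype.val hk
      simpa using this), map_one]
  set N : M →+ M := (T - 1 : AddMonoid.End M) with hN
  have hTN : ∀ m, T (N m) = N (T m) := fun m => by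
    show T (T m - m) = T (T m) - T m
    rw [map_sub]
  -- `T` permutes every invariant subgroup
  have hfix : ∀ S : AddSubgroup M, (∀ m ∈ S, T m ∈ S) → S ≠ ⊥ → ∃ m ∈ S, m ≠ 0 ∧ N m = 0 := by
    intro S hS hne
    haveI : Nontrivial ↥S := (AddSubgroup.nontrivial_iff_ne_bot S).2 hne
    let σ : Equiv.Perm ↥S :=
      { toFun := fun m => ⟨T m, hS m m.2⟩
        invFun := fun m => ⟨(T ^ (3 ^ k - 1)) m, by
          have : ∀ j : ℕ, (T ^ j) (m : M) ∈ S := fun j => by
            induction j with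
            | zero => simp
            | succ j ih => rw [pow_succ']; exact hS _ ih
          exact this _⟩
        left_inv := fun m => Subtype.ext (by
          show (T ^ (3 ^ k - 1) * T) (m : M) = m
          rw [← pow_succ, Nat.sub_add_cancel (Nat.one_le_pow _ _ (by norm_num)), hTk]; rfl)
        right_inv := fun m => Subtype.ext (by
          show (T * T ^ (3 ^ k - 1)) (m : M) = m
          rw [← pow_succ', Nat.sub_add_cancel (Nat.one_le_pow _ _ (by norm_num)), hTk]; rfl) }
    have hσ : σ ^ (3 ^ k) = 1 := by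
      have : ∀ j : ℕ, ∀ m : ↥S, ((σ ^ j) m : M) = (T ^ j) (m : M) := fun j => by
        induction j with
        | zero => intro m; rfl
        | succ j ih => intro m; rw [pow_succ', pow_succ', Equiv.Perm.mul_apply]; exact congrArg T (ih m)
      ext m
      rw [this, hTk]; rfl
    have hP : IsPGroup 3 ↥(zpowers σ) := fun x => by
      obtain ⟨j, hj⟩ := mem_zpowers_iff.1 x.2
      refine ⟨k, Subtype.ext ?_⟩
      rw [SubgroupClass.coe_pow, ← hj, ← zpow_natCast (σ ^ j), ← zpow_mul, mul_comm, zpow_mul, zpow_natCast, hσ,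
        one_zpow]
      rfl
    have hdvd : 3 ∣ Nat.card ↥S := by
      have h1 : Nat.card ↥S ∣ 3 ^ 2 := by
        have := AddSubgroup.card_addSubgroup_dvd_card S
        rwa [hM] at this
      obtain ⟨j, -, hj⟩ := (Nat.dvd_prime_pow Nat.prime_three).1 h1
      rw [hj]
      refine dvd_pow_self 3 fun hj0 => ?_
      rw [hj0, pow_zero] at hj
      exact (Finite.one_lt_card (α := ↥S)).ne' hj
    obtain ⟨m, hm, hm0⟩ := hP.exists_fixed_point_of_prime_dvd_card_of_fixed_point (↥S) hdvd
      (a := 0) (fun g => by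
        obtain ⟨g, hg⟩ := g
        obtain ⟨j, rfl⟩ := mem_zpowers_iff.1 hg
        show (σ ^ j) 0 = 0
        exact Function.IsFixedPt.perm_zpow (e := σ) (x := (0 : ↥S)) (Subtype.ext (map_zero T)) j)
    refine ⟨m, m.2, fun h0 => hm0 (Subtype.ext h0.symm), ?_⟩
    show T m - (m : M) = 0
    rw [sub_eq_zero]
    exact congrArg Subtype.val (hm ⟨σ, mem_zpowers σ⟩)
  have hNN : ∀ m, N (N m) = 0 := by
    intro m
    by_cases hr : N.range = ⊥
    · have : N m = 0 := AddSubgroup.mem_bot.1 (hr ▸ ⟨m, rfl⟩ : N m ∈ (⊥ : AddSubgroup M))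
      rw [this, map_zero]
    obtain ⟨x, hx, hx0, hNx⟩ := hfix N.range (by
      rintro _ ⟨y, rfl⟩
      exact ⟨T y, (hTN y).symm⟩) hr
    obtain ⟨y, hy, hy0, hNy⟩ := hfix ⊤ (fun _ _ => AddSubgroup.mem_top _) (by
      intro h9
      have := congrArg (fun S : AddSubgroup M => Nat.card ↥S) h9
      simp [hM] at this)
    have hker : N.ker ≠ ⊥ := fun h9 => hy0 (AddSubgroup.mem_bot.1 (h9 ▸ hNy : y ∈ (⊥ : AddSubgroup M)))
    have hcard : Nat.card N.range * Nat.card N.ker = 9 := by
      rw [← hM, AddSubgroup.card_eq_card_quotient_mul_card_addSubgroup N.ker,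
        Nat.card_congr (QuotientAddGroup.quotientKerEquivRange N).toEquiv]
    have hr3 : Nat.card N.range = 3 := by
      haveI := (AddSubgroup.nontrivial_iff_ne_bot N.ker).2 hker
      haveI := (AddSubgroup.nontrivial_iff_ne_bot N.range).2 hr
      have h1 : 1 < Nat.card N.range := Finite.one_lt_card
      have h2 : 1 < Nat.card N.ker := Finite.one_lt_card
      have h1' : Nat.card N.range ∣ 3 ^ 2 := ⟨_, hcard.symm⟩
      obtain ⟨j, hj, hj'⟩ := (Nat.dvd_prime_pow Nat.prime_three).1 h1'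
      interval_cases j
      · omega
      · simpa using hj'
      · rw [hj'] at hcard; omega
    obtain ⟨n, hn⟩ := mem_zmultiples_of_prime_card hr3 (g := (⟨x, hx⟩ : N.range))
      (fun h9 => hx0 (congrArg Subtype.val h9)) (g' := ⟨N m, ⟨m, rfl⟩⟩)
    have : n • x = N m := congrArg Subtype.val hn
    rw [← this, map_zsmul, hNx, zsmul_zero]
  refine (R.pr_eq_zero _ (SecRep.comm_mem ⟨t, ht⟩ (SecRep.comm_mem ⟨t, ht⟩ hu))).1 ?_
  rw [R.pr_comm ⟨t, ht⟩ (SecRep.comm_mem ⟨t, ht⟩ hu), R.pr_comm ⟨t, ht⟩ hu]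
  exact hNN (R.pr u)

theorem card_mat_six : Fintype.card {A : Matrix (Fin 2) (Fin 2) (ZMod 3) // A * A = -1} = 6 := by decide

/-- In `GL₂(3)` exactly six elements square to `-1`. -/
theorem card_sq_neg_one {M : Type u} [AddCommGroup M] [Finite M] (hM : Nat.card M = 9) (h3 : ∀ m : M, 3 • m = 0) :
    Nat.card {A : AddMonoid.End M // A * A = -1} ≤ 6 := by
  classical
  haveI : Fact (Nat.Prime 3) := ⟨Nat.prime_three⟩
  letI : Module (ZMod 3) M := AddCommGroup.zmodModule (n := 3) h3
  haveI : Module.Finite (ZMod 3) M := Module.Finite.of_finite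
  have hr : Module.finrank (ZMod 3) M = 2 := by
    have h := Module.natCard_eq_pow_finrank (K := ZMod 3) (V := M)
    rw [hM, Nat.card_zmod] at h
    exact (Nat.pow_right_injective (le_refl 2 |>.trans (by norm_num)) (show 3 ^ 2 = 3 ^ _ from h)).symm
  let bas := Module.finBasisOfFinrankEq (ZMod 3) M hr
  let L : AddMonoid.End M → Matrix (Fin 2) (Fin 2) (ZMod 3) :=
    fun f => LinearMap.toMatrixAlgEquiv bas (AddMonoidHom.toZModLinearMap 3 f)
  have hL : Function.Injective L := fun f g h =>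
    AddMonoidHom.toZModLinearMap_injective 3 ((LinearMap.toMatrixAlgEquiv bas).injective h)
  have hmul : ∀ f g, L (f * g) = L f * L g := fun f g => by
    show _ = _ * _
    rw [← map_mul]
    rfl
  have hneg : L (-1) = -1 := by
    rw [← map_one (LinearMap.toMatrixAlgEquiv bas), ← map_neg]
    rfl
  have h6 : Nat.card {A : Matrix (Fin 2) (Fin 2) (ZMod 3) // A * A = -1} = 6 := by
    rw [Nat.card_eq_fintype_card]
    clear_value L
    exact card_mat_six
  rw [← h6]
  exact Nat.card_le_card_of_injective (fun A => ⟨L A.1, by rw [← hmul, A.2, hneg]⟩)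
    fun A B h => Subtype.ext (hL (congrArg Subtype.val h))

end CfsgLib.SubBlock
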