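import Cfsg.Agent.Lib.Char.SubBlock.EK

/-!
# The commutant of a section of order nine
-/

set_option autoImplicit false
set_option linter.unusedSectionVars false
set_option linter.style.haveILetI false

open Subgroup
open scoped commutatorElement

namespace CfsgLib.SubBlock

universe u
variable {G : Type u} [Group G]

/-- The cube of a difference in characteristic three. -/
theorem sub_one_pow_three {M : Type u} [AddCommGroup M] (h3 : ∀ m : M, 3 • m = 0) (C : AddMonoid.End M) :
    (C - 1) ^ 3 = C ^ 3 - 1 := by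
  have h : ∀ f : AddMonoid.End M, 3 • f = 0 := fun f => AddMonoidHom.ext fun m => h3 (f m)
  have e : (C - 1) ^ 3 = C ^ 3 - 1 + 3 • (C - C * C) := by noncomm_ring
  rw [e, h, add_zero]

/-- A member of the commutant of `3`-power order is trivial. -/
theorem IsIrrSec.eq_one_of_pow_three {E A A₀ : Subgroup G} (h : IsIrrSec E A A₀) {M : Type u} [AddCommGroup M]
    (R : SecRep A A₀ M) (h3 : ∀ m : M, 3 • m = 0) :
    ∀ (k : ℕ) (C : AddMonoid.End M), C ∈ commutant R E → C ^ 3 ^ k = 1 → C = 1 := by
  intro k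
  induction k with
  | zero => intro C _ hC; rwa [pow_zero, pow_one] at hC
  | succ k ih =>
    intro C hC hpow
    have h1 : C ^ 3 = 1 := ih _ (Subring.pow_mem _ hC 3) (by rwa [← pow_mul, ← pow_succ'])
    have h2 : (C - 1) ^ 3 = 0 := by rw [sub_one_pow_three h3, h1, sub_self]
    by_contra hne
    have hinj := h.injective R (Subring.sub_mem _ hC (Subring.one_mem _)) (sub_ne_zero.2 hne)
    refine hne (sub_eq_zero.1 (AddMonoidHom.ext fun m => hinj (hinj ?_)))
    show ((C - 1) * ((C - 1) * (C - 1))) m = (C - 1) ((C - 1) ((0 : AddMonoid.End M) m))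
    rw [show (C - 1) * ((C - 1) * (C - 1)) = (C - 1) ^ 3 by noncomm_ring, h2]
    simp

/-- An element of odd order normalising the commutant of a section of order nine centralises it. -/
theorem IsIrrSec.commutant_fixed {E A A₀ : Subgroup G} (h : IsIrrSec E A A₀) {M : Type u} [AddCommGroup M] [Finite M]
    (R : SecRep A A₀ M) (hM : Nat.card M = 9) (h3 : ∀ m : M, 3 • m = 0) {c T T' : AddMonoid.End M} {n : ℕ}
    (hc : c ∈ commutant R E) (hTT : T * T' = 1) (hT'T : T' * T = 1) (hc' : T * c * T' ∈ commutant R E)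
    (hodd : T ^ (2 * n + 1) = 1) : T * c * T' = c := by
  have h3f : ∀ f : AddMonoid.End M, 3 • f = 0 := fun f => AddMonoidHom.ext fun m => h3 (f m)
  have h2f : ∀ f : AddMonoid.End M, (2 : ℤ) • f = -f := fun f => by
    have e := h3f f
    rw [show 3 • f = (2 : ℤ) • f + f by abel] at e
    exact eq_neg_of_add_eq_zero_left e
  have hsc : ∀ a : ℤ, T * (a • (1 : AddMonoid.End M)) * T' = a • 1 := fun a => by
    rw [mul_smul_comm, mul_one, smul_mul_assoc, hTT]
  by_cases hs : ∃ a : ℤ, c = a • 1
  · obtain ⟨a, rfl⟩ := hs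
    exact hsc a
  obtain ⟨m, hm⟩ : ∃ m : M, m ≠ 0 := by
    haveI : Nontrivial M := Finite.one_lt_card_iff_nontrivial.1 (by omega)
    exact exists_ne 0
  -- `m, c m` span
  let f : Fin 3 × Fin 3 → M := fun ab => (ab.1.val : ℤ) • m + (ab.2.val : ℤ) • c m
  have hinj : Function.Injective f := by
    rintro ⟨a, b⟩ ⟨a', b'⟩ hab
    have hab : (a.val : ℤ) • m + (b.val : ℤ) • c m = (a'.val : ℤ) • m + (b'.val : ℤ) • c m := hab
    obtain ⟨x, hx⟩ : ∃ x, x = (a.val : ℤ) - a'.val := ⟨_, rfl⟩
    obtain ⟨y, hy⟩ : ∃ y, y = (b.val : ℤ) - b'.val := ⟨_, rfl⟩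
    have hg0 : x • (1 : AddMonoid.End M) + y • c = 0 := by
      by_contra hne
      refine hm (h.injective R (Subring.add_mem _ (Subring.zsmul_mem _ (Subring.one_mem _) _)
        (Subring.zsmul_mem _ hc _)) hne ?_)
      rw [map_zero]
      show x • m + y • c m = 0
      rw [hx, hy, sub_zsmul, sub_zsmul, ← sub_eq_zero.2 hab]
      abel
    have hb : b = b' := by
      by_contra hne
      have hy0 : y = 1 ∨ y = -1 ∨ y = 2 ∨ y = -2 := by
        have := b.2; have := b'.2; have : b.val ≠ b'.val := fun e => hne (Fin.ext e)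
        omega
      refine hs ?_
      rcases hy0 with rfl | rfl | rfl | rfl
      · exact ⟨-x, by rw [one_zsmul] at hg0; rw [neg_zsmul]; exact eq_neg_of_add_eq_zero_right hg0⟩
      · exact ⟨x, by rw [neg_one_zsmul, ← sub_eq_add_neg, sub_eq_zero] at hg0; exact hg0.symm⟩
      · exact ⟨x, by rw [h2f, ← sub_eq_add_neg, sub_eq_zero] at hg0; exact hg0.symm⟩
      · exact ⟨-x, by rw [neg_zsmul, h2f, neg_neg] at hg0; rw [neg_zsmul]; exact eq_neg_of_add_eq_zero_right hg0⟩
    subst hb
    have hy0 : y = 0 := by rw [hy]; omega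
    rw [hy0, zero_smul, add_zero] at hg0
    have hx0 : x • m = 0 := DFunLike.congr_fun hg0 m
    have ha : a = a' := by
      by_contra hne
      have hx1 : x = 1 ∨ x = -1 ∨ x = 2 ∨ x = -2 := by
        have := a.2; have := a'.2; have : a.val ≠ a'.val := fun e => hne (Fin.ext e)
        omega
      have h2m : (2 : ℤ) • m = -m := by
        show ((2 : ℤ) • (1 : AddMonoid.End M)) m = _
        rw [h2f]; rfl
      refine hm ?_
      rcases hx1 with rfl | rfl | rfl | rfl
      · rwa [one_zsmul] at hx0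
      · rwa [neg_one_zsmul, neg_eq_zero] at hx0
      · rwa [h2m, neg_eq_zero] at hx0
      · rwa [neg_zsmul, h2m, neg_neg] at hx0
    rw [ha]
  have hsur : Function.Surjective f := (Function.Injective.bijective_of_nat_card_le hinj (by
    simp [hM])).2
  obtain ⟨⟨a, b⟩, hab⟩ := hsur (c (c m))
  obtain ⟨α, hα⟩ : ∃ α : ℤ, α = a.val := ⟨_, rfl⟩
  obtain ⟨β, hβ⟩ : ∃ β : ℤ, β = b.val := ⟨_, rfl⟩
  have hq : c * c = α • 1 + β • c := by
    by_contra hne
    refine hm (h.injective R (Subring.sub_mem _ (Subring.mul_mem _ hc hc)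
      (Subring.add_mem _ (Subring.zsmul_mem _ (Subring.one_mem _) α) (Subring.zsmul_mem _ hc β)))
      (sub_ne_zero.2 hne) ?_)
    rw [map_zero]
    show c (c m) - (α • m + β • c m) = 0
    rw [hα, hβ, ← hab, sub_self]
  set c' := T * c * T' with hc'def
  have hq' : c' * c' = α • 1 + β • c' := by
    calc c' * c' = T * c * (T' * T) * c * T' := by rw [hc'def]; noncomm_ring
      _ = T * (c * c) * T' := by rw [hT'T]; noncomm_ring
      _ = α • 1 + β • c' := by rw [hq, mul_add, add_mul, hsc, mul_smul_comm, smul_mul_assoc]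
  have hprod : (c' - c) * (c' + c - β • 1) = 0 := by
    have e : (c' - c) * (c' + c - β • 1) = c' * c' - c * c + (c' * c - c * c') - β • c' + β • c := by
      simp only [mul_sub, sub_mul, mul_add, mul_smul_comm, mul_one, smul_sub, zsmul_sub]
      abel
    rw [e, hq, hq', h.commutant_comm R hc hc']
    abel
  rcases eq_or_ne (c' + c - β • 1) 0 with h0 | h0
  · -- the orbit has at most two elements
    have hc'' : c' = β • 1 - c := by rw [← sub_eq_zero, ← h0]; abel
    have hσ2 : T * (T * c * T') * T' = c := by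
      rw [← hc'def, hc'', mul_sub, sub_mul, hsc, ← hc'def, hc'', sub_sub_cancel]
    have hk : ∀ k : ℕ, T ^ (2 * k) * c * T' ^ (2 * k) = c := by
      intro k
      induction k with
      | zero => simp
      | succ k ih =>
        rw [show T ^ (2 * (k + 1)) = T ^ (2 * k) * (T * T) by rw [mul_add, mul_one, pow_add, pow_two],
          show T' ^ (2 * (k + 1)) = (T' * T') * T' ^ (2 * k) by rw [mul_add, mul_one, add_comm, pow_add, pow_two],
          show T ^ (2 * k) * (T * T) * c * (T' * T' * T' ^ (2 * k)) =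
            T ^ (2 * k) * (T * (T * c * T') * T') * T' ^ (2 * k) by noncomm_ring, hσ2, ih]
    have hT' : T' ^ (2 * n + 1) = 1 := by
      have hcm : Commute T T' := hTT.trans hT'T.symm
      calc T' ^ (2 * n + 1) = T ^ (2 * n + 1) * T' ^ (2 * n + 1) := by rw [hodd, one_mul]
        _ = 1 := by rw [← hcm.mul_pow, hTT, one_pow]
    have e1 : T ^ (2 * n + 1) * c * T' ^ (2 * n + 1) = c := by rw [hodd, hT', one_mul, mul_one]
    rw [pow_succ', pow_succ, show T * T ^ (2 * n) * c * (T' ^ (2 * n) * T') =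
      T * (T ^ (2 * n) * c * T' ^ (2 * n)) * T' by noncomm_ring, hk n] at e1
    exact e1
  · have hinj2 := h.injective R (Subring.sub_mem _ (Subring.add_mem _ hc' hc)
      (Subring.zsmul_mem _ (Subring.one_mem _) β)) h0
    have hsur2 : Function.Surjective (c' + c - β • (1 : AddMonoid.End M)) :=
      Finite.surjective_of_injective hinj2
    refine sub_eq_zero.1 (AddMonoidHom.ext fun x => ?_)
    obtain ⟨y, rfl⟩ := hsur2 x
    exact DFunLike.congr_fun hprod y

end CfsgLib.SubBlock
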