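import Cfsg.Agent.Lib.Char.SubBlock.Central
import Cfsg.Agent.Lib.Char.SubBlock.Image
import Cfsg.Agent.Lib.Char.SubBlock.Scalar
import Cfsg.Agent.Lib.Char.SubBlock.Quad
import Cfsg.Agent.Lib.LocalStructure.QdBasic

/-!
# A block moving `[W, E]` lies in `E`
-/

set_option autoImplicit false
set_option linter.unusedSectionVars false
set_option linter.style.haveILetI false
set_option linter.unusedVariables false
set_option maxHeartbeats 1000000

open Subgroup Matrix
open scoped commutatorElement MatrixGroups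

namespace CfsgLib.SubBlock

open CfsgLib.BaumannBlock (bW bZ BlockFacts)

universe u
variable {G : Type u} [Group G] [Finite G] {p : ℕ} [hp : Fact p.Prime] {E X : Subgroup G}

attribute [local instance] CfsgLib.Coprime.pCore_normal'

/-- The elements of the kernel that are trivial on `O_p(E)` modulo `W`. -/
def k1 (p : ℕ) (E : Subgroup G) : Subgroup G := kE p E ⊓ chainStab (qE p E) (wE p E)

theorem k1_norm {g : G} (hg : g ∈ normalizer (E : Set G)) : g ∈ normalizer (k1 p E : Set G) := by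
  have key : ∀ h : G, h ∈ normalizer (E : Set G) → ∀ k ∈ k1 p E, h * k * h⁻¹ ∈ k1 p E := by
    intro h hh k hk
    obtain ⟨hk1, hkW, hkQ, hkc⟩ := mem_inf.1 hk
    refine mem_inf.2 ⟨(mem_normalizer_iff.1 (kE_norm hh) k).1 hk1, mul_mem (mul_mem (wE_norm hh) hkW) (inv_mem (wE_norm hh)),
      mul_mem (mul_mem (qE_norm hh) hkQ) (inv_mem (qE_norm hh)), fun q hq => ?_⟩
    rw [show ⁅h * k * h⁻¹, q⁆ = h * ⁅k, h⁻¹ * q * h⁆ * h⁻¹ by simp only [commutatorElement_def]; group]
    exact (mem_normalizer_iff.1 (wE_norm hh) _).1 (hkc _ ((mem_normalizer_iff''.1 (qE_norm hh) q).1 hq))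
  exact mem_normalizer_iff.2 fun k => ⟨key g hg k, fun hk => by
    simpa [mul_assoc] using key g⁻¹ (inv_mem hg) _ hk⟩

theorem k1_le : k1 p E ≤ normalizer (E : Set G) := inf_le_left.trans inf_le_left

theorem baumann_le_normalizer_of_block {T : Subgroup G} (hX : Cfsg.IsBaumannBlock p T X) :
    Cfsg.baumannSubgroupOf p T ≤ normalizer (X : Set G) := by
  intro b hb
  refine CfsgLib.Fusion.conjBy_eq_iff.1 (CfsgLib.Fusion.conjBy_eq_of_le ?_)
  rintro _ ⟨x, hx, rfl⟩
  show b * x * b⁻¹ ∈ X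
  rw [show b * x * b⁻¹ = ⁅x, b⁆⁻¹ * x by simp only [commutatorElement_def]; group]
  exact mul_mem (inv_mem (hX.2.1.le (commutator_mem_commutator hx hb))) hx

theorem exists_moving_block {T : Subgroup G} (hX : Cfsg.IsBaumannBlock p T X) :
    ∃ b ∈ Cfsg.baumannSubgroupOf p T, b ∉ centralizer (bW p X : Set G) := by
  by_contra! hc
  have hf := CfsgLib.BaumannBlock.blockFacts hX
  have h0 : ⁅Cfsg.baumannSubgroupOf p T, bW p X⁆ = ⊥ := commutator_eq_bot_iff_le_centralizer.2 hc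
  have hWB : ⁅bW p X, Cfsg.baumannSubgroupOf p T⁆ = ⊥ := by rw [commutator_comm, h0]
  have h1 : ⁅⁅Cfsg.baumannSubgroupOf p T, bW p X⁆, X⁆ = ⊥ := by rw [h0, commutator_bot_left]
  have h2 : ⁅⁅bW p X, X⁆, Cfsg.baumannSubgroupOf p T⁆ = ⊥ :=
    eq_bot_iff.2 ((commutator_mono (bV_le_bW hf) le_rfl).trans hWB.le)
  have h3 : ⁅⁅X, Cfsg.baumannSubgroupOf p T⁆, bW p X⁆ = ⊥ := commutator_commutator_eq_bot_of_rotate h1 h2
  rw [hX.2.1, commutator_eq_bot_iff_le_centralizer] at h3
  exact CfsgLib.BaumannBlock.not_le_centralizer_bW hf (CfsgLib.BaumannBlock.ne_bot_of_block hX) h3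

namespace SLData

variable {F : Type} [Field F] [Fintype F]

theorem img_card (hb : SBlock p E) (d : SLData p E F) :
    Nat.card ↥(img p E) = Nat.card ↥(commutator SL(2, F)) := by
  have hk : ((QuotientGroup.mk' (Cfsg.pCore p G)).comp E.subtype).ker = d.ρ.ker :=
    ext fun x => (QuotientGroup.eq_one_iff _).trans (d.ker x).symm
  have hr : ((QuotientGroup.mk' (Cfsg.pCore p G)).comp E.subtype).range = img p E := by
    rw [MonoidHom.range_eq_map, ← Subgroup.map_map, ← MonoidHom.range_eq_map, range_subtype]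
    rfl
  rw [← hr, ← d.range, ← Nat.card_congr (QuotientGroup.quotientKerEquivRange _).toEquiv, hk,
    Nat.card_congr (QuotientGroup.quotientKerEquivRange d.ρ).toEquiv]

end SLData

namespace SBlock

theorem triv_k1 (hb : SBlock p E) {k : G} (hk : k ∈ k1 p E) : Triv (qE p E) (wE p E) k :=
  fun a ha => (mem_inf.1 hk).2.2.2 a ha

theorem mem_k1 (hb : SBlock p E) {k : G} (hk : k ∈ kE p E) (ht : Triv (qE p E) (wE p E) k) : k ∈ k1 p E :=
  mem_inf.2 ⟨hk, wE_norm (mem_inf.1 hk).1, qE_norm (mem_inf.1 hk).1, ht⟩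

/-- The module of a block moving `[W, E]` lies in `[W, E]`. -/
theorem bV_le_vE (hb : SBlock p E) (T : Sylow p G) (hX : Cfsg.IsBaumannBlock p (T : Subgroup G) X)
    (hXN : X ≤ normalizer (E : Set G)) (hmove : ¬ X ≤ centralizer (vE p E : Set G)) : bV p X ≤ vE p E := by
  have hf := CfsgLib.BaumannBlock.blockFacts hX
  obtain ⟨M, hM⟩ : ∃ M, M = vE p E ⊓ bW p X := ⟨_, rfl⟩
  have hMN : X ≤ normalizer (M : Set G) := hM ▸ CfsgLib.Coprime.inf_le_normalizer (fun y hy => vE_norm (hXN hy)) hf.normW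
  have hzn : X ≤ normalizer (bZ p X : Set G) := CfsgLib.BaumannBlock.E_le_normalizer_bZ hf
  rcases hf.irr (M ⊔ bZ p X) (sup_le (hM ▸ inf_le_right) inf_le_left) le_sup_right
    (CfsgLib.Coprime.sup_le_normalizer hMN hzn) with h | h
  · exfalso
    refine hmove (CfsgLib.BaumannBlock.le_centralizer_of_stabilizes (D := M) hf.res
      ((CfsgLib.Coprime.pCore_isPGroup p).to_le (hM ▸ inf_le_left.trans (hb.vV.trans vG_le))) (fun x hx d hd => ?_)
      fun x hx m hm => ?_)
    · rw [mul_inv_eq_iff_eq_mul]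
      exact mem_centralizer_iff.1 (mem_inf.1 (h.le (mem_sup_left hd))).2 x hx
    · rw [← commutatorElement_def]
      refine hM.ge (mem_inf.2 ⟨?_, bV_le_bW hf (commutator_vG_le T hX (hb.vV hm) hx)⟩)
      rw [commutatorElement_def]
      exact mul_mem ((mem_normalizer_iff.1 (vE_norm (hXN hx)) m).1 hm) (inv_mem hm)
  · refine commutator_le.2 fun w hw x hx => ?_
    have hn : bZ p X ≤ normalizer (M : Set G) := fun z hz => centralizer_le_normalizer _
      (mem_centralizer_iff.2 fun y hy => CfsgLib.BaumannBlock.comm_of_mem_bW (hM.le hy).2 (mem_inf.1 hz).1)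
    obtain ⟨m, hm, z, hz, rfl⟩ := CfsgLib.Coprime.mem_sup_exists hn (h.ge hw)
    have h1 : x * z = z * x := mem_centralizer_iff.1 (mem_inf.1 hz).2 x hx
    rw [show ⁅m * z, x⁆ = m * (x * m⁻¹ * x⁻¹) by
      rw [commutatorElement_def, _root_.mul_inv_rev, show m * z * x = m * (x * z) by rw [h1]; group]; group]
    exact mul_mem (hM.le hm).1 ((mem_normalizer_iff.1 (vE_norm (hXN hx)) _).1 (inv_mem (hM.le hm).1))

/-- A block moving `[W, E]` acts like `E` on both sections. -/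
theorem le_k1_sup (hG : centralizer (Cfsg.pCore p G : Set G) ≤ Cfsg.pCore p G) (hb : SBlock p E) (T : Sylow p G)
    (hE : Cfsg.IsBaumannBlock p (T : Subgroup G) E) (hX : Cfsg.IsBaumannBlock p (T : Subgroup G) X)
    (hBN : Cfsg.baumannSubgroupOf p (T : Subgroup G) ≤ normalizer (E : Set G))
    (hXN : X ≤ normalizer (E : Set G)) (hmove : ¬ X ≤ centralizer (vE p E : Set G)) : X ≤ E ⊔ k1 p E := by
  have hf := CfsgLib.BaumannBlock.blockFacts hX
  have hXek := hb.le_ek hG T hE hBN hXN hX.1 hX.2.1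
  have hkN : kE p E ≤ normalizer (E : Set G) := inf_le_left
  by_cases hex : qE p E = wE p E
  · refine hXek.trans (sup_le le_sup_left ((le_of_eq ?_).trans le_sup_right))
    refine le_antisymm (fun k hk => hb.mem_k1 hk fun a ha => ?_) inf_le_left
    rw [commutatorElement_def, ← hex]
    exact mul_mem ((mem_normalizer_iff.1 (qE_norm (hkN hk)) a).1 ha) (inv_mem ha)
  have hp3 : p = 3 := (hb.exc hex).1
  obtain ⟨F, i₁, i₂, hF, ⟨d⟩⟩ : ∃ (F : Type) (i₁ : Field F) (i₂ : Fintype F),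
      3 ≤ Fintype.card F ∧ Nonempty (@SLData G _ p E F i₁ i₂) := by
    rcases block_cases T hE hb with ⟨h2, -⟩ | ⟨h2, -⟩ | h
    · omega
    · omega
    · exact h
  have hs := hb.secQ hex
  have hkc : ∀ k ∈ kE p E, ∀ e ∈ E, Triv (qE p E) (wE p E) ⁅k, e⁆ := fun k hk e he =>
    hb.triv_qE_Q (hb.comm_le_qE_of_triv (hkN hk) (hb.triv_of_cent_vE (hkN hk) (mem_inf.1 hk).2) he)
  have hSN : ∀ g ∈ normalizer (E : Set G), g ∈ normalizer ((E ⊔ k1 p E : Subgroup G) : Set G) := fun g hg =>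
    CfsgLib.Coprime.sup_le_normalizer (A := zpowers g) (zpowers_le.2 hg) (zpowers_le.2 (k1_norm hg)) (mem_zpowers g)
  have hcE : ∀ g ∈ normalizer (E : Set G), ∀ e ∈ E, ⁅e, g⁆ ∈ E := fun g hg e he => by
    rw [commutatorElement_def, show e * g * e⁻¹ * g⁻¹ = e * (g * e⁻¹ * g⁻¹) by group]
    exact mul_mem he ((mem_normalizer_iff.1 hg _).1 (inv_mem he))
  rcases hF.lt_or_eq with h4 | h4
  · -- `X` is perfect
    have hfull := fun e (he : e ∈ E) => d.ek_full hG hb hF T hE hBN hXN hX.1 hX.2.1 hmove he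
    have hXs : X ≤ SLData.slSub hb d := hXek.trans (SLData.ek_le_slSub hb d)
    have hperf : X ≤ ⁅X, X⁆ := by
      intro x hx
      have h1 : (⊤ : Subgroup SL(2, F)) ≤ (⁅X, X⁆.subgroupOf (SLData.slSub hb d)).map (SLData.slMap hb d) := by
        rw [← CfsgLib.Lie.SLUniv.sl2_commutator h4, commutator_def, commutator_le]
        have hsur : ∀ g : SL(2, F), ∃ y, ∃ hy : y ∈ X, SLData.slMap hb d ⟨y, hXs hy⟩ = g := fun g => by
          obtain ⟨e, he⟩ := d.surj_of_four h4 g
          obtain ⟨y, hy, hye⟩ := hfull e e.2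
          refine ⟨y, hy, SLData.slMap_eq hb d (hXN hy) fun v => ?_⟩
          have h2 := (d.phi_fix_of_cent hb (mul_mem (inv_mem (hXN hy)) (le_normalizer e.2))).2 hye v
          rw [d.phi_mul hb (inv_mem (hXN hy)) (le_normalizer e.2)] at h2
          conv_lhs => rw [← h2]
          rw [d.phi_self_inv hb, d.phi_E hb, he]
        intro g _ h _
        obtain ⟨y, hy, rfl⟩ := hsur g
        obtain ⟨w, hw, rfl⟩ := hsur h
        exact ⟨⁅(⟨y, hXs hy⟩ : ↥(SLData.slSub hb d)), ⟨w, hXs hw⟩⁆, commutator_mem_commutator hy hw,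
          map_commutatorElement _ _ _⟩
      obtain ⟨y, hy, hyx⟩ := h1 (mem_top (SLData.slMap hb d ⟨x, hXs hx⟩))
      have hyX : (y : G) ∈ X := (commutator_le.2 fun a ha b hb' =>
        mul_mem (mul_mem (mul_mem ha hb') (inv_mem ha)) (inv_mem hb') : ⁅X, X⁆ ≤ X) hy
      have h2 : (y : G)⁻¹ * x ∈ centralizer (vE p E : Set G) := by
        have := (SLData.slMap_ker hb d (y⁻¹ * ⟨x, hXs hx⟩)).1 (by rw [map_mul, map_inv, hyx, inv_mul_cancel])
        simpa using this
      have h3 : (y : G)⁻¹ * x ∈ bQ p X := CfsgLib.BaumannBlock.inf_centralizer_V_le hf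
        (CfsgLib.BaumannBlock.ne_bot_of_block hX) (mem_inf.2 ⟨mul_mem (inv_mem hyX) hx,
          centralizer_le (fun v hv => hb.bV_le_vE T hX hXN hmove hv) h2⟩)
      rw [← mul_inv_cancel_left (y : G) x]
      exact mul_mem hy (commutator_mono (bQ_le X) le_rfl (hf.commQ.ge h3))
    refine hperf.trans (commutator_le.2 fun a ha b hb' => ?_)
    obtain ⟨e, he, k, hk, rfl⟩ := CfsgLib.Coprime.mem_sup_exists hkN (hXek ha)
    obtain ⟨e', he', k', hk', rfl⟩ := CfsgLib.Coprime.mem_sup_exists hkN (hXek hb')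
    have hkk : ⁅k, k'⁆ ∈ k1 p E := hb.mem_k1
      (by rw [commutatorElement_def]; exact mul_mem (mul_mem (mul_mem hk hk') (inv_mem hk)) (inv_mem hk'))
      (hs.triv_commutator (hb.norm_secQ (hkN hk)) (hb.norm_secQ (hkN hk')) (hkc k hk) (hkc k' hk'))
    have hke : ⁅k, e'⁆ ∈ E := by
      rw [← commutatorElement_inv e' k]
      exact inv_mem (hcE k (hkN hk) e' he')
    rw [show ⁅e * k, e' * k'⁆ = e * (⁅k, e'⁆ * (e' * ⁅k, k'⁆ * e'⁻¹)) * e⁻¹ * ⁅e, e' * k'⁆ by
      simp only [commutatorElement_def]; group]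
    refine mul_mem ?_ (mem_sup_left (hcE _ (mul_mem (le_normalizer he') (hkN hk')) e he))
    refine (mem_normalizer_iff.1 (hSN e (le_normalizer he)) _).1 (mul_mem (mem_sup_left hke) ?_)
    exact (mem_normalizer_iff.1 (hSN e' (le_normalizer he')) _).1 (mem_sup_right hkk)
  · -- three elements
    have h8 : p = 3 ∧ Nat.card ↥(img p E) = 8 :=
      ⟨hp3, (SLData.img_card hb d).trans (card_comm_three h4.symm)⟩
    obtain ⟨hc9, -⟩ := (hb.eight_data h8).2.2.2 hex
    obtain ⟨M, iM, ⟨R⟩⟩ := exists_secRep hs.toIsAbSec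
    haveI := R.finite
    have hM : Nat.card M = 9 := by
      have := R.card (wE_le E)
      rw [hc9] at this
      exact (Nat.eq_of_mul_eq_mul_right Nat.card_pos this).symm
    have h3 : ∀ m : M, 3 • m = 0 := fun m => by
      obtain ⟨a, ha, rfl⟩ := R.pr_surj m
      have hq : ∀ n : ℕ, R.pr (a ^ n) = n • R.pr a := fun n => by
        induction n with
        | zero => rw [pow_zero, R.pr_one, zero_smul]
        | succ n ih => rw [pow_succ, R.pr_mul _ (pow_mem ha n) _ ha, ih, succ_nsmul]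
      obtain ⟨k, hk⟩ := (isPGroup_qE E) ⟨a, ha⟩
      have hk' : a ^ 3 ^ k = 1 := hp3 ▸ congrArg Subtype.val hk
      -- the section has exponent three
      obtain ⟨T₀, hT₀⟩ : ∃ T₀ : ℕ, T₀ = addOrderOf (R.pr a) := ⟨_, rfl⟩
      have h9 : addOrderOf (R.pr a) ∣ 9 := hM ▸ addOrderOf_dvd_natCard _
      by_contra hne
      obtain ⟨j, hj, hje⟩ := (Nat.dvd_prime_pow Nat.prime_three).1 (show addOrderOf (R.pr a) ∣ 3 ^ 2 from h9)
      have hj2 : j = 2 := by
        by_contra hj2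
        refine hne (addOrderOf_dvd_iff_nsmul_eq_zero.1 ?_)
        rw [hje]
        exact (Nat.pow_dvd_pow 3 (show j ≤ 1 by omega)).trans (by norm_num)
      -- a cyclic section would not be irreducible
      let N : AddSubgroup M :=
        { carrier := {x | 3 • x = 0}
          zero_mem' := smul_zero _
          add_mem' := fun {x y} (hx : 3 • x = 0) (hy : 3 • y = 0) => by show 3 • (x + y) = 0; rw [smul_add, hx, hy, add_zero]
          neg_mem' := fun {x} (hx : 3 • x = 0) => by show 3 • -x = 0; rw [smul_neg, hx, neg_zero] }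
      rcases hs.invariant R N fun g hg x (hx : 3 • x = 0) => (by
        show 3 • R.act g x = 0
        rw [← map_nsmul, hx, map_zero]) with hN | hN
      · have hmem : 3 • R.pr a ∈ N := addOrderOf_dvd_iff_nsmul_eq_zero.1 (h9.trans dvd_rfl) |> fun h => by
          show 3 • 3 • R.pr a = 0
          rw [← mul_nsmul']
          exact h
        rw [hN, AddSubgroup.mem_bot] at hmem
        exact hne hmem
      · exact hne (hN.symm ▸ AddSubgroup.mem_top (R.pr a) : R.pr a ∈ N)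
    have hkb : ∀ k ∈ kE p E, ∀ b ∈ Cfsg.baumannSubgroupOf p (T : Subgroup G), ⁅k, b⁆ ∈ k1 p E := by
      intro k hk b hb'
      have hbN := hBN hb'
      have hk' : b * k * b⁻¹ ∈ kE p E := (mem_normalizer_iff.1 (kE_norm hbN) k).1 hk
      refine hb.mem_k1 ?_ ?_
      · rw [commutatorElement_def, show k * b * k⁻¹ * b⁻¹ = k * (b * k * b⁻¹)⁻¹ by group]
        exact mul_mem hk (inv_mem hk')
      obtain ⟨k₀, hk₀⟩ : ∃ k₀ : ↥(secN (qE p E) (wE p E)), k₀ = ⟨k, hb.norm_secQ (hkN hk)⟩ := ⟨_, rfl⟩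
      obtain ⟨b₀, hb₀⟩ : ∃ b₀ : ↥(secN (qE p E) (wE p E)), b₀ = ⟨b, hb.norm_secQ hbN⟩ := ⟨_, rfl⟩
      obtain ⟨N, hN⟩ := (T.2.to_le (show Cfsg.baumannSubgroupOf p (T : Subgroup G) ≤ T from inf_le_left)) ⟨b, hb'⟩
      have hbp : b ^ p ^ N = 1 := congrArg Subtype.val hN
      obtain ⟨n, hn⟩ : ∃ n, p ^ N = 2 * n + 1 := by
        rw [hp3]; exact (Odd.pow (by decide : Odd 3))
      have hfix := hs.commutant_fixed R hM h3 (c := R.act k₀) (T := R.act b₀) (T' := R.act b₀⁻¹) (n := n)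
        (hs.act_mem_commutant R k₀ (hk₀ ▸ hkc k hk)) (by rw [← map_mul, mul_inv_cancel, map_one])
        (by rw [← map_mul, inv_mul_cancel, map_one])
        (by
          rw [← map_mul, ← map_mul]
          refine hs.act_mem_commutant R _ ?_
          rw [hk₀, hb₀]
          exact hkc _ hk')
        (by
          rw [← hn, ← map_pow, show b₀ ^ p ^ N = 1 from Subtype.ext (by rw [hb₀]; exact hbp),
            map_one])
      have h1 : R.act ⁅k₀, b₀⁆ = 1 := by
        rw [← map_mul, ← map_mul] at hfix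
        rw [show ⁅k₀, b₀⁆ = k₀ * (b₀ * k₀ * b₀⁻¹)⁻¹ by rw [commutatorElement_def]; group, map_mul]
        have h5 : R.act (b₀ * k₀ * b₀⁻¹) * R.act (b₀ * k₀ * b₀⁻¹)⁻¹ = 1 := by rw [← map_mul, mul_inv_cancel, map_one]
        rw [hfix] at h5
        exact h5
      have h2 := (R.triv_iff ⁅k₀, b₀⁆).2 h1
      rw [hk₀, hb₀] at h2
      exact h2
    rw [← hX.2.1, commutator_le]
    intro x hx b hb'
    obtain ⟨e, he, k, hk, rfl⟩ := CfsgLib.Coprime.mem_sup_exists hkN (hXek hx)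
    rw [show ⁅e * k, b⁆ = e * ⁅k, b⁆ * e⁻¹ * ⁅e, b⁆ by simp only [commutatorElement_def]; group]
    exact mul_mem ((mem_normalizer_iff.1 (hSN e (le_normalizer he)) _).1 (mem_sup_right (hkb k hk b hb')))
      (mem_sup_left (hcE b (hBN hb') e he))

/-- Elements acting like `E` and centralising modulo `O_p(E)` lie in `E`. -/
theorem le_of_core (hG : centralizer (Cfsg.pCore p G : Set G) ≤ Cfsg.pCore p G) (hb : SBlock p E)
    (hres : Cfsg.pResidualOf p X = X) (hX1 : X ≤ E ⊔ k1 p E)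
    (hcore : ∀ x ∈ X, ∀ q ∈ Cfsg.pCore p G, ⁅x, q⁆ ∈ qE p E) : X ≤ E := by
  have hkN : k1 p E ≤ normalizer (E : Set G) := k1_le
  obtain ⟨K, hK⟩ : ∃ K, K = k1 p E ⊓ chainStab (Cfsg.pCore p G) (qE p E) := ⟨_, rfl⟩
  have hQn : ∀ g : G, g ∈ normalizer (Cfsg.pCore p G : Set G) := fun g => by
    rw [normalizer_eq_top_iff.2 (CfsgLib.Coprime.pCore_normal' p)]; exact mem_top _
  have hKp : IsPGroup p ↥K := by
    intro k
    obtain ⟨a, c, hc, hab⟩ := Nat.exists_eq_pow_mul_and_not_dvd (orderOf_pos (k : G)).ne' p hp.out.ne_one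
    refine ⟨a, Subtype.ext ?_⟩
    show (k : G) ^ p ^ a = 1
    have ho : (orderOf ((k : G) ^ p ^ a)).Coprime p := by
      rw [orderOf_pow' _ (pow_ne_zero a hp.out.ne_zero), hab, Nat.gcd_eq_right (Dvd.intro _ rfl),
        Nat.mul_div_cancel_left _ (Nat.pow_pos hp.out.pos)]
      exact Nat.coprime_comm.1 (hp.out.coprime_iff_not_dvd.2 hc)
    obtain ⟨y, hy, hyk⟩ : ∃ y ∈ K, (k : G) ^ p ^ a = y := ⟨_, pow_mem k.2 _, rfl⟩
    rw [hyk] at ho ⊢
    obtain ⟨hy1, hy2⟩ := mem_inf.1 (hK.le hy)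
    have hyN : y ∈ normalizer (E : Set G) := hkN hy1
    have hyQ : ∀ q ∈ qE p E, y * q = q * y := by
      by_cases hex : qE p E = wE p E
      · intro q hq
        rw [← hb.vE_eq_wE_of_eq hex] at hq
        exact (mem_centralizer_iff.1 (mem_inf.1 (mem_inf.1 hy1).1).2 q hq).symm
      intro q hq
      refine fix_of_chain ((isPGroup_qE E).to_le (wE_le E)) ho (mem_centralizer_iff.2 fun w hw => ?_)
        (hb.triv_k1 hy1) hq
      have hle : wE p E ≤ centralizer ({y} : Set G) := by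
        rw [← hb.vz]
        refine sup_le (fun v hv => mem_centralizer_singleton_iff.2 ?_) fun z hz => mem_centralizer_singleton_iff.2 ?_
        · exact mem_centralizer_iff.1 (mem_inf.1 (mem_inf.1 hy1).1).2 v hv
        · exact (hb.cent_zE_of_triv hex hyN (hb.triv_k1 hy1) hz).symm
      exact mem_centralizer_singleton_iff.1 (hle hw)
    have hyC : y ∈ centralizer (Cfsg.pCore p G : Set G) := mem_centralizer_iff.2 fun q hq =>
      (fix_of_chain (isPGroup_qE E) ho (mem_centralizer_iff.2 fun w hw => (hyQ w hw).symm) hy2.2.2 hq).symm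
    obtain ⟨j, hj⟩ := CfsgLib.Coprime.pCore_isPGroup p ⟨y, hG hyC⟩
    exact orderOf_eq_one_iff.1 (Nat.eq_one_of_dvd_coprimes (Nat.Coprime.pow_right j ho) dvd_rfl
      (orderOf_dvd_of_pow_eq_one (congrArg Subtype.val hj)))
  have hKN : K ≤ normalizer (E : Set G) := hK.le.trans (inf_le_left.trans hkN)
  rw [closure_coprime_eq hres, closure_le]
  rintro x ⟨hx, ho⟩
  refine CfsgLib.BaumannNormal.coprime_mem_sup hKp hKN ?_ ho
  obtain ⟨e, he, k, hk, rfl⟩ := CfsgLib.Coprime.mem_sup_exists hkN (hX1 hx)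
  refine mul_mem (mem_sup_left he) (mem_sup_right (hK.ge (mem_inf.2 ⟨hk, ?_⟩)))
  have hS : ∀ y, y ∈ normalizer (E : Set G) → (∀ q ∈ Cfsg.pCore p G, ⁅y, q⁆ ∈ qE p E) →
      y ∈ chainStab (Cfsg.pCore p G) (qE p E) := fun y hy h => ⟨qE_norm hy, hQn y, h⟩
  have h1 : e ∈ chainStab (Cfsg.pCore p G) (qE p E) := hS e (le_normalizer he) fun q hq => by
    rw [← commutatorElement_inv q e]
    exact inv_mem (commutator_core_le hb.qn (commutator_mem_commutator hq he))
  have h2 := mul_mem (inv_mem h1) (hS (e * k) (mul_mem (le_normalizer he) (hkN hk)) (hcore _ hx))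
  rwa [inv_mul_cancel_left] at h2

/-- The upper part of an exceptional block moving `[W, E]` lies in `O_p(E)`. -/
theorem bQ_le_qE (hG : centralizer (Cfsg.pCore p G : Set G) ≤ Cfsg.pCore p G) (hb : SBlock p E) (T : Sylow p G)
    (hE : Cfsg.IsBaumannBlock p (T : Subgroup G) E) (hX : Cfsg.IsBaumannBlock p (T : Subgroup G) X)
    (hBN : Cfsg.baumannSubgroupOf p (T : Subgroup G) ≤ normalizer (E : Set G))
    (hXN : X ≤ normalizer (E : Set G)) (hmove : ¬ X ≤ centralizer (vE p E : Set G))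
    (hQW : bQ p X ≠ bW p X) (hQcore : bQ p X ≤ Cfsg.pCore p G) : bQ p X ≤ qE p E := by
  classical
  have hf := CfsgLib.BaumannBlock.blockFacts hX
  have hne := CfsgLib.BaumannBlock.ne_bot_of_block hX
  have hXB := baumann_le_normalizer_of_block hX
  obtain ⟨hp3, hQ', hZ, hirr, ⟨Fx, j₁, j₂, n, hn, hFx, hisoX, hsl⟩, hquad⟩ := exc_data hX hQW
  subst hp3
  obtain ⟨F, i₁, i₂, hF, ⟨d⟩⟩ : ∃ (F : Type) (i₁ : Field F) (i₂ : Fintype F),
      3 ≤ Fintype.card F ∧ Nonempty (@SLData G _ 3 E F i₁ i₂) := by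
    rcases block_cases T hE hb with ⟨h2, -⟩ | ⟨h2, -⟩ | h
    · omega
    · omega
    · exact h
  haveI := d.charP
  have hVE := hb.bV_le_vE T hX hXN hmove
  have hsplit := SLData.split_odd hb d (by norm_num)
  have hfull := fun e (he : e ∈ E) => d.ek_full hG hb hF T hE hBN hXN hX.1 hX.2.1 hmove he
  -- the modules agree
  have hVeq : vE 3 E ≤ bV 3 X := by
    obtain ⟨V, hV⟩ : ∃ V, V = bV 3 X := ⟨_, rfl⟩
    rw [← hV] at hVE ⊢
    have hinv : E ≤ normalizer (V : Set G) := fun e he => by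
      obtain ⟨x, hx, hxe⟩ := hfull e he
      rw [← mul_inv_cancel_left x e]
      exact mul_mem (hV ▸ bV_norm (le_normalizer hx)) (centralizer_le_normalizer _ (centralizer_le hVE hxe))
    have hzn : E ≤ normalizer (zE 3 E : Set G) := fun e he => zE_norm (le_normalizer he)
    rcases hb.irr (V ⊔ zE 3 E) (sup_le (hVE.trans (vE_le E)) (zE_le E)) le_sup_right
      (CfsgLib.Coprime.sup_le_normalizer hinv hzn) with h | h
    · exfalso
      have hV0 : bV 3 X = ⊥ := hV ▸ le_bot_iff.1 ((le_inf hVE (le_sup_left.trans h.le)).trans hsplit.le)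
      exact CfsgLib.BaumannBlock.not_le_centralizer_bW hf hne (commutator_eq_bot_iff_le_centralizer.1
        (by rw [commutator_comm]; exact hV0))
    · intro v hv
      obtain ⟨w, hw, z, hz, rfl⟩ := CfsgLib.Coprime.mem_sup_exists
        (fun z hz => hinv (wE_le_E E (zE_le E hz))) (h.ge (vE_le E hv))
      have hzv : z ∈ vE 3 E ⊓ zE 3 E := mem_inf.2 ⟨by
        have := mul_mem (inv_mem (hVE hw)) hv
        rwa [inv_mul_cancel_left] at this, hz⟩
      rw [hsplit, mem_bot] at hzv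
      rwa [hzv, mul_one]
  by_cases hex : qE 3 E = wE 3 E
  · -- `E` has no upper section
    by_contra hnle
    have hqv := hb.vE_eq_wE_of_eq hex
    have hh2 : (2 : F) ≠ 0 := fun h => by
      have := (CharP.cast_eq_zero_iff F 3 2).1 (by exact_mod_cast h)
      omega
    have hneg : (-1 : SL(2, F)) ∈ commutator SL(2, F) := by
      rcases hF.lt_or_eq with h | h
      · rw [CfsgLib.Lie.SLUniv.sl2_commutator h]; exact mem_top _
      · obtain ⟨g, hg, hg2⟩ := exists_sq_ne_one (F := F) h.symm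
        rw [← ((eight_class h.symm hg).1.resolve_left hg2)]
        exact pow_mem hg 2
    obtain ⟨e₁, he₁⟩ := d.range.ge hneg
    obtain ⟨a₀, c₀, hc₀, hord⟩ :=
      Nat.exists_eq_pow_mul_and_not_dvd (orderOf_pos (e₁ : G)).ne' 3 (by norm_num)
    obtain ⟨e₀, he₀⟩ : ∃ e₀ : ↥E, e₀ = e₁ ^ 3 ^ a₀ := ⟨_, rfl⟩
    have ho : (orderOf (e₀ : G)).Coprime 3 := by
      rw [he₀, Subgroup.coe_pow, orderOf_pow' _ (pow_ne_zero a₀ (by norm_num)), hord,
        Nat.gcd_eq_right (Dvd.intro _ rfl), Nat.mul_div_cancel_left _ (Nat.pow_pos (by norm_num))]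
      exact Nat.coprime_comm.1 (Nat.prime_three.coprime_iff_not_dvd.2 hc₀)
    have hρ : d.ρ e₀ = -1 := by
      rw [he₀, map_pow, he₁, Odd.neg_one_pow (Odd.pow (by decide))]
    -- `e₀` inverts `[W, E]`
    have hinv : ∀ v ∈ vE 3 E, (e₀ : G) * v * (e₀ : G)⁻¹ = v⁻¹ := fun v hv => by
      have hv' : (e₀ : G) * v * (e₀ : G)⁻¹ ∈ vE 3 E := (mem_normalizer_iff.1 (vE_norm (le_normalizer e₀.2)) v).1 hv
      have h1 : d.R.pr ((e₀ : G) * v * (e₀ : G)⁻¹ * v) = 0 := by
        rw [d.R.pr_mul _ (vE_le E hv') _ (vE_le E hv), d.phi_pr hb (le_normalizer e₀.2) (vE_le E hv), d.phi_E hb, hρ,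
          Matrix.SpecialLinearGroup.coe_neg, Matrix.SpecialLinearGroup.coe_one, Matrix.neg_mulVec, Matrix.one_mulVec,
          neg_add_cancel]
      have h2 : (e₀ : G) * v * (e₀ : G)⁻¹ * v ∈ vE 3 E ⊓ zE 3 E :=
        mem_inf.2 ⟨mul_mem hv' hv, (d.R.pr_eq_zero _ (vE_le E (mul_mem hv' hv))).1 h1⟩
      rw [hsplit, mem_bot, mul_eq_one_iff_eq_inv] at h2
      exact h2
    have hvQ : ∀ v ∈ vE 3 E, v ∈ bQ 3 X := fun v hv => bW_le_bQ X (bV_le_bW hf (hVeq hv))
    have hvc : ∀ v ∈ vE 3 E, ∀ q ∈ Cfsg.pCore 3 G, q * v = v * q := fun v hv q hq => vG_comm (hb.vV hv) hq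
    obtain ⟨Y, hY⟩ : ∃ Y, Y = bQ 3 X ⊓ centralizer ({(e₀ : G)} : Set G) := ⟨_, rfl⟩
    have hYmem : ∀ y, y ∈ Y ↔ y ∈ bQ 3 X ∧ y * (e₀ : G) = e₀ * y := fun y => by
      rw [hY, mem_inf, mem_centralizer_singleton_iff]
    have hYv : ∀ y ∈ Y, y ∈ vE 3 E → y = 1 := fun y hy hyv => by
      have h1 := hinv y hyv
      rw [← ((hYmem y).1 hy).2, mul_inv_cancel_right] at h1
      have h2 : y ^ 2 = 1 := by rw [pow_two]; nth_rw 2 [h1]; exact mul_inv_cancel y
      exact orderOf_eq_one_iff.1 (Nat.eq_one_of_dvd_coprimes (by norm_num : Nat.Coprime 2 3)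
        (orderOf_dvd_of_pow_eq_one h2) (orderOf_dvd_of_pow_eq_one (vG_pow (hb.vV hyv))))
    have hdec : ∀ a ∈ bQ 3 X, ∃ v ∈ vE 3 E, ∃ y ∈ Y, a = v * y := by
      intro a ha
      obtain ⟨w, hw⟩ : ∃ w, w = ⁅(e₀ : G), a⁆ := ⟨_, rfl⟩
      have hwv : w ∈ vE 3 E := by
        rw [hqv, hw, ← commutatorElement_inv a (e₀ : G)]
        exact inv_mem (commutator_core_le hb.qn (commutator_mem_commutator (hQcore ha) e₀.2))
      have hw3 : w ^ 3 = 1 := vG_pow (hb.vV hwv)
      refine ⟨w, hwv, w⁻¹ * a, (hYmem _).2 ⟨mul_mem (inv_mem (hvQ w hwv)) ha, ?_⟩, by group⟩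
      have h2 := hinv _ (inv_mem hwv)
      rw [inv_inv] at h2
      have h3 : (e₀ : G) * (w⁻¹ * a) * (e₀ : G)⁻¹ = w⁻¹ * a := by
        calc (e₀ : G) * (w⁻¹ * a) * (e₀ : G)⁻¹
            = ((e₀ : G) * w⁻¹ * (e₀ : G)⁻¹) * ((e₀ : G) * a * (e₀ : G)⁻¹) := by group
          _ = w * (w * a) := by rw [h2, show (e₀ : G) * a * (e₀ : G)⁻¹ = w * a by
              rw [hw, commutatorElement_def]; group]
          _ = w⁻¹ * a := by
              rw [← mul_assoc, show w⁻¹ = w * w from inv_eq_of_mul_eq_one_right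
                (by rw [← mul_assoc, ← pow_two, ← pow_succ]; exact hw3)]
      exact (mul_inv_eq_iff_eq_mul.1 h3).symm
    have hZY : bZ 3 X ≤ Y := by
      rw [← hQ', commutator_le]
      intro a ha b hb'
      obtain ⟨v, hv, y, hy, rfl⟩ := hdec a ha
      obtain ⟨v', hv', y', hy', rfl⟩ := hdec b hb'
      rw [comm_congr (P := bQ 3 X) (W := vE 3 E) (fun w hw q hq => hvc w hw q (hQcore hq)) ((hYmem y).1 hy).1
        ((hYmem y').1 hy').1 hv hv' hvQ, commutatorElement_def]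
      exact mul_mem (mul_mem (mul_mem hy hy') (inv_mem hy)) (inv_mem hy')
    obtain ⟨b, hbB, hbW⟩ := exists_moving_block hX
    have hbN : b ∈ normalizer (E : Set G) := hBN hbB
    have hbX : b ∈ normalizer (X : Set G) := hXB hbB
    obtain ⟨N, hN⟩ := (T.2.to_le (show Cfsg.baumannSubgroupOf 3 (T : Subgroup G) ≤ T from inf_le_left)) ⟨b, hbB⟩
    have hbpow : b ^ 3 ^ N = 1 := congrArg Subtype.val hN
    -- `b` normalises `Y`
    have hbY : ∀ y ∈ Y, b * y * b⁻¹ ∈ Y := by
      intro y hy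
      obtain ⟨hyQ, hye⟩ := (hYmem y).1 hy
      refine (hYmem _).2 ⟨(mem_normalizer_iff.1 (bQ_norm hbX) y).1 hyQ, ?_⟩
      obtain ⟨e₂, he₂⟩ : ∃ e₂ : ↥E, e₂ = ⟨b * e₀ * b⁻¹, (mem_normalizer_iff.1 hbN _).1 e₀.2⟩ := ⟨_, rfl⟩
      have hρ2 : d.ρ e₂ = -1 := SLData.rho_inj fun v => by
        obtain ⟨w, rfl⟩ : ∃ w, d.phi hb hbN w = v := ⟨_, d.phi_self_inv hb hbN v⟩
        rw [he₂, d.phi_conj hb hbN e₀, hρ, Matrix.SpecialLinearGroup.coe_neg, Matrix.SpecialLinearGroup.coe_one,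
          Matrix.neg_mulVec, Matrix.one_mulVec, map_neg, Matrix.neg_mulVec, Matrix.one_mulVec]
      obtain ⟨u, hu⟩ : ∃ u : ↥E, u = e₀⁻¹ * e₂ := ⟨_, rfl⟩
      have huv : (u : G) ∈ vE 3 E := hqv.symm ▸ (⟨u.2, (d.ker u).1 (by
        rw [hu, map_mul, map_inv, hρ, hρ2, inv_mul_cancel])⟩ : (u : G) ∈ qE 3 E)
      have h1 : b * y * b⁻¹ * (e₂ : G) = e₂ * (b * y * b⁻¹) := by
        rw [he₂]
        calc b * y * b⁻¹ * (b * e₀ * b⁻¹) = b * (y * e₀) * b⁻¹ := by group
          _ = _ := by rw [hye]; group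
      have h2 := hvc _ huv _ (hQcore ((mem_normalizer_iff.1 (bQ_norm hbX) y).1 hyQ))
      calc b * y * b⁻¹ * (e₀ : G) = b * y * b⁻¹ * ((e₂ : G) * (u : G)⁻¹) := by
            rw [hu, Subgroup.coe_mul, Subgroup.coe_inv]; group
        _ = (e₂ : G) * (u : G)⁻¹ * (b * y * b⁻¹) := by
            rw [← mul_assoc, h1, mul_assoc (e₂ : G), mul_assoc (e₂ : G),
              (show Commute (b * y * b⁻¹) (u : G) from h2).inv_right.eq]
        _ = (e₀ : G) * (b * y * b⁻¹) := by rw [hu, Subgroup.coe_mul, Subgroup.coe_inv]; group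
    -- `b` is quadratic on the module
    obtain ⟨hBs, g, hB1, -⟩ := SLData.baumann_slSub hb d hG T hE hF hBN
    obtain ⟨cb, hcb⟩ := hB1 ⟨b, hBs hbB⟩ hbB
    have hvquad : ∀ v ∈ vE 3 E, ⁅b, ⁅b, v⁆⁆ = 1 := by
      intro v hv
      have hc : ∀ w ∈ vE 3 E, ⁅b, w⁆ ∈ vE 3 E := fun w hw => by
        rw [commutatorElement_def]
        exact mul_mem ((mem_normalizer_iff.1 (vE_norm hbN) w).1 hw) (inv_mem hw)
      have h2 : d.R.pr ⁅b, ⁅b, v⁆⁆ = 0 := by
        obtain ⟨b', hb'⟩ : ∃ b' : ↥(secN (wE 3 E) (zE 3 E)), b' = ⟨b, hb.norm_secW hbN⟩ := ⟨_, rfl⟩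
        have hact : ∀ w, d.R.act b' w = (SLData.tv g cb).1.mulVec w := fun w => by
          rw [← hcb, ← SLData.slMap_spec hb d ⟨b, hBs hbB⟩ hbN]
          rw [hb']
          rfl
        rw [show b = (b' : G) by rw [hb'], d.R.pr_comm b' (vE_le E (by rw [hb']; exact hc v hv)),
          d.R.pr_comm b' (vE_le E hv), hact, hact]
        obtain ⟨x, y, hxy⟩ := SLData.exists_coords g (d.R.pr v)
        rw [hxy, SLData.tv_mulVec, show (x + cb * y) • g.1.mulVec ![1, 0] + y • g.1.mulVec ![0, 1] -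
          (x • g.1.mulVec ![1, 0] + y • g.1.mulVec ![0, 1]) = (cb * y) • g.1.mulVec ![1, 0] + (0 : F) • g.1.mulVec ![0, 1] by
            module, SLData.tv_mulVec, mul_zero, add_zero, sub_self]
      have h3 : ⁅b, ⁅b, v⁆⁆ ∈ vE 3 E ⊓ zE 3 E :=
        mem_inf.2 ⟨hc _ (hc v hv), (d.R.pr_eq_zero _ (vE_le E (hc _ (hc v hv)))).1 h2⟩
      rwa [hsplit, mem_bot] at h3
    -- `b` is quadratic on the upper section
    have hsX : IsIrrSec X (bQ 3 X) (bW 3 X) :=
      { le := bW_le_bQ X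
        comm := hQ'.le.trans inf_le_left
        nE := fun x hx => ⟨bQ_norm (le_normalizer hx), bW_norm (le_normalizer hx)⟩
        irr := hirr }
    have hQquad : ∀ y ∈ bQ 3 X, ⁅b, ⁅b, y⁆⁆ ∈ bW 3 X := by
      rcases hF.lt_or_eq with h4 | h4
      · obtain ⟨e, he⟩ := d.surj_of_four h4 (SLData.slMap hb d ⟨b, hBs hbB⟩)
        obtain ⟨x, hx, hxe⟩ := hfull e e.2
        have hxN := hXN hx
        have hxb : x⁻¹ * b ∈ centralizer (vE 3 E : Set G) := by
          have h1 : (e : G)⁻¹ * b ∈ centralizer (vE 3 E : Set G) := by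
            refine (d.phi_fix_of_cent hb (mul_mem (inv_mem (le_normalizer e.2)) hbN)).1 fun v => ?_
            rw [d.phi_mul hb (inv_mem (le_normalizer e.2)) hbN, SLData.slMap_spec hb d ⟨b, hBs hbB⟩ hbN, ← he,
              ← d.phi_E hb, d.phi_inv_self hb]
          have := mul_mem hxe h1
          rwa [mul_assoc, mul_inv_cancel_left] at this
        -- the cube of `x` lies in `Q`
        have hxs : x ∈ SLData.slSub hb d := ⟨hxN, (hb.le_ek hG T hE hBN hXN hX.1 hX.2.1 |>.trans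
          (SLData.ek_le_slSub hb d) hx).choose_spec⟩
        have hxm : SLData.slMap hb d ⟨x, hxs⟩ = SLData.tv g cb := by
          rw [← hcb]
          refine SLData.slMap_eq hb d hxN fun v => ?_
          have h2 := (d.phi_fix_of_cent hb (mul_mem (inv_mem hxN) hbN)).2 hxb v
          rw [d.phi_mul hb (inv_mem hxN) hbN] at h2
          conv_lhs => rw [← h2]
          rw [d.phi_self_inv hb, SLData.slMap_spec hb d ⟨b, hBs hbB⟩ hbN]
        have hx3 : x ^ 3 ∈ bQ 3 X := by
          refine CfsgLib.BaumannBlock.inf_centralizer_V_le hf hne (mem_inf.2 ⟨pow_mem hx 3, centralizer_le hVE ?_⟩)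
          have hx3s : SLData.slMap hb d ((⟨x, hxs⟩ : ↥(SLData.slSub hb d)) ^ 3) = 1 := by
            rw [map_pow, hxm]
            refine SLData.rho_inj fun v => ?_
            obtain ⟨u, w, rfl⟩ := SLData.exists_coords g v
            rw [pow_succ, pow_two, Matrix.SpecialLinearGroup.coe_mul, Matrix.SpecialLinearGroup.coe_mul,
              ← Matrix.mulVec_mulVec, ← Matrix.mulVec_mulVec, SLData.tv_mulVec, SLData.tv_mulVec, SLData.tv_mulVec,
              Matrix.SpecialLinearGroup.coe_one, Matrix.one_mulVec]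
            congr 2
            have h30 : (3 : F) = 0 := by exact_mod_cast (CharP.cast_eq_zero F 3)
            linear_combination (cb * w) * h30
          exact (SLData.slMap_ker hb d _).1 hx3s
        obtain ⟨-, -, ρ, ψ, hρX, hψ, hker, hact⟩ := hsl
        haveI : CharP Fx 3 := by
          obtain ⟨q, hq⟩ := CharP.exists Fx
          obtain ⟨k, hqp, hk⟩ := FiniteField.card Fx q
          rw [hFx] at hk
          rwa [(Nat.prime_dvd_prime_iff_eq Nat.prime_three hqp).1
            (Nat.prime_three.dvd_of_dvd_pow (hk ▸ dvd_pow_self 3 hn : 3 ∣ q ^ (k : ℕ)))]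
        have hA3 : ρ ⟨x, hx⟩ ^ 3 = 1 := SLData.rho_inj fun v => by
          obtain ⟨u, hu⟩ := hψ (Multiplicative.ofAdd v)
          obtain ⟨w, hw, hwv⟩ := hact (⟨x, hx⟩ ^ 3) u
          have h1 : ψ w = ψ u := by
            rw [← mul_inv_eq_one, ← map_inv, ← map_mul, hker]
            show (w : G) * (u : G)⁻¹ ∈ bW 3 X
            rw [hw, Subgroup.coe_pow]
            exact hsX.comm (commutator_mem_commutator hx3 u.2)
          rw [h1, hu, map_pow, toAdd_ofAdd] at hwv
          rw [← hwv, Matrix.SpecialLinearGroup.coe_one, Matrix.one_mulVec]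
        obtain ⟨A, hA⟩ : ∃ A, A = (ρ ⟨x, hx⟩).1 := ⟨_, rfl⟩
        have htr : A 0 0 + A 1 1 = 2 := hA ▸ CfsgLib.LS.QdF.trace_of_pow_prime_pow (p := 3) (n := 1) (by simpa using hA3)
        have hdet : A 0 0 * A 1 1 - A 0 1 * A 1 0 = 1 := by rw [← det_fin_two, hA]; exact (ρ ⟨x, hx⟩).2
        have hA2 : ∀ v, A.mulVec (A.mulVec v - v) - (A.mulVec v - v) = 0 := fun v => by
          funext i
          fin_cases i <;> simp [Matrix.mulVec, dotProduct, Fin.sum_univ_two, Matrix.vecHead, Matrix.vecTail]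
          · linear_combination (A 0 0 * v 0 + A 0 1 * v 1) * htr - v 0 * hdet
          · linear_combination (A 1 0 * v 0 + A 1 1 * v 1) * htr - v 1 * hdet
        -- transfer to `x`
        obtain ⟨M, iM, ⟨R⟩⟩ := exists_secRep hsX.toIsAbSec
        haveI := R.finite
        have h3M : ∀ m : M, 3 • m = 0 := fun m => by
          obtain ⟨a, ha, rfl⟩ := R.pr_surj m
          rw [succ_nsmul, two_nsmul, ← R.pr_mul a ha a ha, ← R.pr_mul _ (mul_mem ha ha) a ha, R.pr_eq_zero _ (mul_mem (mul_mem ha ha) ha)]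
          refine (hker ⟨a * a * a, mul_mem (mul_mem ha ha) ha⟩).1 (Multiplicative.toAdd.injective ?_)
          rw [show (⟨a * a * a, mul_mem (mul_mem ha ha) ha⟩ : ↥(bQ 3 X)) = ⟨a, ha⟩ * ⟨a, ha⟩ * ⟨a, ha⟩ from rfl,
            ψ.map_mul, ψ.map_mul]
          show Multiplicative.toAdd (ψ ⟨a, ha⟩) + Multiplicative.toAdd (ψ ⟨a, ha⟩) + Multiplicative.toAdd (ψ ⟨a, ha⟩) = 0
          funext i
          have h30 : (3 : Fx) = 0 := by exact_mod_cast (CharP.cast_eq_zero Fx 3)
          simp only [Pi.add_apply, Pi.zero_apply]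
          linear_combination (Multiplicative.toAdd (ψ ⟨a, ha⟩) i) * h30
        obtain ⟨x', hx'⟩ : ∃ x' : ↥(secN (bQ 3 X) (bW 3 X)), x' = ⟨x, hsX.nE hx⟩ := ⟨_, rfl⟩
        obtain ⟨b', hb'⟩ : ∃ b' : ↥(secN (bQ 3 X) (bW 3 X)), b' = ⟨b, bQ_norm hbX, bW_norm hbX⟩ := ⟨_, rfl⟩
        have hC : R.act (x'⁻¹ * b') ∈ commutant R X := by
          refine hsX.act_mem_commutant R _ fun y hy a ha => ?_
          have hcN : x⁻¹ * b ∈ normalizer (X : Set G) := mul_mem (inv_mem (le_normalizer hx)) hbX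
          have h1 : ⁅x⁻¹ * b, y⁆ ∈ bQ 3 X := by
            refine CfsgLib.BaumannBlock.inf_centralizer_V_le hf hne (mem_inf.2 ⟨?_, ?_⟩)
            · rw [commutatorElement_def]
              exact mul_mem ((mem_normalizer_iff.1 hcN y).1 hy) (inv_mem hy)
            · have hc := centralizer_le hVE hxb
              rw [commutatorElement_def, show x⁻¹ * b * y * (x⁻¹ * b)⁻¹ * y⁻¹ =
                x⁻¹ * b * (y * (x⁻¹ * b)⁻¹ * y⁻¹) by group]
              exact mul_mem hc ((mem_normalizer_iff.1 (CfsgLib.Coprime.normalizer_le_normalizer_centralizer _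
                (bV_norm (le_normalizer hy))) _).1 (inv_mem hc))
          rw [hx', hb']
          exact hsX.comm (commutator_mem_commutator h1 ha)
        have hcommute : R.act x' * R.act (x'⁻¹ * b') = R.act (x'⁻¹ * b') * R.act x' :=
          mem_commutant.1 hC x' (hx' ▸ hx)
        have hX3 : R.act x' ^ 3 = 1 := by
          rw [← map_pow]
          exact (R.triv_iff (x' ^ 3)).1 fun a ha => by
            rw [hx']
            exact hsX.comm (commutator_mem_commutator hx3 ha)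
        have hC1 : R.act (x'⁻¹ * b') = 1 := by
          refine hsX.eq_one_of_pow_three R h3M (N + 1) _ hC ?_
          have h1 : R.act b' ^ 3 ^ N = 1 := by
            rw [← map_pow, show b' ^ 3 ^ N = 1 from Subtype.ext (by rw [hb']; exact hbpow), map_one]
          have h2 : R.act b' = R.act x' * R.act (x'⁻¹ * b') := by rw [← map_mul, mul_inv_cancel_left]
          rw [h2, (show Commute (R.act x') _ from hcommute).mul_pow] at h1
          have h4 : (R.act x' ^ 3 ^ N * R.act (x'⁻¹ * b') ^ 3 ^ N) ^ 3 = 1 := by rw [h1, one_pow]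
          rw [((show Commute (R.act x') _ from hcommute).pow_pow _ _).mul_pow, ← pow_mul, ← pow_mul, ← pow_succ,
            show R.act x' ^ 3 ^ (N + 1) = 1 by rw [pow_succ', pow_mul, hX3, one_pow], one_mul] at h4
          exact h4
        have hbx : R.act b' = R.act x' := by
          rw [show R.act b' = R.act x' * R.act (x'⁻¹ * b') by rw [← map_mul, mul_inv_cancel_left], hC1, mul_one]
        intro y hy
        have hcx : ∀ w ∈ bQ 3 X, ⁅x, w⁆ ∈ bQ 3 X := fun w hw => by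
          have := SecRep.comm_mem x' hw
          rwa [hx'] at this
        have hψc : ∀ w (hw : w ∈ bQ 3 X), Multiplicative.toAdd (ψ ⟨⁅x, w⁆, hcx w hw⟩) =
            A.mulVec (Multiplicative.toAdd (ψ ⟨w, hw⟩)) - Multiplicative.toAdd (ψ ⟨w, hw⟩) := fun w hw => by
          obtain ⟨u, hu, huv⟩ := hact ⟨x, hx⟩ ⟨w, hw⟩
          rw [hA, ← huv, show (⟨⁅x, w⁆, hcx w hw⟩ : ↥(bQ 3 X)) = u * (⟨w, hw⟩ : ↥(bQ 3 X))⁻¹ from
            Subtype.ext (show ⁅x, w⁆ = (u : G) * w⁻¹ by rw [hu, commutatorElement_def]),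
            map_mul, map_inv, toAdd_mul, toAdd_inv, sub_eq_add_neg]
        have hxx : ⁅x, ⁅x, y⁆⁆ ∈ bW 3 X := (hker ⟨_, hcx _ (hcx y hy)⟩).1 (Multiplicative.toAdd.injective (by
          rw [hψc _ (hcx y hy), hψc y hy, hA2, toAdd_one]))
        have hby : ⁅b, y⁆ ∈ bQ 3 X := by
          have := SecRep.comm_mem b' hy
          rwa [hb'] at this
        have hbby : ⁅b, ⁅b, y⁆⁆ ∈ bQ 3 X := by
          have := SecRep.comm_mem b' hby
          rwa [hb'] at this
        refine (R.pr_eq_zero _ hbby).1 ?_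
        have e1 : R.pr ⁅x, ⁅x, y⁆⁆ = 0 := (R.pr_eq_zero _ (hcx _ (hcx y hy))).2 hxx
        rw [show x = (x' : G) by rw [hx'], R.pr_comm x' (by rw [hx']; exact hcx y hy), R.pr_comm x' hy, ← hbx] at e1
        rw [show b = (b' : G) by rw [hb'], R.pr_comm b' (by rw [hb']; exact hby), R.pr_comm b' hy]
        exact e1
      · -- the field of `X` has three elements as well
        have hXek := hb.le_ek hG T hE hBN hXN hX.1 hX.2.1
        obtain ⟨φX⟩ := hisoX
        have hle8 : Nat.card ↥(commutator SL(2, Fx)) ≤ 8 := by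
          rw [← Nat.card_congr φX.toEquiv, ← card_comm_three h4.symm, ← d.range]
          refine Nat.card_le_card_of_injective (fun q => (⟨SLData.slMap hb d ⟨((q.out : ↥X) : G),
            SLData.ek_le_slSub hb d (hXek q.out.2)⟩, SLData.mem_range_of_ek hb d (hXek q.out.2)⟩ : ↥d.ρ.range))
            fun q q' h => ?_
          rw [← QuotientGroup.out_eq' q, ← QuotientGroup.out_eq' q', QuotientGroup.eq]
          have hm : SLData.slMap hb d ((⟨((q.out : ↥X) : G), SLData.ek_le_slSub hb d (hXek q.out.2)⟩ :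
              ↥(SLData.slSub hb d))⁻¹ * ⟨((q'.out : ↥X) : G), SLData.ek_le_slSub hb d (hXek q'.out.2)⟩) = 1 := by
            rw [map_mul, map_inv, inv_mul_eq_one]
            exact congrArg Subtype.val h
          obtain ⟨z, hz, hzv⟩ := CfsgLib.BaumannBlock.inf_centralizer_V_le hf hne (mem_inf.2
            ⟨mul_mem (inv_mem (q.out : ↥X).2) (q'.out : ↥X).2,
              centralizer_le hVE ((SLData.slMap_ker hb d _).1 hm)⟩)
          rwa [show z = (q.out)⁻¹ * q'.out from Subtype.ext hzv] at hz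
        have hFx3 : Fintype.card Fx = 3 := by
          have h3le : 3 ≤ Fintype.card Fx := hFx ▸ Nat.le_self_pow hn 3
          rcases h3le.lt_or_eq with h | h
          · exfalso
            rw [CfsgLib.Lie.SLUniv.sl2_commutator h, Subgroup.card_top] at hle8
            haveI : DecidableEq Fx := Classical.decEq _
            have h1 : Fintype.card Fx * Fintype.card Fx ≤ Nat.card SL(2, Fx) := by
              rw [← Nat.card_eq_fintype_card, ← Nat.card_prod]
              refine Nat.card_le_card_of_injective (fun st =>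
                CfsgLib.Lie.SL2Rel.Fam.upper st.1 * CfsgLib.Lie.SL2Rel.Fam.lower st.2) fun st st' e => ?_
              have e0 := congrArg (fun M : SL(2, Fx) => M.1 0 1) e
              have e1 := congrArg (fun M : SL(2, Fx) => M.1 1 0) e
              simp only [Matrix.SpecialLinearGroup.coe_mul] at e0 e1
              simp [CfsgLib.Lie.SL2Rel.Fam.upper, CfsgLib.Lie.SL2Rel.Fam.lower, Matrix.mul_apply, Fin.sum_univ_two] at e0 e1
              exact Prod.ext e0 e1
            have h2 := Nat.mul_le_mul h h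
            omega
          · exact h.symm
        intro y hy
        exact quad_of_card_nine hsX.toIsAbSec (by rw [sl_card hsl, hFx3]; norm_num)
          (⟨bQ_norm hbX, bW_norm hbX⟩ : b ∈ secN (bQ 3 X) (bW 3 X))
          (T.2.to_le (zpowers_le.2 (show b ∈ (T : Subgroup G) from (mem_inf.1 hbB).1))) hy
    -- quadratic modulo `Z`
    have hYquad : ∀ y ∈ Y, ⁅b, ⁅b, y⁆⁆ ∈ bZ 3 X := by
      intro y hy
      have hc : ∀ w ∈ Y, ⁅b, w⁆ ∈ Y := fun w hw => by
        rw [commutatorElement_def]; exact mul_mem (hbY w hw) (inv_mem hw)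
      obtain ⟨hyQ, -⟩ := (hYmem y).1 hy
      have hu : ⁅b, ⁅b, y⁆⁆ ∈ bW 3 X := hQquad y hyQ
      obtain ⟨v, hv, z, hz, hvz⟩ := CfsgLib.Coprime.mem_sup_exists
        (show bZ 3 X ≤ normalizer (bV 3 X : Set G) from fun z hz => bV_norm (le_normalizer (bQ_le X
          (bW_le_bQ X (mem_inf.1 hz).1))))
        ((CfsgLib.BaumannBlock.V_sup_Z hf hne).ge hu)
      have hvY : v ∈ Y := by
        have := mul_mem (hc _ (hc y hy)) (inv_mem (hZY hz))
        rwa [← hvz, mul_inv_cancel_right] at this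
      rw [← hvz, hYv v hvY (hVE hv), one_mul]
      exact hz
    refine hquad b hbB hbW ?_
    have hsec : IsAbSec (bQ 3 X) (bZ 3 X) := ⟨inf_le_left.trans (bW_le_bQ X), hQ'.le⟩
    obtain ⟨M, iM, ⟨R⟩⟩ := exists_secRep hsec
    obtain ⟨b', hb'⟩ : ∃ b' : ↥(secN (bQ 3 X) (bZ 3 X)), b' = ⟨b, bQ_norm hbX, bZ_norm hbX⟩ := ⟨_, rfl⟩
    have hcq : ∀ w ∈ bQ 3 X, ⁅b, w⁆ ∈ bQ 3 X := fun w hw => by
      have := SecRep.comm_mem b' hw
      rwa [hb'] at this
    have hpr : ∀ a ∈ bQ 3 X, R.pr ⁅b, ⁅b, a⁆⁆ =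
        R.act b' (R.act b' (R.pr a) - R.pr a) - (R.act b' (R.pr a) - R.pr a) := fun a ha => by
      rw [show b = (b' : G) by rw [hb'], R.pr_comm b' (by rw [hb']; exact hcq a ha), R.pr_comm b' ha]
    have hNN : ∀ m, R.act b' (R.act b' m - m) - (R.act b' m - m) = 0 := by
      intro m
      obtain ⟨a, ha, rfl⟩ := R.pr_surj m
      obtain ⟨v, hv, y, hy, rfl⟩ := hdec a ha
      have hyQ := ((hYmem y).1 hy).1
      have e1 := hpr v (hvQ v hv)
      rw [hvquad v hv, R.pr_one] at e1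
      have e2 := hpr y hyQ
      rw [(R.pr_eq_zero _ (hcq _ (hcq y hyQ))).2 (hYquad y hy)] at e2
      rw [R.pr_mul v (hvQ v hv) y hyQ]
      simp only [map_add, map_sub] at e1 e2 ⊢
      linear_combination (norm := abel) -e1 - e2
    let L : Subgroup G :=
      { carrier := {z | z ∈ bQ 3 X ∧ R.act b' (R.pr z) = R.pr z}
        one_mem' := ⟨one_mem _, by rw [R.pr_one, map_zero]⟩
        mul_mem' := fun {z w} hz hw => ⟨mul_mem hz.1 hw.1, by rw [R.pr_mul _ hz.1 _ hw.1, map_add, hz.2, hw.2]⟩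
        inv_mem' := fun {z} hz => ⟨inv_mem hz.1, by rw [R.pr_inv hz.1, map_neg, hz.2]⟩ }
    have hpw : ∀ (i : ℕ) (a : G), a ∈ bQ 3 X → ⁅b ^ i, a⁆ ∈ bQ 3 X ∧
        R.pr ⁅b ^ i, a⁆ = R.act (b' ^ i) (R.pr a) - R.pr a := fun i a ha => by
      have h := R.pr_comm (b' ^ i) ha
      have h' := SecRep.comm_mem (b' ^ i) ha
      rw [Subgroup.coe_pow, show (b' : G) = b by rw [hb']] at h h'
      exact ⟨h', h⟩
    have hL : ⁅bQ 3 X, zpowers b⁆ ≤ L := by
      refine commutator_le.2 fun u hu k hk => ?_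
      obtain ⟨i, rfl⟩ := mem_powers_iff_mem_zpowers.2 hk
      rw [← commutatorElement_inv (b ^ i) u]
      refine inv_mem ⟨(hpw i u hu).1, ?_⟩
      have hNp : ∀ (j : ℕ) m, R.act b' (R.act (b' ^ j) m - m) = R.act (b' ^ j) m - m := by
        intro j m
        induction j with
        | zero => simp
        | succ j ih =>
          have hN1 := hNN (R.act (b' ^ j) m)
          rw [pow_succ', map_mul, AddMonoid.End.coe_mul, Function.comp_apply]
          simp only [map_sub] at ih hN1 ⊢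
          linear_combination (norm := abel) hN1 + ih
      rw [(hpw i u hu).2]
      exact hNp i _
    refine commutator_le.2 fun u hu k hk => ?_
    obtain ⟨i, rfl⟩ := mem_powers_iff_mem_zpowers.2 hk
    obtain ⟨huQ, huf⟩ := hL hu
    rw [← commutatorElement_inv (b ^ i) u]
    refine inv_mem ((R.pr_eq_zero _ (hpw i u huQ).1).1 ?_)
    rw [(hpw i u huQ).2, sub_eq_zero]
    clear hk
    induction i with
    | zero => simp
    | succ i ih => rw [pow_succ', map_mul, AddMonoid.End.coe_mul, Function.comp_apply, ih, huf]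
  · -- `E` has an upper section
    have hX1 := hb.le_k1_sup hG T hE hX hBN hXN hmove
    have hXQn : X ≤ normalizer (qE 3 E : Set G) := fun x hx => qE_norm (hXN hx)
    obtain ⟨D, hD⟩ : ∃ D, D = qE 3 E ⊓ bQ 3 X := ⟨_, rfl⟩
    have hDN : X ≤ normalizer (D : Set G) := hD ▸ CfsgLib.Coprime.inf_le_normalizer hXQn
      fun y hy => bQ_norm (le_normalizer hy)
    have hdec : ∀ e ∈ E, ∃ x ∈ X, Triv (qE 3 E) (wE 3 E) (x⁻¹ * e) ∧
        x⁻¹ * e ∈ normalizer (E : Set G) := by
      intro e he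
      obtain ⟨x, hx, hxe⟩ := hfull e he
      refine ⟨x, hx, ?_, mul_mem (inv_mem (hXN hx)) (le_normalizer he)⟩
      obtain ⟨e', he', k, hk, hxk⟩ := CfsgLib.Coprime.mem_sup_exists k1_le (hX1 hx)
      have hkC : k ∈ centralizer (vE 3 E : Set G) := (mem_inf.1 (mem_inf.1 hk).1).2
      have h1 : e'⁻¹ * e ∈ centralizer (vE 3 E : Set G) := by
        have := mul_mem hkC hxe
        rwa [← hxk, show k * ((e' * k)⁻¹ * e) = e'⁻¹ * e by group] at this
      have h2 : Triv (qE 3 E) (wE 3 E) (e'⁻¹ * e) := hb.triv_qE_Q (hb.inf_kE_le (mul_mem (inv_mem he') he) h1)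
      rw [← hxk, show (e' * k)⁻¹ * e = k⁻¹ * (e'⁻¹ * e) by group]
      exact triv_mul (hb.secQ hex).toIsAbSec (hb.norm_secQ (inv_mem (k1_le hk)))
        (hb.norm_secQ (mul_mem (inv_mem (le_normalizer he')) (le_normalizer he))) (hb.triv_k1 (inv_mem hk)) h2
    have hME : E ≤ normalizer ((D ⊔ wE 3 E : Subgroup G) : Set G) := by
      intro e he
      obtain ⟨x, hx, hxt, hxN⟩ := hdec e he
      rw [← mul_inv_cancel_left x e]
      refine mul_mem (CfsgLib.Coprime.sup_le_normalizer hDN (fun y hy => wE_norm (hXN hy)) hx) ?_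
      have key : ∀ c, c ∈ normalizer (E : Set G) → Triv (qE 3 E) (wE 3 E) c → ∀ m ∈ D ⊔ wE 3 E, c * m * c⁻¹ ∈ D ⊔ wE 3 E :=
        fun c hc ht m hm => by
          rw [show c * m * c⁻¹ = ⁅c, m⁆ * m by rw [commutatorElement_def]; group]
          exact mul_mem (mem_sup_right (ht m (sup_le (hD ▸ inf_le_left) (wE_le E) hm))) hm
      refine mem_normalizer_iff.2 fun m => ⟨key _ hxN hxt m, fun hm => ?_⟩
      have h1 := key _ (inv_mem hxN) (fun a ha => by
        rw [show ⁅(x⁻¹ * e)⁻¹, a⁆ = (x⁻¹ * e)⁻¹ * ⁅x⁻¹ * e, a⁆⁻¹ * (x⁻¹ * e) by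
          simp only [commutatorElement_def]; group]
        exact (mem_normalizer_iff''.1 (wE_norm hxN) _).1 (inv_mem (hxt a ha))) _ hm
      simpa [mul_assoc] using h1
    have hQD : qE 3 E ≤ D ⊔ wE 3 E := by
      rcases (hb.exc hex).2.1 _ (sup_le (hD ▸ inf_le_left) (wE_le E)) le_sup_right hME with h | h
      · exfalso
        refine hb.nonfix_Q hex fun e he => ?_
        obtain ⟨x, hx, hxt, hxN⟩ := hdec e he
        have hxT : Triv (qE 3 E) (wE 3 E) x := fun a ha => h.le (mem_sup_left (hD.ge (mem_inf.2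
          ⟨by rw [commutatorElement_def]; exact mul_mem ((mem_normalizer_iff.1 (hXQn hx) a).1 ha) (inv_mem ha),
            (mem_inf.1 (comm_core_le T hX hx (qE_le_core E ha))).1⟩)))
        rw [← mul_inv_cancel_left x e]
        exact triv_mul (hb.secQ hex).toIsAbSec (hb.norm_secQ (hXN hx)) (hb.norm_secQ hxN) hxT hxt
      · exact h.ge
    have hzQ : zE 3 E ≤ bQ 3 X := by
      rw [← (hb.exc hex).2.2.1, commutator_le]
      intro a ha c hc
      have hn : D ≤ normalizer (wE 3 E : Set G) := fun y hy => wE_norm (le_normalizer (qE_le E (hD.le hy).1))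
      obtain ⟨w, hw, a', ha', rfl⟩ := CfsgLib.Coprime.mem_sup_exists hn (sup_comm D (wE 3 E) ▸ hQD ha)
      obtain ⟨w', hw', c', hc', rfl⟩ := CfsgLib.Coprime.mem_sup_exists hn (sup_comm D (wE 3 E) ▸ hQD hc)
      rw [comm_congr (fun w hw q hq => wE_comm hw hq) (hD.le ha').1 (hD.le hc').1 hw hw' (wE_le E),
        commutatorElement_def]
      exact mul_mem (mul_mem (mul_mem (hD.le ha').2 (hD.le hc').2) (inv_mem (hD.le ha').2)) (inv_mem (hD.le hc').2)
    have hQQ : qE 3 E ≤ bQ 3 X := by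
      refine hQD.trans (sup_le (hD ▸ inf_le_right) ?_)
      rw [← hb.vz]
      exact sup_le (hVeq.trans ((bV_le_bW hf).trans (bW_le_bQ X))) hzQ
    have hsup : qE 3 E ⊔ bW 3 X = bQ 3 X := (hirr _ (sup_le hQQ (bW_le_bQ X)) le_sup_right
      (CfsgLib.Coprime.sup_le_normalizer hXQn hf.normW)).resolve_left fun h => by
        refine (hb.exc hex).2.2.2 ?_
        rw [← (hb.exc hex).2.2.1, eq_bot_iff, commutator_le]
        intro a ha c hc
        rw [mem_bot, commutatorElement_eq_one_iff_mul_comm]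
        exact bW_comm_bQ (h.le (mem_sup_left hc)) (hQQ ha)
    refine hf.commQ.ge.trans (commutator_le.2 fun a ha x hx => ?_)
    obtain ⟨c, hc, w, hw, rfl⟩ := CfsgLib.Coprime.mem_sup_exists
      (show bW 3 X ≤ normalizer (qE 3 E : Set G) from fun y hy => hXQn (bQ_le X (bW_le_bQ X hy))) (hsup.ge ha)
    rw [show ⁅c * w, x⁆ = c * ⁅w, x⁆ * c⁻¹ * ⁅c, x⁆ by simp only [commutatorElement_def]; group]
    refine mul_mem (mul_mem (mul_mem hc (wE_le E (vE_le E (hVE (commutator_mem_commutator hw hx))))) (inv_mem hc)) ?_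
    exact CfsgLib.BaumannBlock.commutator_le_of_normalizes hXQn (commutator_mem_commutator hc hx)

/-- A block moving `[W, E]` lies in `E`. -/
theorem le_of_moving (hG : centralizer (Cfsg.pCore p G : Set G) ≤ Cfsg.pCore p G) (hb : SBlock p E) (T : Sylow p G)
    (hE : Cfsg.IsBaumannBlock p (T : Subgroup G) E) (hX : Cfsg.IsBaumannBlock p (T : Subgroup G) X)
    (hBN : Cfsg.baumannSubgroupOf p (T : Subgroup G) ≤ normalizer (E : Set G))
    (hXN : X ≤ normalizer (E : Set G)) (hmove : ¬ X ≤ centralizer (vE p E : Set G)) : X ≤ E := by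
  have hf := CfsgLib.BaumannBlock.blockFacts hX
  have hVE := hb.bV_le_vE T hX hXN hmove
  refine hb.le_of_core hG hX.1 (hb.le_k1_sup hG T hE hX hBN hXN hmove) fun x hx q hq => ?_
  by_cases hQW : bQ p X = bW p X
  · exact wE_le E (vE_le E (hVE ((bV_eq_bQ hf hQW).ge (mem_inf.1 (comm_core_le T hX hx hq)).1)))
  obtain ⟨R, hR⟩ : ∃ R, R = bQ p X ⊓ Cfsg.pCore p G := ⟨_, rfl⟩
  have hRN : X ≤ normalizer (R : Set G) := hR ▸ CfsgLib.Coprime.inf_le_normalizer
    (fun y hy => bQ_norm (le_normalizer hy))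
    (by rw [normalizer_eq_top_iff.2 (CfsgLib.Coprime.pCore_normal' p)]; exact le_top)
  obtain ⟨-, -, -, hirr, -, -⟩ := exc_data hX hQW
  rcases hirr (R ⊔ bW p X) (sup_le (hR ▸ inf_le_left) (bW_le_bQ X)) le_sup_right
    (CfsgLib.Coprime.sup_le_normalizer hRN hf.normW) with h | h
  · refine wE_le E (vE_le E (hVE (comm_mem_bV hf (fun y hy => ?_) hx)))
    exact h.le (mem_sup_left (hR.ge (comm_core_le T hX hy hq)))
  · have hQc : bQ p X ≤ Cfsg.pCore p G := by
      refine le_trans (hf.commQ.ge.trans (commutator_le.2 fun a ha y hy => ?_) : bQ p X ≤ R) (hR.le.trans inf_le_right)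
      obtain ⟨r, hr, w, hw, rfl⟩ := CfsgLib.Coprime.mem_sup_exists
        (show bW p X ≤ normalizer (R : Set G) from fun z hz => hRN (bQ_le X (bW_le_bQ X hz))) (h.ge ha)
      rw [show ⁅r * w, y⁆ = r * ⁅w, y⁆ * r⁻¹ * ⁅r, y⁆ by simp only [commutatorElement_def]; group]
      have hv := commutator_mem_commutator hw hy
      exact mul_mem (mul_mem (mul_mem hr (hR.ge (mem_inf.2 ⟨bW_le_bQ X (bV_le_bW hf hv),
        vG_le (hb.vV (hVE hv))⟩))) (inv_mem hr))
        (CfsgLib.BaumannBlock.commutator_le_of_normalizes hRN (commutator_mem_commutator hr hy))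
    exact hb.bQ_le_qE hG T hE hX hBN hXN hmove hQW hQc (mem_inf.1 (comm_core_le T hX hx hq)).1

end SBlock

end CfsgLib.SubBlock
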