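import Cfsg.Agent.Lib.Char.SubBlock.Make
import Cfsg.Agent.Lib.Char.SubBlock.Commute

/-!
# The kernel of the action on the natural section
-/

set_option autoImplicit false
set_option linter.unusedSectionVars false
set_option linter.style.haveILetI false

open Subgroup
open scoped commutatorElement

namespace CfsgLib.SubBlock

universe u
variable {G : Type u} [Group G] [Finite G] {p : ℕ} [hp : Fact p.Prime] {E : Subgroup G}

attribute [local instance] CfsgLib.Coprime.pCore_normal'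

theorem triv_conj {A A₀ : Subgroup G} {g x : G} (hg : g ∈ secN A A₀) (hx : Triv A A₀ x) :
    Triv A A₀ (g * x * g⁻¹) := by
  intro a ha
  have ha' : g⁻¹ * a * g ∈ A := (mem_normalizer_iff''.1 hg.1 a).1 ha
  rw [show ⁅g * x * g⁻¹, a⁆ = g * ⁅x, g⁻¹ * a * g⁆ * g⁻¹ by simp only [commutatorElement_def]; group]
  exact (mem_normalizer_iff.1 hg.2 _).1 (hx _ ha')

namespace SBlock

/-- An element of `E` acting trivially on `W / Z` lies in `O_p(E)`. -/
theorem triv_le_qE (hb : SBlock p E) {x : G} (hx : x ∈ E) (ht : Triv (wE p E) (zE p E) x) : x ∈ qE p E := by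
  obtain ⟨K, hK⟩ : ∃ K, K = closure {g : G | g ∈ E ∧ Triv (wE p E) (zE p E) g} := ⟨_, rfl⟩
  have hKE : K ≤ E := hK ▸ (closure_le _).2 fun g hg => hg.1
  have hKt : ∀ g ∈ K, Triv (wE p E) (zE p E) g := fun g hg =>
    triv_mem_closure hb.secW.toIsAbSec (fun z hz => hb.secW.nE hz.1) (fun z hz => hz.2) (hK ▸ hg)
  have hN : E ≤ normalizer (K : Set G) := fun e he => by
    refine CfsgLib.Fusion.conjBy_eq_iff.1 (CfsgLib.Fusion.conjBy_eq_of_le ?_)
    rw [CfsgLib.Fusion.conjBy, hK, MonoidHom.map_closure]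
    refine closure_mono ?_
    rintro _ ⟨g, ⟨hg, hgt⟩, rfl⟩
    exact ⟨mul_mem (mul_mem he hg) (inv_mem he), triv_conj (hb.secW.nE he) hgt⟩
  have hKp : IsPGroup p ↥K := by
    intro k
    obtain ⟨a, b, hb', hab⟩ :=
      Nat.exists_eq_pow_mul_and_not_dvd (orderOf_pos (k : G)).ne' p hp.out.ne_one
    refine ⟨a, Subtype.ext ?_⟩
    show (k : G) ^ p ^ a = 1
    have ho : (orderOf ((k : G) ^ p ^ a)).Coprime p := by
      rw [orderOf_pow' _ (pow_ne_zero a hp.out.ne_zero), hab, Nat.gcd_eq_right (Dvd.intro _ rfl),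
        Nat.mul_div_cancel_left _ (Nat.pow_pos hp.out.pos)]
      exact Nat.coprime_comm.1 (hp.out.coprime_iff_not_dvd.2 hb')
    obtain ⟨y, hy, hyk⟩ : ∃ y ∈ K, (k : G) ^ p ^ a = y := ⟨_, pow_mem k.2 _, rfl⟩
    rw [hyk] at ho ⊢
    have hyW : y ∈ centralizer (wE p E : Set G) := mem_centralizer_iff.2 fun w hw =>
      (fix_of_chain ((isPGroup_qE E).to_le ((zE_le E).trans (wE_le E))) ho
        (mem_centralizer_iff.2 fun z hz => (mem_centralizer_iff.1 (mem_inf.1 hz).2 y (hKE hy)).symm)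
        (hKt y hy) hw).symm
    have hyc : y ∈ Cfsg.pCore p G := hb.ker ⟨hKE hy, centralizer_le (fun v hv => vE_le E hv) hyW⟩
    obtain ⟨c, hc⟩ := CfsgLib.Coprime.pCore_isPGroup p ⟨y, hyc⟩
    exact orderOf_eq_one_iff.1 (Nat.eq_one_of_dvd_coprimes (Nat.Coprime.pow_right c ho) dvd_rfl
      (orderOf_dvd_of_pow_eq_one (congrArg Subtype.val hc)))
  rw [← pCoreOf_eq hb.sn]
  exact CfsgLib.JComp.le_pCoreOf hKE hKp hN (hK ▸ subset_closure ⟨hx, ht⟩)

/-- The commutators of `E` with an element acting trivially lie in `O_p(E)`. -/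
theorem comm_le_qE_of_triv (hb : SBlock p E) {x : G} (hx : x ∈ normalizer (E : Set G))
    (ht : Triv (wE p E) (zE p E) x) {e : G} (he : e ∈ E) : ⁅x, e⁆ ∈ qE p E := by
  have hmem : ⁅x, e⁆ ∈ E := by
    rw [commutatorElement_def]
    exact mul_mem ((mem_normalizer_iff.1 hx e).1 he) (inv_mem he)
  refine hb.triv_le_qE hmem ?_
  obtain ⟨M, i, ⟨R⟩⟩ := exists_secRep hb.secW.toIsAbSec
  have h1 := (R.triv_iff ⟨x, hb.norm_secW hx⟩).1 ht
  refine (R.triv_iff ⁅(⟨x, hb.norm_secW hx⟩ : ↥(secN (wE p E) (zE p E))), ⟨e, hb.secW.nE he⟩⁆).2 ?_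
  rw [commutatorElement_def, map_mul, map_mul, map_mul, h1, one_mul,
    ← one_mul (R.act (⟨x, hb.norm_secW hx⟩ : ↥(secN (wE p E) (zE p E)))⁻¹)]
  conv_lhs => enter [1, 2, 1]; rw [← h1]
  rw [← map_mul, mul_inv_cancel, map_one, mul_one, ← map_mul, mul_inv_cancel, map_one]

/-- An element normalising `E` and trivial on `W / Z` centralises `[W, E]`. -/
theorem cent_vE_of_triv (hb : SBlock p E) {x : G} (hx : x ∈ normalizer (E : Set G))
    (ht : Triv (wE p E) (zE p E) x) : x ∈ centralizer (vE p E : Set G) := by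
  suffices h : vE p E ≤ centralizer ({x} : Set G) from
    mem_centralizer_iff.2 fun v hv => (mem_centralizer_iff.1 (h hv) x rfl).symm
  refine commutator_le.2 fun w hw e he => mem_centralizer_singleton_iff.2 (Eq.symm ?_)
  rw [← mul_inv_eq_iff_eq_mul]
  have hr := hb.comm_le_qE_of_triv hx ht he
  have hz : ⁅x, w⁆ ∈ zE p E := ht w hw
  obtain ⟨r, hr'⟩ : ∃ r, r = ⁅x, e⁆ := ⟨_, rfl⟩
  obtain ⟨z, hz'⟩ : ∃ z, z = ⁅x, w⁆ := ⟨_, rfl⟩
  rw [← hr'] at hr
  rw [← hz'] at hz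
  have hzr : z * (r * e) = r * e * z :=
    (mem_centralizer_iff.1 (mem_inf.1 hz).2 _ (mul_mem (qE_le E hr) he)).symm
  have hew : e * w⁻¹ * e⁻¹ ∈ wE p E := (mem_normalizer_iff.1 (wE_norm (le_normalizer he)) _).1 (inv_mem hw)
  have hzw : z * w = w * z := wE_comm hw (wE_le E (zE_le E hz))
  calc x * ⁅w, e⁆ * x⁻¹ = ⁅z * w, r * e⁆ := by rw [hr', hz']; simp only [commutatorElement_def]; group
    _ = z * w * (r * e) * w⁻¹ * z⁻¹ * (e⁻¹ * r⁻¹) := by simp only [commutatorElement_def]; group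
    _ = w * (z * (r * e)) * w⁻¹ * z⁻¹ * (e⁻¹ * r⁻¹) := by rw [hzw]; group
    _ = w * r * e * (z * w⁻¹) * z⁻¹ * (e⁻¹ * r⁻¹) := by rw [hzr]; group
    _ = w * r * e * (w⁻¹ * z) * z⁻¹ * (e⁻¹ * r⁻¹) := by
        rw [show z * w⁻¹ = w⁻¹ * z from (show Commute z w from hzw).inv_right.eq]
    _ = w * (r * (e * w⁻¹ * e⁻¹)) * r⁻¹ := by group
    _ = w * (e * w⁻¹ * e⁻¹ * r) * r⁻¹ := by rw [wE_comm hew hr]
    _ = ⁅w, e⁆ := by simp only [commutatorElement_def]; group

/-- An element centralising `[W, E]` and normalising `E` is trivial on `W / Z`. -/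
theorem triv_of_cent_vE (hb : SBlock p E) {x : G} (hx : x ∈ normalizer (E : Set G))
    (hc : x ∈ centralizer (vE p E : Set G)) : Triv (wE p E) (zE p E) x := by
  intro w hw
  rw [← hb.vz] at hw
  obtain ⟨v, hv, z, hz, rfl⟩ := CfsgLib.Coprime.mem_sup_exists
    (show zE p E ≤ normalizer (vE p E : Set G) from fun z hz => vE_norm (le_normalizer (wE_le_E E (zE_le E hz)))) hw
  have hxz : x * z * x⁻¹ ∈ zE p E := (mem_normalizer_iff.1 (zE_norm hx) z).1 hz
  rw [show ⁅x, v * z⁆ = (x * v * x⁻¹) * (x * z * x⁻¹ * z⁻¹) * v⁻¹ by simp only [commutatorElement_def]; group,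
    mul_inv_eq_iff_eq_mul.2 ((mem_centralizer_iff.1 hc v hv).symm),
    wE_comm (zE_le E (mul_mem hxz (inv_mem hz))) (wE_le E (vE_le E hv)), mul_inv_cancel_right]
  exact mul_mem hxz (inv_mem hz)

theorem triv_iff_cent_vE (hb : SBlock p E) {x : G} (hx : x ∈ normalizer (E : Set G)) :
    Triv (wE p E) (zE p E) x ↔ x ∈ centralizer (vE p E : Set G) :=
  ⟨hb.cent_vE_of_triv hx, hb.triv_of_cent_vE hx⟩

end SBlock

end CfsgLib.SubBlock
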