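import Cfsg.Agent.Lib.Char.SubBlock.Main
import Cfsg.Agent.Lib.Char.SubBlock.Dual
import Cfsg.Agent.Lib.PGroup.ElementaryBasic

/-!
# Elementary abelian subgroups of largest order normalise subnormal blocks
-/

set_option autoImplicit false
set_option linter.unusedSectionVars false
set_option linter.style.haveILetI false
set_option maxHeartbeats 1000000

open Subgroup
open scoped commutatorElement

namespace CfsgLib.SubBlock

universe u
variable {G : Type u} [Group G] [Finite G] {p : ℕ} [hp : Fact p.Prime]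

attribute [local instance] CfsgLib.Coprime.pCore_normal'

open CfsgLib.Fusion (IsMaxEA)

/-- Every `p`-subgroup normalising `E` normalises a large subgroup of `[W, E]` meeting `C(E)` trivially. -/
def HasLift (p : ℕ) (E : Subgroup G) : Prop :=
  ∀ P : Subgroup G, IsPGroup p ↥P → P ≤ normalizer (E : Set G) →
    ∃ L : Subgroup G, L ≤ vE p E ∧ P ≤ normalizer (L : Set G) ∧ L ⊓ zE p E = ⊥ ∧ p < Nat.card ↥L

theorem vE_central_cjS (hG : centralizer (Cfsg.pCore p G : Set G) ≤ Cfsg.pCore p G) {E : Subgroup G}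
    (hb : SBlock p E) {g : G} (hg : g ∉ normalizer (E : Set G)) {x e : G} (hx : x ∈ vE p E) (he : e ∈ E) :
    e * (g * x * g⁻¹) = g * x * g⁻¹ * e := by
  rcases SBlock.eq_or_commute' hG hb (hb.conj g) with h | h
  · refine absurd (CfsgLib.Fusion.conjBy_eq_iff.1 ?_) hg
    exact h.symm
  · exact CfsgLib.BaumannBlock.commute_of_commutator_eq_bot h he (conj_mem_cjS (wE_le_E E (vE_le E hx)))

namespace SBlock

variable {E : Subgroup G}

/-- Elements of `L` are determined by their commutators with `E`. -/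
theorem eq_of_comm_eq {L : Subgroup G} (hL : L ≤ vE p E) (hLz : L ⊓ zE p E = ⊥) {x y : G} (hx : x ∈ L) (hy : y ∈ L)
    (h : ∀ e ∈ E, ⁅e, x⁆ = ⁅e, y⁆) : x = y := by
  have hz : y⁻¹ * x ∈ L ⊓ zE p E := by
    refine mem_inf.2 ⟨mul_mem (inv_mem hy) hx, vE_le E (hL (mul_mem (inv_mem hy) hx)),
      mem_centralizer_iff.2 fun e he => ?_⟩
    have h1 : ⁅e, x⁆ = ⁅e, y⁆ := h e he
    have hc : ∀ a ∈ wE p E, ∀ b ∈ wE p E, a * b = b * a := fun a ha b hb => wE_comm hb (wE_le E ha)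
    have hxW := vE_le E (hL hx)
    have hyW := vE_le E (hL hy)
    rw [← mul_inv_eq_iff_eq_mul]
    have h2 : e * x * e⁻¹ = ⁅e, y⁆ * x := by rw [← h1, commutatorElement_def]; group
    calc e * (y⁻¹ * x) * e⁻¹ = (e * y * e⁻¹)⁻¹ * (e * x * e⁻¹) := by group
      _ = (⁅e, y⁆ * y)⁻¹ * (⁅e, y⁆ * x) := by rw [h2, commutatorElement_def]; group
      _ = y⁻¹ * x := by group
  rw [hLz, mem_bot, inv_mul_eq_one] at hz
  exact hz.symm

/-- The key count for an orbit of blocks under an elementary abelian group of largest order. -/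
theorem orbit_bound (hG : centralizer (Cfsg.pCore p G : Set G) ≤ Cfsg.pCore p G) (hb : SBlock p E) {T A : Subgroup G}
    (hA : IsMaxEA p T A) (hcore : Cfsg.pCore p G ≤ T) {L C X : Subgroup G} (hL : L ≤ vE p E)
    (hAL : A ⊓ normalizer (E : Set G) ≤ normalizer (L : Set G)) (hLz : L ⊓ zE p E = ⊥)
    (hC : C ≤ A ⊓ normalizer (E : Set G)) (hX : X ≤ L) (hCX : C ≤ centralizer (X : Set G)) :
    Nat.card ↥C * Nat.card ↥X ^ Nat.card (↥A ⧸ (A ⊓ normalizer (E : Set G)).subgroupOf A) ≤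
      Nat.card ↥A * Nat.card ↥(L ⊓ centralizer ((A ⊓ normalizer (E : Set G) : Subgroup G) : Set G)) := by
  classical
  obtain ⟨A₀, hA₀⟩ : ∃ A₀, A₀ = A ⊓ normalizer (E : Set G) := ⟨_, rfl⟩
  rw [← hA₀] at hAL hC ⊢
  have hA₀A : A₀ ≤ A := hA₀ ▸ inf_le_left
  haveI := Fintype.ofFinite (↥A ⧸ A₀.subgroupOf A)
  have hAc : ∀ a ∈ A, ∀ b ∈ A, a * b = b * a := fun a ha b hb' =>
    congrArg Subtype.val (hA.2.1.1.is_comm.comm (⟨a, ha⟩ : ↥A) ⟨b, hb'⟩)
  let r : ↥A ⧸ A₀.subgroupOf A → G := fun q => ((q.out : ↥A) : G)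
  have hrA : ∀ q, r q ∈ A := fun q => (q.out : ↥A).2
  have hr : ∀ q q', q ≠ q' → (r q)⁻¹ * r q' ∉ normalizer (E : Set G) := by
    intro q q' hqq hn
    refine hqq ?_
    rw [← QuotientGroup.out_eq' q, ← QuotientGroup.out_eq' q', QuotientGroup.eq]
    exact mem_subgroupOf.2 (hA₀.ge (mem_inf.2 ⟨mul_mem (inv_mem (hrA q)) (hrA q'), hn⟩))
  let iV : CommGroup ↥(vG G p) :=
    { (inferInstance : Group ↥(vG G p)) with
      mul_comm := fun a b => Subtype.ext (vG_comm b.2 (vG_le a.2)) }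
  have hXV : ∀ q, ∀ x : ↥X, r q * (x : G) * (r q)⁻¹ ∈ vG G p := fun q x => vG_conj _ (hb.vV (hL (hX x.2)))
  let Φ : ((↥A ⧸ A₀.subgroupOf A) → ↥X) →* G := (vG G p).subtype.comp (MonoidHom.mk'
    (fun n => ∏ q, (⟨r q * (n q : G) * (r q)⁻¹, hXV q (n q)⟩ : ↥(vG G p))) fun n m => by
      rw [← Finset.prod_mul_distrib]
      refine Finset.prod_congr rfl fun q _ => Subtype.ext ?_
      show r q * ((n q : G) * (m q : G)) * (r q)⁻¹ = r q * (n q : G) * (r q)⁻¹ * (r q * (m q : G) * (r q)⁻¹)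
      group)
  -- the component at `q`
  have hcomp : ∀ n q, ∀ e ∈ E, ⁅e, (r q)⁻¹ * Φ n * r q⁆ = ⁅e, (n q : G)⁆ := by
    intro n q e he
    obtain ⟨rest, hrest⟩ : ∃ rest : ↥(vG G p), rest = ∏ q' ∈ Finset.univ.erase q,
        (⟨r q' * (n q' : G) * (r q')⁻¹, hXV q' (n q')⟩ : ↥(vG G p)) := ⟨_, rfl⟩
    have hΦ : Φ n = r q * (n q : G) * (r q)⁻¹ * rest := by
      have h := Finset.mul_prod_erase Finset.univ
        (fun q' => (⟨r q' * (n q' : G) * (r q')⁻¹, hXV q' (n q')⟩ : ↥(vG G p))) (Finset.mem_univ q)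
      rw [← hrest] at h
      exact (congrArg Subtype.val h).symm
    have hc : e * ((r q)⁻¹ * rest * r q) = (r q)⁻¹ * rest * r q * e := by
      let K : Subgroup ↥(vG G p) :=
        (centralizer ({r q * e * (r q)⁻¹} : Set G)).comap (vG G p).subtype
      have hK : rest ∈ K := by
        rw [hrest]
        refine Subgroup.prod_mem _ fun q' hq' => ?_
        show r q' * (n q' : G) * (r q')⁻¹ ∈ centralizer ({r q * e * (r q)⁻¹} : Set G)
        refine mem_centralizer_singleton_iff.2 ?_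
        have h := vE_central_cjS hG hb (hr q q' (Finset.ne_of_mem_erase hq').symm) (hL (hX (n q').2)) he
        calc r q' * (n q' : G) * (r q')⁻¹ * (r q * e * (r q)⁻¹)
            = r q * ((r q)⁻¹ * r q' * (n q' : G) * ((r q)⁻¹ * r q')⁻¹ * e) * (r q)⁻¹ := by group
          _ = r q * (e * ((r q)⁻¹ * r q' * (n q' : G) * ((r q)⁻¹ * r q')⁻¹)) * (r q)⁻¹ := by rw [h]
          _ = r q * e * (r q)⁻¹ * (r q' * (n q' : G) * (r q')⁻¹) := by group
      have h := mem_centralizer_singleton_iff.1 (show (rest : G) ∈ centralizer ({r q * e * (r q)⁻¹} : Set G) from hK)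
      calc e * ((r q)⁻¹ * rest * r q) = (r q)⁻¹ * (r q * e * (r q)⁻¹ * rest) * r q := by group
        _ = (r q)⁻¹ * (rest * (r q * e * (r q)⁻¹)) * r q := by rw [h]
        _ = (r q)⁻¹ * rest * r q * e := by group
    rw [hΦ, show (r q)⁻¹ * (r q * (n q : G) * (r q)⁻¹ * rest) * r q = (n q : G) * ((r q)⁻¹ * rest * r q) by group]
    simp only [commutatorElement_def]
    calc e * ((n q : G) * ((r q)⁻¹ * rest * r q)) * e⁻¹ * ((n q : G) * ((r q)⁻¹ * rest * r q))⁻¹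
        = e * (n q : G) * e⁻¹ * (e * ((r q)⁻¹ * rest * r q) * e⁻¹ * ((r q)⁻¹ * rest * r q)⁻¹) * (n q : G)⁻¹ := by group
      _ = e * (n q : G) * e⁻¹ * (n q : G)⁻¹ := by rw [hc]; group
  have hinj : Function.Injective Φ := (injective_iff_map_eq_one Φ).2 fun n hn => funext fun q => Subtype.ext <|
    eq_of_comm_eq hL hLz (hX (n q).2) (one_mem L) fun e he => by
      rw [← hcomp n q e he, hn, mul_one, inv_mul_cancel]
      rfl
  obtain ⟨P, hP⟩ : ∃ P, P = Φ.range := ⟨_, rfl⟩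
  have hPc : Nat.card ↥P = Nat.card ↥X ^ Nat.card (↥A ⧸ A₀.subgroupOf A) := by
    rw [hP, ← Nat.card_congr (MonoidHom.ofInjective hinj).toEquiv, Nat.card_fun]
  have hPV : P ≤ vG G p := by rw [hP]; rintro _ ⟨n, rfl⟩; exact SetLike.coe_mem _
  have hCA : C ≤ A := hC.trans hA₀A
  have hCP : C ≤ centralizer (P : Set G) := by
    intro c hc
    refine mem_centralizer_iff.2 fun g hg => ?_
    rw [hP] at hg
    obtain ⟨n, rfl⟩ := hg
    have hmem : ∀ q, r q * (n q : G) * (r q)⁻¹ ∈ centralizer ({c} : Set G) := fun q => by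
      refine mem_centralizer_singleton_iff.2 ?_
      have h1 := mem_centralizer_iff.1 (hCX hc) _ (n q).2
      calc r q * (n q : G) * (r q)⁻¹ * c = r q * (n q : G) * ((r q)⁻¹ * c) := by group
        _ = r q * (n q : G) * (c * (r q)⁻¹) := by rw [hAc _ (inv_mem (hrA q)) c (hCA hc)]
        _ = r q * ((n q : G) * c) * (r q)⁻¹ := by group
        _ = r q * c * (n q : G) * (r q)⁻¹ := by rw [h1]; group
        _ = c * r q * (n q : G) * (r q)⁻¹ := by rw [hAc c (hCA hc) _ (hrA q)]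
        _ = c * (r q * (n q : G) * (r q)⁻¹) := by group
    let K : Subgroup ↥(vG G p) := (centralizer ({c} : Set G)).comap (vG G p).subtype
    have : (∏ q, (⟨r q * (n q : G) * (r q)⁻¹, hXV q (n q)⟩ : ↥(vG G p))) ∈ K :=
      Subgroup.prod_mem _ fun q _ => hmem q
    exact mem_centralizer_singleton_iff.1 this
  have hCe : Cfsg.IsElementaryAbelian p C :=
    ⟨⟨⟨fun a b => Subtype.ext (hAc a (hCA a.2) b (hCA b.2))⟩⟩, fun a ha => hA.2.1.2 a (hCA ha)⟩
  have hPe : Cfsg.IsElementaryAbelian p P :=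
    ⟨⟨⟨fun a b => Subtype.ext (vG_comm (hPV b.2) (vG_le (hPV a.2)))⟩⟩, fun a ha => vG_pow (hPV ha)⟩
  have hCPe : Cfsg.IsElementaryAbelian p (C ⊔ P : Subgroup G) :=
    CfsgLib.EABasic.isElementaryAbelian_sup hCe hPe fun a ha b hb' => (mem_centralizer_iff.1 (hCP ha) b hb').symm
  have hle := hA.2.2 _ (sup_le (hCA.trans hA.1) (hPV.trans (vG_le.trans hcore))) hCPe
  have hcard := CfsgLib.EABasic.card_sup_mul_card_inf_of_le_normalizer (H := C) (N := P)
    (hCP.trans (centralizer_le_normalizer _))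
  -- the fixed members
  have hint : Nat.card ↥(C ⊓ P) ≤ Nat.card ↥(L ⊓ centralizer (A₀ : Set G)) := by
    obtain ⟨q₀⟩ : Nonempty (↥A ⧸ A₀.subgroupOf A) := ⟨((1 : ↥A) : ↥A ⧸ A₀.subgroupOf A)⟩
    have key : ∀ n, Φ n ∈ A → (∀ q, n q = n q₀) ∧ (n q₀ : G) ∈ L ⊓ centralizer (A₀ : Set G) := by
      intro n hn
      have h0 : ∀ q, ∀ e ∈ E, ⁅e, Φ n⁆ = ⁅e, (n q : G)⁆ := fun q e he => by
        rw [← hcomp n q e he, show (r q)⁻¹ * Φ n * r q = Φ n by
          rw [hAc _ (inv_mem (hrA q)) _ hn, mul_assoc, inv_mul_cancel, mul_one]]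
      refine ⟨fun q => Subtype.ext (eq_of_comm_eq hL hLz (hX (n q).2) (hX (n q₀).2) fun e he =>
        (h0 q e he).symm.trans (h0 q₀ e he)), hX (n q₀).2, mem_centralizer_iff.2 fun a ha => ?_⟩
      have ha' : a ∈ A ⊓ normalizer (E : Set G) := hA₀ ▸ ha
      refine mul_inv_eq_iff_eq_mul.1 (eq_of_comm_eq hL hLz ((mem_normalizer_iff.1 (hAL ha) _).1 (hX (n q₀).2))
        (hX (n q₀).2) fun e he => ?_)
      have he' : a⁻¹ * e * a ∈ E := (mem_normalizer_iff''.1 ha'.2 e).1 he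
      calc ⁅e, a * (n q₀ : G) * a⁻¹⁆ = a * ⁅a⁻¹ * e * a, (n q₀ : G)⁆ * a⁻¹ := by
            simp only [commutatorElement_def]; group
        _ = a * ⁅a⁻¹ * e * a, Φ n⁆ * a⁻¹ := by rw [h0 q₀ _ he']
        _ = ⁅e, a * Φ n * a⁻¹⁆ := by simp only [commutatorElement_def]; group
        _ = ⁅e, (n q₀ : G)⁆ := by rw [hAc a ha'.1 _ hn, mul_inv_cancel_right, h0 q₀ e he]
    have hmem : ∀ g : ↥(C ⊓ P), ∃ n, Φ n = (g : G) := fun g => by
      obtain ⟨n, hn⟩ := hP.le g.2.2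
      exact ⟨n, hn⟩
    choose nn hnn using hmem
    refine Nat.card_le_card_of_injective (fun g => (⟨(nn g q₀ : G), (key (nn g) (by rw [hnn g]; exact hCA g.2.1)).2⟩ :
      ↥(L ⊓ centralizer (A₀ : Set G)))) fun g g' hgg => Subtype.ext ?_
    rw [← hnn g, ← hnn g']
    refine congrArg Φ (funext fun q => ?_)
    rw [(key (nn g) (by rw [hnn g]; exact hCA g.2.1)).1 q, (key (nn g') (by rw [hnn g']; exact hCA g'.2.1)).1 q]
    exact Subtype.ext (congrArg (fun z : ↥(L ⊓ centralizer (A₀ : Set G)) => (z : G)) hgg)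
  rw [← hPc, ← hcard]
  exact Nat.mul_le_mul hle hint

/-- An elementary abelian subgroup of largest order of a Sylow subgroup normalises `E`. -/
theorem maxEA_le_normalizer (hG : centralizer (Cfsg.pCore p G : Set G) ≤ Cfsg.pCore p G) (hb : SBlock p E)
    (hlift : HasLift p E) (T : Sylow p G) {A : Subgroup G} (hA : IsMaxEA p (T : Subgroup G) A) :
    A ≤ normalizer (E : Set G) := by
  obtain ⟨A₀, hA₀⟩ : ∃ A₀, A₀ = A ⊓ normalizer (E : Set G) := ⟨_, rfl⟩
  by_contra hne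
  have hAp : IsPGroup p ↥A := T.2.to_le hA.1
  have hA₀p : IsPGroup p ↥A₀ := hAp.to_le (hA₀ ▸ inf_le_left)
  obtain ⟨L, hL, hAL, hLz, hLc⟩ := hlift A₀ hA₀p (hA₀ ▸ inf_le_right)
  have hLp : IsPGroup p ↥L := (CfsgLib.Coprime.pCore_isPGroup p).to_le (hL.trans (hb.vV.trans vG_le))
  have hLne : L ≠ ⊥ := fun h => by rw [h, card_bot] at hLc; exact absurd hLc (not_lt.2 hp.out.one_lt.le)
  obtain ⟨X, hX⟩ : ∃ X, X = L ⊓ centralizer (A₀ : Set G) := ⟨_, rfl⟩
  obtain ⟨t, ht, hto, htA⟩ := CfsgLib.Invol.exists_fixed_of_normalized hA₀p hLp hLne hAL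
  have hXp : p ≤ Nat.card ↥X := by
    rw [← hto, ← Nat.card_zpowers]
    refine card_le_of_le (zpowers_le.2 ?_)
    rw [hX]
    exact ⟨ht, mem_centralizer_iff.2 fun a ha => mem_centralizer_singleton_iff.1 (htA ha)⟩
  obtain ⟨k, hk⟩ : ∃ k, k = Nat.card (↥A ⧸ A₀.subgroupOf A) := ⟨_, rfl⟩
  have hAk : Nat.card ↥A = k * Nat.card ↥A₀ := by
    rw [hk, card_eq_card_quotient_mul_card_subgroup (A₀.subgroupOf A),
      Nat.card_congr (subgroupOfEquivOfLe (hA₀ ▸ inf_le_left : A₀ ≤ A)).toEquiv]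
  have hk1 : 2 ≤ k := by
    by_contra h
    have h1 : Nat.card ↥A ≤ Nat.card ↥A₀ := by
      rw [hAk]; exact (Nat.mul_le_mul_right _ (by omega : k ≤ 1)).trans (one_mul _).le
    exact hne ((eq_of_le_of_card_ge (hA₀ ▸ inf_le_left : A₀ ≤ A) h1).ge.trans (hA₀ ▸ inf_le_right))
  have hcore : Cfsg.pCore p G ≤ (T : Subgroup G) := CfsgLib.Coprime.pCore_le_sylow T
  -- first count
  have b1 := orbit_bound hG hb hA hcore hL (hA₀ ▸ hAL) hLz (C := A₀) hA₀.le (X := X) (hX.le.trans inf_le_left)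
    (le_centralizer_iff.1 (hX.le.trans inf_le_right))
  rw [← hA₀, ← hk, ← hX, hAk] at b1
  have b2 : Nat.card ↥X ^ k ≤ k * Nat.card ↥X := Nat.le_of_mul_le_mul_left
    (b1.trans_eq (by ring : k * Nat.card ↥A₀ * Nat.card ↥X = Nat.card ↥A₀ * (k * Nat.card ↥X))) Nat.card_pos
  have hk2 : k = 2 := by
    by_contra h
    obtain ⟨j, rfl⟩ : ∃ j, k = j + 3 := ⟨k - 3, by omega⟩
    have h1 : Nat.card ↥X ^ (j + 2) ≤ j + 3 := by
      rw [pow_succ] at b2
      exact Nat.le_of_mul_le_mul_right b2 Nat.card_pos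
    have h2 : 2 ^ (j + 2) ≤ Nat.card ↥X ^ (j + 2) := Nat.pow_le_pow_left (hp.out.two_le.trans hXp) _
    have h3 : j + 1 ≤ 2 ^ j := Nat.lt_two_pow_self
    rw [pow_succ, pow_succ] at h2
    omega
  subst hk2
  have hX2 : Nat.card ↥X ≤ 2 := by
    rw [pow_two] at b2
    exact Nat.le_of_mul_le_mul_right b2 Nat.card_pos
  have hp2 : p = 2 := le_antisymm (hXp.trans hX2) hp.out.two_le
  -- second count
  have hA₀c : ∀ a ∈ A₀, ∀ b ∈ A₀, a * b = b * a := fun a ha b hb' =>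
    congrArg Subtype.val (hA.2.1.1.is_comm.comm (⟨a, (hA₀.le ha).1⟩ : ↥A) ⟨b, (hA₀.le hb').1⟩)
  have hLc' : ∀ a ∈ L, ∀ b ∈ L, a * b = b * a := fun a ha b hb' =>
    vG_comm (hb.vV (hL hb')) (vG_le (hb.vV (hL ha)))
  have b3 := card_lt_of_fixed_le (p := p) hA₀p hA₀c hLp hLc' hLne hAL (by rw [← hX, hp2]; exact hX2)
  obtain ⟨C, hC⟩ : ∃ C, C = A₀ ⊓ centralizer (L : Set G) := ⟨_, rfl⟩
  have b4 := orbit_bound hG hb hA hcore hL (hA₀ ▸ hAL) hLz (C := C) (by rw [hC, ← hA₀]; exact inf_le_left)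
    (X := L) le_rfl (hC.le.trans inf_le_right)
  rw [← hA₀, ← hk, ← hX, hAk] at b4
  rw [← hC] at b3
  obtain ⟨l, hl⟩ := hLp.exists_card_eq
  rw [hp2] at hl hLc
  have hl2 : 4 ≤ Nat.card ↥L := by
    rw [hl] at hLc ⊢
    rcases Nat.lt_or_ge l 2 with h | h
    · interval_cases l <;> simp at hLc
    · exact (Nat.pow_le_pow_right two_pos h).trans' (by norm_num)
  have h5 : Nat.card ↥C * Nat.card ↥L * Nat.card ↥L < 4 * (Nat.card ↥L * Nat.card ↥C) := by
    calc Nat.card ↥C * Nat.card ↥L * Nat.card ↥L = Nat.card ↥C * Nat.card ↥L ^ 2 := by ring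
      _ ≤ 2 * Nat.card ↥A₀ * Nat.card ↥X := b4
      _ ≤ 2 * Nat.card ↥A₀ * 2 := Nat.mul_le_mul_left _ hX2
      _ < 4 * (Nat.card ↥L * Nat.card ↥C) := by omega
  have h6 : Nat.card ↥L < 4 := by
    by_contra h
    refine absurd h5 (not_lt.2 ?_)
    rw [mul_comm (Nat.card ↥L) (Nat.card ↥C), mul_comm 4]
    exact Nat.mul_le_mul_left _ (not_lt.1 h)
  omega

/-- The Baumann subgroup of every Sylow subgroup normalises `E`. -/
theorem baumann_le_normalizer (hG : centralizer (Cfsg.pCore p G : Set G) ≤ Cfsg.pCore p G) (hb : SBlock p E)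
    (hlift : HasLift p E) (T : Sylow p G) :
    Cfsg.baumannSubgroupOf p (T : Subgroup G) ≤ normalizer (E : Set G) := by
  obtain ⟨J, hJ⟩ : ∃ J, J = Cfsg.thompsonSubgroupOf p (T : Subgroup G) := ⟨_, rfl⟩
  have hJE : J ≤ normalizer (E : Set G) := by
    rw [hJ, CfsgLib.Fusion.thompsonSubgroupOf_eq]
    exact sSup_le fun A hA => maxEA_le_normalizer hG hb hlift T hA
  have hJp : IsPGroup p ↥J := hJ ▸ T.2.to_le (CfsgLib.Fusion.thompsonSubgroupOf_le _)
  obtain ⟨L, hL, hJL, hLz, hLc⟩ := hlift J hJp hJE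
  have hLp : IsPGroup p ↥L := (CfsgLib.Coprime.pCore_isPGroup p).to_le (hL.trans (hb.vV.trans vG_le))
  have hLne : L ≠ ⊥ := fun h => by rw [h, card_bot] at hLc; exact absurd hLc (not_lt.2 hp.out.one_lt.le)
  obtain ⟨x, hx, hxo, hxJ⟩ := CfsgLib.Invol.exists_fixed_of_normalized hJp hLp hLne hJL
  have hxp : x ^ p = 1 := hxo ▸ pow_orderOf_eq_one x
  have hxT : x ∈ (T : Subgroup G) := CfsgLib.Coprime.pCore_le_sylow T (vG_le (hb.vV (hL hx)))
  have hxZ : x ∈ Cfsg.omegaOne p (Cfsg.centerThompsonOf p (T : Subgroup G)) := by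
    refine subset_closure ⟨?_, hxp⟩
    show x ∈ Cfsg.thompsonSubgroupOf p (T : Subgroup G) ⊓
      centralizer (Cfsg.thompsonSubgroupOf p (T : Subgroup G) : Set G)
    obtain ⟨A, hA⟩ := CfsgLib.Fusion.exists_isMaxEA p (T : Subgroup G)
    refine mem_inf.2 ⟨CfsgLib.Fusion.le_thompsonSubgroupOf hA
      (CfsgLib.BaumannBlock.mem_isMaxEA_of_commutes hA hxT hxp fun a ha =>
        mem_centralizer_singleton_iff.1 (hxJ (hJ.ge (CfsgLib.Fusion.le_thompsonSubgroupOf hA ha)))), ?_⟩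
    exact mem_centralizer_iff.2 fun j hj => mem_centralizer_singleton_iff.1 (hxJ (hJ.ge hj))
  intro b hb'
  by_contra hbn
  have hbx := mem_centralizer_iff.1 (mem_inf.1 hb').2 x hxZ
  have hxz : x ∈ L ⊓ zE p E := mem_inf.2 ⟨hx, vE_le E (hL hx), mem_centralizer_iff.2 fun e he => by
    have h := vE_central_cjS hG hb hbn (hL hx) he
    rwa [← hbx, mul_inv_cancel_right] at h⟩
  rw [hLz, mem_bot] at hxz
  rw [hxz, orderOf_one] at hxo
  exact hp.out.one_lt.ne hxo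

end SBlock

end CfsgLib.SubBlock
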