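import Cfsg.Agent.Lib.Char.SubBlock.SLData
import Cfsg.Agent.Lib.Char.SubBlock.Quad
import Cfsg.Agent.Lib.LocalStructure.Kieler
import Cfsg.Agent.Lib.Char.SubBlock.PermSplit
import Cfsg.Agent.Lib.Char.SubBlock.Orbit

/-!
# Fixed points lift to `[W, E]`
-/

set_option autoImplicit false
set_option linter.unusedSectionVars false
set_option linter.style.haveILetI false
set_option maxHeartbeats 1000000

open Subgroup Matrix
open scoped commutatorElement MatrixGroups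

namespace CfsgLib.SubBlock

universe u
variable {G : Type u} [Group G] [Finite G] {p : ℕ} [hp : Fact p.Prime] {E : Subgroup G}

attribute [local instance] CfsgLib.Coprime.pCore_normal'

/-- A split module is its own lift. -/
theorem hasLift_of_split (hb : SBlock p E) (hs : vE p E ⊓ zE p E = ⊥)
    (hc : p * Nat.card ↥(zE p E) < Nat.card ↥(wE p E)) : HasLift p E := by
  intro P _ hPN
  refine ⟨vE p E, le_rfl, fun x hx => vE_norm (hPN hx), hs, ?_⟩
  have h := CfsgLib.EABasic.card_sup_mul_card_inf_of_le_normalizer (H := zE p E) (N := vE p E)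
    (fun z hz => vE_norm (le_normalizer (wE_le_E E (zE_le E hz))))
  rw [sup_comm, hb.vz, inf_comm, hs, card_bot, mul_one] at h
  rw [h, mul_comm p] at hc
  exact Nat.lt_of_mul_lt_mul_left hc

namespace SLData

variable {F : Type} [Field F] [Fintype F]

theorem card_wE (hb : SBlock p E) (d : SLData p E F) : Nat.card ↥(wE p E) = Fintype.card F ^ 2 * Nat.card ↥(zE p E) := by
  rw [SecRep.card d.R (zE_le E), Nat.card_fun, Nat.card_eq_fintype_card, Nat.card_eq_fintype_card, Fintype.card_fin]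

theorem card_gt (hb : SBlock p E) (d : SLData p E F) : p * Nat.card ↥(zE p E) < Nat.card ↥(wE p E) := by
  rw [d.card_wE hb]
  refine Nat.mul_lt_mul_of_pos_right ?_ Nat.card_pos
  obtain ⟨n, hn, hF⟩ := d.card_eq
  rw [hF, ← pow_mul]
  calc p = p ^ 1 := (pow_one p).symm
    _ < p ^ (n * 2) := Nat.pow_lt_pow_right hp.out.one_lt (by omega)

/-- For odd `p` the module splits. -/
theorem split_odd (hb : SBlock p E) (d : SLData p E F) (hodd : p ≠ 2) : vE p E ⊓ zE p E = ⊥ := by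
  classical
  haveI := d.charP
  obtain ⟨n, hn, hF⟩ := d.card_eq
  have h2 : (2 : F) ≠ 0 := fun h => hodd ((Nat.prime_dvd_prime_iff_eq hp.out Nat.prime_two).1
    ((CharP.cast_eq_zero_iff F p 2).1 (by exact_mod_cast h)))
  have hne : (-1 : SL(2, F)) ≠ 1 := fun h => by
    have h1 := congrArg (fun g : SL(2, F) => g.1 0 0) h
    simp at h1
    exact h2 (by linear_combination -h1)
  have hq3 : 3 ≤ Fintype.card F := by
    rw [hF]
    calc 3 ≤ p := Nat.lt_of_le_of_ne hp.out.two_le (Ne.symm hodd)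
      _ ≤ p ^ n := Nat.le_self_pow hn p
  have hm : (-1 : SL(2, F)) ∈ commutator SL(2, F) := by
    rcases hq3.lt_or_eq with h | h
    · rw [CfsgLib.Lie.SLUniv.sl2_commutator h]; exact mem_top _
    · obtain ⟨g, hg, hg2⟩ := exists_sq_ne_one (F := F) h.symm
      rw [← ((eight_class h.symm hg).1.resolve_left hg2)]
      exact pow_mem hg 2
  obtain ⟨e, he⟩ := d.range.ge hm
  have hQ : ∀ x : ↥E, d.ρ x = 1 → (x : G) ∈ qE p E := fun x hx => ⟨x.2, (d.ker x).1 hx⟩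
  refine (fitting (k := 2) e.2 (fun h => hne (he.symm.trans ((d.ker e).2 h.2))) (fun g hg => ?_)
    ((Nat.coprime_primes Nat.prime_two hp.out).2 (Ne.symm hodd)) ?_ ?_ hb.irr).1
  · have h := hQ (⟨g, hg⟩ * e * ⟨g, hg⟩⁻¹ * e⁻¹) (by rw [map_mul, map_mul, map_mul, map_inv, map_inv, he]; simp)
    exact h
  · exact hQ (e ^ 2) (by rw [map_pow, he, neg_one_sq])
  · intro x hx
    obtain ⟨hxE, hxC⟩ := mem_inf.1 hx
    exact ⟨hxE, hb.ker (mem_inf.2 ⟨hxE, centralizer_le (fun v hv => vE_le E hv) hxC⟩)⟩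

/-- The fixed line of a `p`-group lifts into `[W, E]` when `p = 2`. -/
theorem lift_base (hG : centralizer (Cfsg.pCore p G : Set G) ≤ Cfsg.pCore p G) (hb : SBlock p E)
    (T : Sylow p G) (hE : Cfsg.IsBaumannBlock p (T : Subgroup G) E) (d : SLData p E F) (h2 : p = 2)
    (h4 : 4 ≤ Fintype.card F) {P : Subgroup G} (hPN : P ≤ normalizer (E : Set G))
    (hfix : ∀ x (hx : x ∈ P), d.phi hb (hPN hx) ![1, 0] = ![1, 0]) :
    ∃ L : Subgroup G, L ≤ vE p E ∧ P ≤ normalizer (L : Set G) ∧ L ⊓ zE p E = ⊥ ∧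
      ∀ c : F, ∃ a ∈ L, d.R.pr a = ![c, 0] := by
  classical
  haveI := d.charP
  haveI : CharP F 2 := h2 ▸ d.charP
  have hρval : ∀ e f : ↥E, (d.ρ (e * f)).1 = (d.ρ e).1 * (d.ρ f).1 := fun e f => by
    rw [map_mul, Matrix.SpecialLinearGroup.coe_mul]
  have hcol : ∀ M : Matrix (Fin 2) (Fin 2) F, M.mulVec ![1, 0] = ![M 0 0, M 1 0] := fun M => by
    funext i; fin_cases i <;> simp [Matrix.mulVec, dotProduct, Fin.sum_univ_two]
  let H' : Subgroup ↥E :=
    { carrier := {e | (d.ρ e).1 1 0 = 0}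
      one_mem' := by show (d.ρ 1).1 1 0 = 0; rw [map_one]; simp
      mul_mem' := fun {a b} (ha : (d.ρ a).1 1 0 = 0) (hb : (d.ρ b).1 1 0 = 0) => by
        show (d.ρ (a * b)).1 1 0 = 0
        rw [hρval, Matrix.mul_apply, Fin.sum_univ_two, ha, hb]; simp
      inv_mem' := fun {a} (ha : (d.ρ a).1 1 0 = 0) => by
        show (d.ρ a⁻¹).1 1 0 = 0
        rw [map_inv, Matrix.SpecialLinearGroup.coe_inv, Matrix.adjugate_fin_two]
        simp [ha] }
  have hdet : ∀ e : ↥E, e ∈ H' → (d.ρ e).1 0 0 * (d.ρ e).1 1 1 = 1 := fun e (he : (d.ρ e).1 1 0 = 0) => by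
    have h := (d.ρ e).2
    rw [Matrix.det_fin_two, he, mul_zero, sub_zero] at h
    exact h
  let χ : ↥H' →* Fˣ := MonoidHom.mk'
    (fun e => Units.mkOfMulEqOne ((d.ρ (e : ↥E)).1 0 0) ((d.ρ (e : ↥E)).1 1 1) (hdet _ e.2))
    (fun a b => Units.ext (by
      show (d.ρ ((a : ↥E) * b)).1 0 0 = (d.ρ (a : ↥E)).1 0 0 * (d.ρ (b : ↥E)).1 0 0
      rw [hρval, Matrix.mul_apply, Fin.sum_univ_two, show (d.ρ (b : ↥E)).1 1 0 = 0 from b.2]; simp))
  obtain ⟨S, hSdef⟩ : ∃ S, S = (χ.ker.map H'.subtype).map E.subtype := ⟨_, rfl⟩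
  obtain ⟨H, hHdef⟩ : ∃ H, H = H'.map E.subtype := ⟨_, rfl⟩
  have hSmem : ∀ e : ↥E, (e : G) ∈ S ↔ (d.ρ e).1.mulVec ![1, 0] = ![1, 0] := fun e => by
    rw [hSdef, hcol]
    constructor
    · rintro ⟨_, ⟨a, ha, rfl⟩, h⟩
      obtain rfl : (a : ↥E) = e := Subtype.ext h
      have h1 : (d.ρ (a : ↥E)).1 0 0 = 1 := congrArg Units.val ha
      rw [h1, show (d.ρ (a : ↥E)).1 1 0 = 0 from a.2]
    · intro h
      have h0 : (d.ρ e).1 1 0 = 0 := by simpa using congrFun h 1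
      refine ⟨e, ⟨⟨e, h0⟩, Units.ext ?_, rfl⟩, rfl⟩
      show (d.ρ e).1 0 0 = 1
      simpa using congrFun h 0
  have hHmem : ∀ e : ↥E, (e : G) ∈ H ↔ (d.ρ e).1 1 0 = 0 := fun e => by
    rw [hHdef]
    exact ⟨fun ⟨a, ha, h⟩ => (Subtype.ext h : a = e) ▸ ha, fun h => ⟨e, h, rfl⟩⟩
  have hSE : S ≤ E := hSdef ▸ map_subtype_le _
  have hHE : H ≤ E := hHdef ▸ map_subtype_le _
  have hSH : S ≤ H := by rw [hSdef, hHdef]; exact map_mono (map_subtype_le _)
  -- `S` is a `p`-group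
  have hS2 : ∀ e : ↥E, (e : G) ∈ S → d.ρ (e * e) = 1 := by
    intro e he
    have h := (hSmem e).1 he
    rw [hcol] at h
    have h00 : (d.ρ e).1 0 0 = 1 := by simpa using congrFun h 0
    have h10 : (d.ρ e).1 1 0 = 0 := by simpa using congrFun h 1
    have h11 : (d.ρ e).1 1 1 = 1 := by
      have h' := hdet e h10
      rwa [h00, one_mul] at h'
    refine Subtype.ext ?_
    rw [hρval, Matrix.SpecialLinearGroup.coe_one]
    ext i j
    fin_cases i <;> fin_cases j <;>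
      simp [Matrix.mul_apply, Fin.sum_univ_two, h00, h10, h11, CharTwo.add_self_eq_zero]
  have hSp : IsPGroup p ↥S := fun s => by
    obtain ⟨k, hk⟩ := CfsgLib.Coprime.pCore_isPGroup p
      ⟨(s : G) * s, (d.ker (⟨s, hSE s.2⟩ * ⟨s, hSE s.2⟩)).1 (hS2 _ s.2)⟩
    refine ⟨k + 1, Subtype.ext ?_⟩
    show (s : G) ^ p ^ (k + 1) = 1
    rw [pow_succ', pow_mul, show p = 2 from h2, pow_two]
    subst h2
    exact congrArg Subtype.val hk
  -- `P` normalises `S` and `H`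
  have hPe : ∀ x (hx : x ∈ P) (e : ↥E) (v : F × F), (d.ρ e).1.mulVec ![1, 0] = v.1 • ![1, 0] →
      ∃ σ : F ≃+* F, (d.ρ ⟨x * e * x⁻¹, (mem_normalizer_iff.1 (hPN hx) e).1 e.2⟩).1.mulVec ![1, 0] =
        σ v.1 • ![1, 0] := by
    intro x hx e v hv
    obtain ⟨σ, hσ⟩ := d.exists_sigma hb (hPN hx)
    refine ⟨σ, ?_⟩
    have h := d.phi_conj hb (hPN hx) e ![1, 0]
    rw [hfix x hx] at h
    rw [h]
    show d.phi hb (hPN hx) ((d.ρ e).1.mulVec ![1, 0]) = _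
    rw [hv, hσ, hfix x hx]
  have hPH : ∀ x ∈ P, ∀ e ∈ H, x * e * x⁻¹ ∈ H := by
    intro x hx e he
    have h0 := (hHmem ⟨e, hHE he⟩).1 he
    obtain ⟨σ, hσ⟩ := hPe x hx ⟨e, hHE he⟩ ((d.ρ ⟨e, hHE he⟩).1 0 0, 0) (by rw [hcol, h0]; simp)
    refine (hHmem ⟨_, (mem_normalizer_iff.1 (hPN hx) e).1 (hHE he)⟩).2 ?_
    rw [hcol] at hσ
    simpa using congrFun hσ 1
  have hPS : ∀ x ∈ P, ∀ e ∈ S, x * e * x⁻¹ ∈ S := by
    intro x hx e he
    obtain ⟨σ, hσ⟩ := hPe x hx ⟨e, hSE he⟩ (1, 0) (by rw [(hSmem ⟨e, hSE he⟩).1 he, one_smul])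
    refine (hSmem ⟨_, (mem_normalizer_iff.1 (hPN hx) e).1 (hSE he)⟩).2 ?_
    rw [hσ, map_one, one_smul]
  have hnorm : ∀ {K : Subgroup G}, (∀ x ∈ P, ∀ e ∈ K, x * e * x⁻¹ ∈ K) → P ≤ normalizer (K : Set G) :=
    fun {K} h x hx => mem_normalizer_iff.2 fun e =>
      ⟨h x hx e, fun he => by simpa [mul_assoc] using h x⁻¹ (inv_mem hx) _ he⟩
  have hHS : H ≤ normalizer (S : Set G) := by
    have h := Subgroup.le_normalizer_map (H := χ.ker) H'.subtype
    intro e he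
    rw [hHdef] at he
    obtain ⟨a, ha, rfl⟩ := he
    rw [hSdef]
    refine Subgroup.le_normalizer_map E.subtype ⟨a, h ⟨⟨a, ha⟩, ?_, rfl⟩, rfl⟩
    rw [normalizer_eq_top_iff.2 (MonoidHom.normal_ker χ)]
    exact mem_top _
  -- the fixed points of `S` in `Ω₁Z(O_p(G))`
  obtain ⟨X, hX⟩ : ∃ X, X = vG G p ⊓ centralizer (S : Set G) := ⟨_, rfl⟩
  have hvN : ∀ g : G, g ∈ normalizer (vG G p : Set G) := fun g => mem_normalizer_iff.2 fun x =>
    ⟨vG_conj g, fun h => by simpa [mul_assoc] using vG_conj g⁻¹ h⟩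
  have hXnorm : ∀ {g}, g ∈ normalizer (S : Set G) → g ∈ normalizer (X : Set G) := fun {g} hg => by
    rw [hX]
    exact CfsgLib.Coprime.inf_le_normalizer (A := zpowers g) (zpowers_le.2 (hvN g))
      (zpowers_le.2 (CfsgLib.Coprime.normalizer_le_normalizer_centralizer S hg)) (mem_zpowers g)
  obtain ⟨L, hL⟩ : ∃ L, L = ⁅X, H⁆ := ⟨_, rfl⟩
  have hLV : L ≤ vE p E := hL ▸ (commutator_mono (hX.le.trans inf_le_left) hHE).trans hb.commutator_vG
  have hLX : L ≤ X := hL ▸ CfsgLib.BaumannBlock.commutator_le_of_normalizes fun h hh => hXnorm (hHS hh)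
  have hPL : P ≤ normalizer (L : Set G) := fun x hx => hL ▸
    CfsgLib.BaumannBlock.mem_normalizer_commutator (hXnorm (hnorm hPS hx)) (hnorm hPH hx)
  -- averaging
  have hLZ : L ⊓ zE p E = ⊥ := by
    haveI := Fintype.ofFinite (↥H' ⧸ χ.ker)
    let iV : CommGroup ↥(vG G p) :=
      { (inferInstance : Group ↥(vG G p)) with
        mul_comm := fun a b => Subtype.ext (vG_comm b.2 (vG_le a.2)) }
    let g : ↥H' → G := fun h => ((h : ↥E) : G)
    let cj : ↥H' → ↥(vG G p) → ↥(vG G p) := fun h x => ⟨g h * x * (g h)⁻¹, vG_conj _ x.2⟩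
    let Nm : ↥(vG G p) →* ↥(vG G p) := MonoidHom.mk' (fun x => ∏ q : ↥H' ⧸ χ.ker, cj q.out x) fun x y => by
      rw [← Finset.prod_mul_distrib]
      refine Finset.prod_congr rfl fun q _ => Subtype.ext ?_
      show g q.out * ((x : G) * y) * (g q.out)⁻¹ = g q.out * x * (g q.out)⁻¹ * (g q.out * y * (g q.out)⁻¹)
      group
    have hNm : ∀ (h : ↥H') (x : ↥(vG G p)), (x : G) ∈ X → Nm (cj h x) = Nm x := by
      intro h x hx
      show ∏ q : ↥H' ⧸ χ.ker, cj q.out (cj h x) = ∏ q : ↥H' ⧸ χ.ker, cj q.out x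
      rw [← Equiv.prod_comp (Equiv.mulRight (h : ↥H' ⧸ χ.ker)) (fun q => cj q.out x)]
      refine Finset.prod_congr rfl fun q _ => Subtype.ext ?_
      obtain ⟨r, hr⟩ : ∃ r, r = (q * (h : ↥H' ⧸ χ.ker)).out := ⟨_, rfl⟩
      show g q.out * (g h * x * (g h)⁻¹) * (g q.out)⁻¹ =
        g (q * (h : ↥H' ⧸ χ.ker)).out * x * (g (q * (h : ↥H' ⧸ χ.ker)).out)⁻¹
      rw [← hr]
      have hs : r⁻¹ * (q.out * h) ∈ χ.ker := by
        rw [← QuotientGroup.eq, hr, QuotientGroup.out_eq', QuotientGroup.mk_mul, QuotientGroup.out_eq']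
      have hsS : g (r⁻¹ * (q.out * h)) ∈ S := hSdef ▸ ⟨_, ⟨_, hs, rfl⟩, rfl⟩
      have hsx := mem_centralizer_iff.1 (mem_inf.1 (hX ▸ hx : (x : G) ∈ vG G p ⊓ centralizer (S : Set G))).2 _ hsS
      calc g q.out * (g h * x * (g h)⁻¹) * (g q.out)⁻¹
          = g r * (g (r⁻¹ * (q.out * h)) * x * (g (r⁻¹ * (q.out * h)))⁻¹) * (g r)⁻¹ := by
            simp only [g, Subgroup.coe_mul, Subgroup.coe_inv]; group
        _ = g r * x * (g r)⁻¹ := by rw [hsx, mul_inv_cancel_right]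
    have hLker : L ≤ (Nm.ker).map (vG G p).subtype := by
      rw [hL, commutator_le]
      intro x hx h hh
      rw [hHdef] at hh
      obtain ⟨a, ha, rfl⟩ := hh
      have hxV : x ∈ vG G p := (mem_inf.1 (hX.le hx)).1
      refine ⟨⟨x, hxV⟩ * (cj ⟨a, ha⟩ ⟨x, hxV⟩)⁻¹, ?_, ?_⟩
      · show Nm _ = 1
        rw [map_mul, map_inv, hNm _ _ hx, mul_inv_cancel]
      · show x * ((a : G) * x * (a : G)⁻¹)⁻¹ = _
        simp only [Subgroup.coe_subtype, commutatorElement_def]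
        group
    refine (eq_bot_iff_forall _).2 fun z hz => ?_
    obtain ⟨hzL, hzZ⟩ := mem_inf.1 hz
    obtain ⟨y, hy, rfl⟩ := hLker hzL
    have hcard : Nm y = y ^ Nat.card (↥H' ⧸ χ.ker) := by
      show ∏ q : ↥H' ⧸ χ.ker, cj q.out y = _
      rw [Finset.prod_eq_pow_card (b := y) fun q _ => ?_, Finset.card_univ, ← Nat.card_eq_fintype_card]
      refine Subtype.ext ?_
      show g q.out * y * (g q.out)⁻¹ = y
      rw [mul_inv_eq_iff_eq_mul]
      exact mem_centralizer_iff.1 (mem_inf.1 hzZ).2 _ (SetLike.coe_mem _)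
    have hdvd : Nat.card (↥H' ⧸ χ.ker) ∣ Fintype.card F - 1 := by
      rw [Nat.card_congr (QuotientGroup.quotientKerEquivRange χ).toEquiv, ← Fintype.card_units,
        ← Nat.card_eq_fintype_card]
      exact card_subgroup_dvd_card _
    have hyp : y ^ p = 1 := Subtype.ext (vG_pow y.2)
    have hcop : (Nat.card (↥H' ⧸ χ.ker)).Coprime p := by
      rw [h2, Nat.coprime_comm, Nat.Prime.coprime_iff_not_dvd Nat.prime_two]
      intro h
      obtain ⟨n, hn, hF⟩ := d.card_eq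
      rw [h2] at hF
      have h3 := h.trans hdvd
      rw [hF] at h3
      have h5 : 2 ∣ 2 ^ n := dvd_pow_self 2 hn
      have h6 : 0 < 2 ^ n := Nat.pow_pos two_pos
      omega
    rw [Subgroup.coe_subtype, orderOf_eq_one_iff.1 (Nat.eq_one_of_dvd_coprimes hcop
      (orderOf_dvd_of_pow_eq_one (hcard.symm.trans hy)) (orderOf_dvd_of_pow_eq_one hyp))]
    rfl
  -- non-triviality
  obtain ⟨z₀, hz₀, e₁, he₁, hne⟩ : ∃ z ∈ Cfsg.omegaOneCenter p (T : Subgroup G), ∃ e ∈ E, ⁅e, z⁆ ≠ 1 := by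
    by_contra! hcon
    exact hE.2.2.2.1 (le_bot_iff.1 (commutator_le.2 fun e he z hz => mem_bot.2 (hcon z hz e he)))
  obtain ⟨R₀, hR₀⟩ := CfsgLib.LS.sylow_inf_subnormal T hb.sn
  obtain ⟨R₁, hR₁⟩ := (hSp.comap_subtype : IsPGroup p ↥(S.subgroupOf E)).exists_le_sylow
  obtain ⟨a, rfl⟩ := MulAction.exists_smul_eq (↥E) R₀ R₁
  obtain ⟨z, hzdef⟩ : ∃ z, z = (a : G) * z₀ * (a : G)⁻¹ := ⟨_, rfl⟩
  have hz₀V : z₀ ∈ vG G p := CfsgLib.BaumannBlock.omegaOneCenter_le_omegaOneCenter_pCore hG T hz₀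
  have hzV : z ∈ vG G p := hzdef ▸ vG_conj _ hz₀V
  have hzS : z ∈ centralizer (S : Set G) := mem_centralizer_iff.2 fun s hs => by
    have h1 := hR₁ (show (⟨s, hSE hs⟩ : ↥E) ∈ S.subgroupOf E from hs)
    rw [Sylow.coe_subgroup_smul, Subgroup.mem_pointwise_smul_iff_inv_smul_mem, ← map_inv, MulAut.smul_def,
      MulAut.conj_apply, inv_inv] at h1
    have h3 : (a : G)⁻¹ * s * (a : G) ∈ (T : Subgroup G) :=
      (hR₀.le ⟨_, h1, rfl⟩).1
    have h4 := mem_centralizer_iff.1 (mem_inf.1 (CfsgLib.BaumannBlock.omegaOneCenter_le p _ hz₀)).2 _ h3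
    rw [hzdef]
    calc s * ((a : G) * z₀ * (a : G)⁻¹) = (a : G) * ((a : G)⁻¹ * s * a * z₀) * (a : G)⁻¹ := by group
      _ = (a : G) * (z₀ * ((a : G)⁻¹ * s * a)) * (a : G)⁻¹ := by rw [h4]
      _ = (a : G) * z₀ * (a : G)⁻¹ * s := by group
  have hLne : L ≠ ⊥ := by
    intro hbot
    rw [hL, commutator_eq_bot_iff_le_centralizer] at hbot
    have hzH := hbot (hX.ge ⟨hzV, hzS⟩)
    let K : Subgroup G :=
      { carrier := {e | e ∈ E ∧ ⁅e, z⁆ ∈ zE p E}
        one_mem' := ⟨one_mem _, by rw [commutatorElement_one_left]; exact one_mem _⟩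
        mul_mem' := fun {x y} hx hy => ⟨mul_mem hx.1 hy.1, by
          rw [show ⁅x * y, z⁆ = x * ⁅y, z⁆ * x⁻¹ * ⁅x, z⁆ by simp only [commutatorElement_def]; group]
          exact mul_mem ((mem_normalizer_iff.1 (zE_norm (le_normalizer hx.1)) _).1 hy.2) hx.2⟩
        inv_mem' := fun {x} hx => ⟨inv_mem hx.1, by
          rw [show ⁅x⁻¹, z⁆ = x⁻¹ * (⁅x, z⁆)⁻¹ * x by simp only [commutatorElement_def]; group]
          exact (mem_normalizer_iff''.1 (zE_norm (le_normalizer hx.1)) _).1 (inv_mem hx.2)⟩ }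
    have hSK : ∀ e : ↥E, (e : G) ∈ S → (e : G) ∈ K := fun e he => ⟨e.2, by
      rw [commutatorElement_eq_one_iff_mul_comm.2 (mem_centralizer_iff.1 hzS _ he)]
      exact one_mem _⟩
    obtain ⟨w, hw⟩ := d.surj_of_four h4 CfsgLib.Lie.SL2Rel.Fam.wel
    obtain ⟨t, ht⟩ : ∃ t : Fˣ, t ≠ 1 := by
      haveI : Nontrivial Fˣ := Fintype.one_lt_card_iff_nontrivial.1 (by rw [Fintype.card_units]; omega)
      exact exists_ne 1
    obtain ⟨k, hk⟩ := d.surj_of_four h4 (CfsgLib.Lie.SLUniv.dg t)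
    have hwK : (w : G) ∈ K := by
      obtain ⟨y, hy⟩ : ∃ y, y = ⁅(w : G), z⁆ := ⟨_, rfl⟩
      refine ⟨w.2, hy ▸ ?_⟩
      have hyV : y ∈ vE p E := by
        rw [hy, ← commutatorElement_inv z (w : G)]
        exact inv_mem (hb.commutator_vG (commutator_mem_commutator hzV w.2))
      have hk1 : (k : G) * z = z * k :=
        mem_centralizer_iff.1 hzH _ ((hHmem k).2 (by rw [hk, CfsgLib.Lie.SLUniv.coe_dg]; simp))
      have hk2 : ((w⁻¹ * k * w : ↥E) : G) * z = z * (w⁻¹ * k * w : ↥E) :=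
        mem_centralizer_iff.1 hzH _ ((hHmem _).2 (by
          rw [hρval, hρval, map_inv, Matrix.SpecialLinearGroup.coe_inv, hw, hk, CfsgLib.Lie.SLUniv.coe_dg,
            show (CfsgLib.Lie.SL2Rel.Fam.wel : SL(2, F)).1 = !![0, -1; 1, 0] from rfl, Matrix.adjugate_fin_two]
          simp [Matrix.mul_apply, Fin.sum_univ_two]))
      have hky : (k : G) * y * (k : G)⁻¹ = y := by
        have h5 : (k : G) * ((w : G) * z * (w : G)⁻¹) * (k : G)⁻¹ = (w : G) * z * (w : G)⁻¹ := by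
          simp only [Subgroup.coe_mul, Subgroup.coe_inv] at hk2
          calc (k : G) * ((w : G) * z * (w : G)⁻¹) * (k : G)⁻¹
              = (w : G) * ((w : G)⁻¹ * k * w * z * ((w : G)⁻¹ * k * w)⁻¹) * (w : G)⁻¹ := by group
            _ = _ := by rw [hk2, mul_inv_cancel_right]
        rw [hy, commutatorElement_def]
        calc (k : G) * ((w : G) * z * (w : G)⁻¹ * z⁻¹) * (k : G)⁻¹
            = (k : G) * ((w : G) * z * (w : G)⁻¹) * (k : G)⁻¹ * ((k : G) * z * (k : G)⁻¹)⁻¹ := by group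
          _ = _ := by rw [h5, hk1, mul_inv_cancel_right]
      have hyW := vE_le E hyV
      refine (d.R.pr_eq_zero y hyW).1 ?_
      have h6 := d.phi_pr hb (le_normalizer k.2) hyW
      rw [hky, d.phi_E hb, hk, CfsgLib.Lie.SLUniv.coe_dg] at h6
      have ht0 : ((t : F) - 1) ≠ 0 := fun h => ht (Units.ext (sub_eq_zero.1 h))
      have ht1 : (((t⁻¹ : Fˣ) : F) - 1) ≠ 0 := fun h => ht (inv_eq_one.1 (Units.ext (sub_eq_zero.1 h)))
      funext i
      have h7 := congrFun h6 i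
      fin_cases i <;> simp [Matrix.mulVec, dotProduct, Fin.sum_univ_two] at h7 ⊢
      · exact (mul_eq_zero.1 (show ((t : F) - 1) * d.R.pr y 0 = 0 by linear_combination -h7)).resolve_left ht0
      · exact (mul_eq_zero.1 (show (((t⁻¹ : Fˣ) : F) - 1) * d.R.pr y 1 = 0 by
          rw [Units.val_inv_eq_inv_val]; linear_combination -h7)).resolve_left ht1
    have hKtop : ∀ g : SL(2, F), ∃ e : ↥E, d.ρ e = g ∧ (e : G) ∈ K := by
      refine CfsgLib.Lie.SL2Rel.Fam.mem_gens (fun x y ⟨e, he, hek⟩ ⟨f, hf, hfk⟩ =>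
        ⟨e * f, by rw [map_mul, he, hf], K.mul_mem hek hfk⟩) (fun s => ?_) ⟨w, hw, hwK⟩
      obtain ⟨e, he⟩ := d.surj_of_four h4 (CfsgLib.Lie.SL2Rel.Fam.upper s)
      refine ⟨e, he, hSK e ((hSmem e).2 ?_)⟩
      rw [he, hcol]
      simp [CfsgLib.Lie.SL2Rel.Fam.upper]
    have hEK : ∀ e ∈ E, ⁅e, z⁆ ∈ zE p E := fun e he => by
      obtain ⟨f, hf, hfk⟩ := hKtop (d.ρ ⟨e, he⟩)
      have hq : ((f⁻¹ * ⟨e, he⟩ : ↥E) : G) ∈ S := (hSmem _).2 (by
        rw [map_mul, map_inv, hf, inv_mul_cancel, Matrix.SpecialLinearGroup.coe_one, Matrix.one_mulVec])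
      have := K.mul_mem hfk (hSK _ hq)
      simp only [Subgroup.coe_mul, Subgroup.coe_inv, mul_inv_cancel_left] at this
      exact this.2
    have hEc : E ≤ centralizer (zpowers z : Set G) := by
      refine CfsgLib.BaumannBlock.le_centralizer_of_stabilizes (D := zE p E) ?_
        ((SBlock.isPGroup_qE E).to_le ((zE_le E).trans (wE_le E))) (fun x hx c hc => ?_) fun x hx m hm => ?_
      · rw [CfsgLib.BaumannNormal.pResidualOf_eq_closure]
        exact le_antisymm ((closure_le _).2 fun x hx => hx.1) hb.res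
      · rw [mul_inv_eq_iff_eq_mul]
        exact mem_centralizer_iff.1 (mem_inf.1 hc).2 x hx
      · obtain ⟨i, rfl⟩ := mem_zpowers_iff.1 hm
        have hc := hEK x hx
        obtain ⟨c, hcd⟩ : ∃ c, c = ⁅x, z⁆ := ⟨_, rfl⟩
        rw [← hcd] at hc
        have hcz : Commute c z := vG_comm hzV (qE_le_core E (wE_le E (zE_le E hc)))
        rw [← conj_zpow, show x * z * x⁻¹ = c * z by rw [hcd, commutatorElement_def]; group, hcz.mul_zpow,
          mul_inv_cancel_right]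
        exact zpow_mem hc i
    refine hne (commutatorElement_eq_one_iff_mul_comm.2 ?_)
    have h9 := (mem_centralizer_iff.1 (hEc (show (a : G) * e₁ * (a : G)⁻¹ ∈ E from
      mul_mem (mul_mem a.2 he₁) (inv_mem a.2))) z (mem_zpowers z))
    rw [hzdef] at h9
    calc e₁ * z₀ = (a : G)⁻¹ * ((a : G) * e₁ * (a : G)⁻¹ * ((a : G) * z₀ * (a : G)⁻¹)) * a := by group
      _ = (a : G)⁻¹ * ((a : G) * z₀ * (a : G)⁻¹ * ((a : G) * e₁ * (a : G)⁻¹)) * a := by rw [h9]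
      _ = z₀ * e₁ := by group
  -- the image is the line
  obtain ⟨l, hl, hl1⟩ : ∃ l ∈ L, l ≠ 1 := by
    obtain ⟨x, hx⟩ := Subgroup.ne_bot_iff_exists_ne_one.1 hLne
    exact ⟨x, x.2, fun h => hx (Subtype.ext h)⟩
  have hlW := vE_le E (hLV hl)
  have hl0 : d.R.pr l ≠ 0 := fun h => hl1 (mem_bot.1 (hLZ ▸ mem_inf.2 ⟨hl, (d.R.pr_eq_zero l hlW).1 h⟩))
  have hl10 : d.R.pr l 1 = 0 := by
    obtain ⟨e, he⟩ := d.surj_of_four h4 (CfsgLib.Lie.SL2Rel.Fam.upper 1)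
    have heS : (e : G) ∈ S := (hSmem e).2 (by rw [he, hcol]; simp [CfsgLib.Lie.SL2Rel.Fam.upper])
    have h6 := d.phi_pr hb (le_normalizer e.2) hlW
    rw [mem_centralizer_iff.1 (mem_inf.1 (hX.le (hLX hl))).2 _ heS, mul_inv_cancel_right, d.phi_E hb, he] at h6
    have h7 := congrFun h6 0
    simp [CfsgLib.Lie.SL2Rel.Fam.upper, Matrix.mulVec, dotProduct, Fin.sum_univ_two] at h7
    exact h7
  have hl00 : d.R.pr l 0 ≠ 0 := fun h => hl0 (by funext i; fin_cases i <;> simp [h, hl10])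
  refine ⟨L, hLV, hPL, hLZ, fun c => ?_⟩
  rcases eq_or_ne c 0 with rfl | hc
  · exact ⟨1, one_mem _, by rw [d.R.pr_one]; funext i; fin_cases i <;> simp⟩
  obtain ⟨k, hk⟩ := d.surj_of_four h4 (CfsgLib.Lie.SLUniv.dg (Units.mk0 (c / d.R.pr l 0) (div_ne_zero hc hl00)))
  have hkH : (k : G) ∈ H := (hHmem k).2 (by rw [hk, CfsgLib.Lie.SLUniv.coe_dg]; simp)
  refine ⟨(k : G) * l * (k : G)⁻¹, ?_, ?_⟩
  · rw [hL] at hl ⊢
    exact (mem_normalizer_iff.1 (CfsgLib.BaumannBlock.mem_normalizer_commutator (hXnorm (hHS hkH))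
      (le_normalizer hkH)) l).1 hl
  · rw [d.phi_pr hb (le_normalizer k.2) hlW, d.phi_E hb, hk, CfsgLib.Lie.SLUniv.coe_dg]
    funext i
    fin_cases i <;> simp [Matrix.mulVec, dotProduct, Fin.sum_univ_two, hl10, div_mul_cancel₀, hl00]

/-- The fixed line of a `p`-group lifts, general position. -/
theorem lift_line (hG : centralizer (Cfsg.pCore p G : Set G) ≤ Cfsg.pCore p G) (hb : SBlock p E)
    (T : Sylow p G) (hE : Cfsg.IsBaumannBlock p (T : Subgroup G) E) (d : SLData p E F) (h2 : p = 2)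
    (h4 : 4 ≤ Fintype.card F) {P : Subgroup G} (hPN : P ≤ normalizer (E : Set G)) {v : Fin 2 → F} (hv : v ≠ 0)
    (hfix : ∀ x (hx : x ∈ P), d.phi hb (hPN hx) v = v) :
    ∃ L : Subgroup G, L ≤ vE p E ∧ P ≤ normalizer (L : Set G) ∧ L ⊓ zE p E = ⊥ ∧
      ∀ c : F, ∃ a ∈ L, d.R.pr a = c • v := by
  obtain ⟨g, hg⟩ : ∃ g : SL(2, F), (g : Matrix (Fin 2) (Fin 2) F).mulVec ![1, 0] = v := by
    by_cases h0 : v 0 = 0
    · have h1 : v 1 ≠ 0 := fun h1 => hv (by funext i; fin_cases i <;> simp [h0, h1])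
      refine ⟨⟨!![0, -(v 1)⁻¹; v 1, 0], by simp [Matrix.det_fin_two, h1]⟩, ?_⟩
      funext i; fin_cases i <;> simp [Matrix.mulVec, dotProduct, Fin.sum_univ_two, h0]
    · refine ⟨⟨!![v 0, 0; v 1, (v 0)⁻¹], by simp [Matrix.det_fin_two, h0]⟩, ?_⟩
      funext i; fin_cases i <;> simp [Matrix.mulVec, dotProduct, Fin.sum_univ_two]
  obtain ⟨e, rfl⟩ := d.surj_of_four h4 g
  have heN : (e : G) ∈ normalizer (E : Set G) := le_normalizer e.2
  have hPN' : cjS (e : G)⁻¹ P ≤ normalizer (E : Set G) := by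
    rintro _ ⟨x, hx, rfl⟩
    exact mul_mem (mul_mem (inv_mem heN) (hPN hx)) (inv_mem (inv_mem heN))
  obtain ⟨L, hLV, hPL, hLz, hLc⟩ := lift_base hG hb T hE d h2 h4 hPN' (fun y hy => by
    obtain ⟨x, hx, hxy⟩ := hy
    have hy' : y = (e : G)⁻¹ * x * (e : G) := by rw [← hxy]; simp
    rw [d.phi_congr hb hy' _ (mul_mem (mul_mem (inv_mem heN) (hPN hx)) heN),
      d.phi_mul hb (mul_mem (inv_mem heN) (hPN hx)) heN, d.phi_mul hb (inv_mem heN) (hPN hx)]
    rw [show d.phi hb heN ![1, 0] = v by rw [d.phi_E hb, hg], hfix x hx, ← hg, ← d.phi_E hb e ![1, 0],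
      d.phi_inv_self hb])
  have hvz : ∀ {A : Subgroup G}, (e : G) ∈ normalizer (A : Set G) → cjS (e : G) A = A := fun h =>
    CfsgLib.Fusion.conjBy_eq_iff.2 h
  refine ⟨cjS (e : G) L, ?_, ?_, ?_, fun c => ?_⟩
  · exact (cjS_le_iff.2 hLV).trans (hvz (vE_norm heN)).le
  · intro x hx
    have h := cjS_norm (g := (e : G)) (hPL (conj_mem_cjS (g := (e : G)⁻¹) hx))
    simpa [mul_assoc] using h
  · rw [← hvz (zE_norm (p := p) heN), cjS, cjS, ← map_inf _ _ _ (MulAut.conj (e : G)).injective, hLz,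
      Subgroup.map_bot]
  · obtain ⟨a, ha, hac⟩ := hLc c
    refine ⟨_, conj_mem_cjS ha, ?_⟩
    rw [d.phi_pr hb heN (vE_le E (hLV ha)), d.phi_E hb, hac, ← hg, ← Matrix.mulVec_smul]
    congr 1
    funext i; fin_cases i <;> simp

end SLData

end CfsgLib.SubBlock
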