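import Cfsg.Agent.Lib.Char.SubBlock.Block

/-!
# The Baumann subgroup acts by transvections on the module of a linear block
-/

set_option autoImplicit false
set_option linter.unusedSectionVars false
set_option linter.style.haveILetI false
set_option linter.unusedVariables false
set_option maxHeartbeats 1000000

open Subgroup Matrix
open scoped commutatorElement MatrixGroups

namespace CfsgLib.SubBlock

universe u
variable {G : Type u} [Group G] [Finite G] {p : ℕ} [hp : Fact p.Prime] {E : Subgroup G}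

attribute [local instance] CfsgLib.Coprime.pCore_normal'

open CfsgLib.Fusion (IsMaxEA)

/-- The square of the number of fixed elements of a non-trivial automorphism is at most `q`. -/
theorem card_fixed_sq_le {F : Type} [Field F] [Fintype F] {σ : F ≃+* F} (hσ : σ ≠ RingEquiv.refl F) :
    Nat.card {t : F // σ t = t} * Nat.card {t : F // σ t = t} ≤ Fintype.card F := by
  obtain ⟨t₀, ht₀⟩ : ∃ t₀, σ t₀ ≠ t₀ := by
    by_contra! h
    exact hσ (RingEquiv.ext h)
  rw [← Nat.card_prod, ← Nat.card_eq_fintype_card]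
  refine Nat.card_le_card_of_injective (fun ab => (ab.1 : F) + ab.2 * t₀) ?_
  rintro ⟨⟨a, ha⟩, ⟨b, hb⟩⟩ ⟨⟨a', ha'⟩, ⟨b', hb'⟩⟩ h
  have hb2 : b = b' := by
    by_contra hne
    refine ht₀ ?_
    have h1 : t₀ = (a' - a) / (b - b') := by
      rw [eq_div_iff (sub_ne_zero.2 hne)]
      have h2 : a + b * t₀ = a' + b' * t₀ := h
      linear_combination h2
    rw [h1, map_div₀, map_sub, map_sub, ha, ha', hb, hb']
  subst hb2
  have h2 : a + b * t₀ = a' + b * t₀ := h
  obtain rfl := add_right_cancel h2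
  rfl

/-- The automorphisms of a finite field are fewer than its elements. -/
theorem card_le_of_autFun {F : Type} [Field F] [Fintype F] {α : Type*} (s : α → (F ≃+* F))
    (hs : Function.Injective s) : Nat.card α < Fintype.card F := by
  classical
  obtain ⟨g, hg⟩ := IsCyclic.exists_generator (α := Fˣ)
  have h1 : Nat.card α ≤ Nat.card Fˣ := by
    refine Nat.card_le_card_of_injective (fun a => Units.map (s a).toRingHom.toMonoidHom g) fun a b h => hs ?_
    refine RingEquiv.ext fun t => ?_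
    rcases eq_or_ne t 0 with rfl | ht
    · rw [map_zero, map_zero]
    obtain ⟨i, hi⟩ := mem_zpowers_iff.1 (hg (Units.mk0 t ht))
    have h2 : Units.map (s a).toRingHom.toMonoidHom (Units.mk0 t ht) =
        Units.map (s b).toRingHom.toMonoidHom (Units.mk0 t ht) := by rw [← hi, map_zpow, map_zpow]; exact congrArg (· ^ i) h
    exact congrArg Units.val h2
  rw [Nat.card_eq_fintype_card (α := Fˣ), Fintype.card_units] at h1
  have := Fintype.one_lt_card (α := F)
  omega

namespace SLData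

variable {F : Type} [Field F] [Fintype F]

/-- The standard transvection with axis through `g (1, 0)`. -/
def tv (g : SL(2, F)) (c : F) : SL(2, F) := g * CfsgLib.Lie.SL2Rel.Fam.upper c * g⁻¹

theorem tv_mulVec (g : SL(2, F)) (c a b : F) :
    (tv g c : Matrix (Fin 2) (Fin 2) F).mulVec (a • g.1.mulVec ![1, 0] + b • g.1.mulVec ![0, 1]) =
      (a + c * b) • g.1.mulVec ![1, 0] + b • g.1.mulVec ![0, 1] := by
  rw [← Matrix.mulVec_smul, ← Matrix.mulVec_smul, ← Matrix.mulVec_smul, ← Matrix.mulVec_add, ← Matrix.mulVec_add,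
    Matrix.mulVec_mulVec, ← Matrix.SpecialLinearGroup.coe_mul, tv, inv_mul_cancel_right,
    Matrix.SpecialLinearGroup.coe_mul, ← Matrix.mulVec_mulVec]
  congr 1
  funext i
  fin_cases i <;> simp [CfsgLib.Lie.SL2Rel.Fam.upper, Matrix.mulVec, dotProduct, Fin.sum_univ_two]

theorem exists_coords (g : SL(2, F)) (v : Fin 2 → F) :
    ∃ a b : F, v = a • g.1.mulVec ![1, 0] + b • g.1.mulVec ![0, 1] := by
  refine ⟨g⁻¹.1.mulVec v 0, g⁻¹.1.mulVec v 1, ?_⟩
  rw [← Matrix.mulVec_smul, ← Matrix.mulVec_smul, ← Matrix.mulVec_add,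
    show (g⁻¹.1.mulVec v 0) • (![1, 0] : Fin 2 → F) + (g⁻¹.1.mulVec v 1) • (![0, 1] : Fin 2 → F) = g⁻¹.1.mulVec v by
      funext i; fin_cases i <;> simp,
    Matrix.mulVec_mulVec, ← Matrix.SpecialLinearGroup.coe_mul, mul_inv_cancel, Matrix.SpecialLinearGroup.coe_one,
    Matrix.one_mulVec]

theorem coords_inj (g : SL(2, F)) {a b a' b' : F} (h : a • g.1.mulVec ![1, 0] + b • g.1.mulVec ![0, 1] =
    a' • g.1.mulVec ![1, 0] + b' • g.1.mulVec ![0, 1]) : a = a' ∧ b = b' := by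
  rw [← Matrix.mulVec_smul, ← Matrix.mulVec_smul, ← Matrix.mulVec_smul, ← Matrix.mulVec_smul, ← Matrix.mulVec_add,
    ← Matrix.mulVec_add] at h
  have h1 := congrArg (g⁻¹.1.mulVec) h
  rw [Matrix.mulVec_mulVec, Matrix.mulVec_mulVec, ← Matrix.SpecialLinearGroup.coe_mul, inv_mul_cancel,
    Matrix.SpecialLinearGroup.coe_one, Matrix.one_mulVec, Matrix.one_mulVec] at h1
  exact ⟨by simpa using congrFun h1 0, by simpa using congrFun h1 1⟩

theorem exists_first {v : Fin 2 → F} (hv : v ≠ 0) : ∃ g : SL(2, F), g.1.mulVec ![1, 0] = v := by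
  by_cases h0 : v 0 = 0
  · have h1 : v 1 ≠ 0 := fun h1 => hv (by funext i; fin_cases i <;> simp [h0, h1])
    refine ⟨⟨!![0, -(v 1)⁻¹; v 1, 0], by simp [Matrix.det_fin_two, h1]⟩, ?_⟩
    funext i; fin_cases i <;> simp [Matrix.mulVec, dotProduct, Fin.sum_univ_two, h0]
  · refine ⟨⟨!![v 0, 0; v 1, (v 0)⁻¹], by simp [Matrix.det_fin_two, h0]⟩, ?_⟩
    funext i; fin_cases i <;> simp [Matrix.mulVec, dotProduct, Fin.sum_univ_two]

variable (hb : SBlock p E) (d : SLData p E F)

/-- The elements acting linearly. -/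
def linSub : Subgroup G where
  carrier := {x | ∃ hx : x ∈ normalizer (E : Set G), ∀ (t : F) v, d.phi hb hx (t • v) = t • d.phi hb hx v}
  one_mem' := ⟨one_mem _, fun t v => by rw [d.phi_one hb, d.phi_one hb]⟩
  mul_mem' := fun {x y} ⟨hx, ex⟩ ⟨hy, ey⟩ => ⟨mul_mem hx hy, fun t v => by
    rw [d.phi_mul hb hx hy, d.phi_mul hb hx hy, ey, ex]⟩
  inv_mem' := fun {x} ⟨hx, ex⟩ => ⟨inv_mem hx, fun t v => d.phi_injective hb hx (by
    rw [d.phi_self_inv hb hx, ex, d.phi_self_inv hb hx])⟩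

theorem phi_fix_of_cent {x : G} (hx : x ∈ normalizer (E : Set G)) :
    (∀ v, d.phi hb hx v = v) ↔ x ∈ centralizer (vE p E : Set G) :=
  (d.phi_eq_one_iff hb hx).trans (hb.triv_iff_cent_vE hx)

/-- A linear element of `p`-power order fixing `g (1, 0)` is a transvection. -/
theorem eq_tv {x : G} (hx : x ∈ normalizer (E : Set G)) {N : ℕ} (hpow : x ^ p ^ N = 1)
    (hlin : ∀ (t : F) v, d.phi hb hx (t • v) = t • d.phi hb hx v) {g : SL(2, F)}
    (hfix : d.phi hb hx (g.1.mulVec ![1, 0]) = g.1.mulVec ![1, 0]) :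
    ∃ c : F, ∀ v, d.phi hb hx v = (tv g c : Matrix (Fin 2) (Fin 2) F).mulVec v := by
  haveI := d.charP
  obtain ⟨c, δ, hw⟩ := exists_coords g (d.phi hb hx (g.1.mulVec ![0, 1]))
  have hval : ∀ a b : F, d.phi hb hx (a • g.1.mulVec ![1, 0] + b • g.1.mulVec ![0, 1]) =
      (a + c * b) • g.1.mulVec ![1, 0] + (δ * b) • g.1.mulVec ![0, 1] := fun a b => by
    rw [map_add, hlin, hlin, hfix, hw]
    module
  have hiter : ∀ k : ℕ, ∃ a : F, (d.phi hb hx)^[k] (g.1.mulVec ![0, 1]) =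
      a • g.1.mulVec ![1, 0] + (δ ^ k) • g.1.mulVec ![0, 1] := by
    intro k
    induction k with
    | zero => exact ⟨0, by simp⟩
    | succ k ih =>
      obtain ⟨a, ha⟩ := ih
      refine ⟨a + c * δ ^ k, ?_⟩
      rw [Function.iterate_succ_apply', ha, hval, pow_succ']
  have hδ : δ = 1 := by
    obtain ⟨a, ha⟩ := hiter (p ^ N)
    rw [← d.phi_of_pow hb hx, d.phi_congr hb hpow _ (one_mem _), d.phi_one hb] at ha
    have h1 := (coords_inj g (show (0 : F) • g.1.mulVec ![1, 0] + (1 : F) • g.1.mulVec ![0, 1] =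
        a • g.1.mulVec ![1, 0] + (δ ^ p ^ N) • g.1.mulVec ![0, 1] by
      rw [zero_smul, one_smul, zero_add]; exact ha)).2
    have h2 : (δ - 1) ^ p ^ N = 0 := by rw [sub_pow_char_pow, one_pow, ← h1, sub_self]
    exact sub_eq_zero.1 ((pow_eq_zero_iff (pow_ne_zero N hp.out.ne_zero)).1 h2)
  refine ⟨c, fun v => ?_⟩
  obtain ⟨a, b, rfl⟩ := exists_coords g v
  rw [hval, tv_mulVec, hδ, one_mul]

theorem card_vE (hb : SBlock p E) (d : SLData p E F) : Nat.card ↥(vE p E) = Fintype.card F ^ 2 * Nat.card ↥(vE p E ⊓ zE p E : Subgroup G) := by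
  have h := CfsgLib.EABasic.card_sup_mul_card_inf_of_le_normalizer (H := zE p E) (N := vE p E)
    (fun z hz => vE_norm (le_normalizer (wE_le_E E (zE_le E hz))))
  rw [sup_comm, hb.vz, inf_comm, SLData.card_wE hb d] at h
  refine Nat.eq_of_mul_eq_mul_right (Nat.card_pos (α := ↥(zE p E))) ?_
  rw [mul_comm, ← h]
  ring

/-- The count for an elementary abelian subgroup of largest order. -/
theorem maxEA_count {T A : Subgroup G} (hA : IsMaxEA p T A) (hcore : Cfsg.pCore p G ≤ T)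
    (hAN : A ≤ normalizer (E : Set G)) :
    Fintype.card F ^ 2 ≤ Nat.card (↥A ⧸ (A ⊓ centralizer (vE p E : Set G)).subgroupOf A) *
      Nat.card {v : Fin 2 → F // ∀ a (ha : a ∈ A), d.phi hb (hAN ha) v = v} := by
  obtain ⟨C, hC⟩ : ∃ C, C = A ⊓ centralizer (vE p E : Set G) := ⟨_, rfl⟩
  rw [← hC]
  have hCA : C ≤ A := hC ▸ inf_le_left
  have hCV : C ≤ centralizer (vE p E : Set G) := hC ▸ inf_le_right
  have hAc : ∀ a ∈ A, ∀ b ∈ A, a * b = b * a := fun a ha b hb' =>
    congrArg Subtype.val (hA.2.1.1.is_comm.comm (⟨a, ha⟩ : ↥A) ⟨b, hb'⟩)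
  have hVc : ∀ a ∈ vE p E, ∀ b ∈ vE p E, a * b = b * a := fun a ha b hb' =>
    vG_comm (hb.vV hb') (vG_le (hb.vV ha))
  have hCe : Cfsg.IsElementaryAbelian p C :=
    ⟨⟨⟨fun a b => Subtype.ext (hAc a (hCA a.2) b (hCA b.2))⟩⟩, fun a ha => hA.2.1.2 a (hCA ha)⟩
  have hVe : Cfsg.IsElementaryAbelian p (vE p E) :=
    ⟨⟨⟨fun a b => Subtype.ext (hVc a a.2 b b.2)⟩⟩, fun a ha => vG_pow (hb.vV ha)⟩
  have hle := hA.2.2 _ (sup_le (hCA.trans hA.1) (hb.vV.trans (vG_le.trans hcore)))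
    (CfsgLib.EABasic.isElementaryAbelian_sup hCe hVe fun a ha b hb' => (mem_centralizer_iff.1 (hCV ha) b hb').symm)
  have hcard := CfsgLib.EABasic.card_sup_mul_card_inf_of_le_normalizer (H := C) (N := vE p E)
    (hCV.trans (centralizer_le_normalizer _))
  -- the common part is fixed by `A`
  let ψ : ↥(C ⊓ vE p E : Subgroup G) →* Multiplicative (Fin 2 → F) :=
    MonoidHom.mk' (fun a => Multiplicative.ofAdd (d.R.pr (a : G))) fun a b => by
      rw [Subgroup.coe_mul, d.R.pr_mul _ (vE_le E a.2.2) _ (vE_le E b.2.2), ofAdd_add]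
  have hker : Nat.card ↥ψ.ker ≤ Nat.card ↥(vE p E ⊓ zE p E : Subgroup G) :=
    Nat.card_le_card_of_injective (fun a => (⟨((a : ↥(C ⊓ vE p E : Subgroup G)) : G), a.1.2.2,
      (d.R.pr_eq_zero _ (vE_le E a.1.2.2)).1 (Multiplicative.ofAdd.injective a.2)⟩ : ↥(vE p E ⊓ zE p E : Subgroup G)))
      fun a b h => Subtype.ext (Subtype.ext (congrArg (fun z : ↥(vE p E ⊓ zE p E : Subgroup G) => (z : G)) h))
  have hran : Nat.card ↥ψ.range ≤ Nat.card {v : Fin 2 → F // ∀ a (ha : a ∈ A), d.phi hb (hAN ha) v = v} :=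
    Nat.card_le_card_of_injective (fun y => (⟨Multiplicative.toAdd y.1, fun a ha => by
      obtain ⟨u, hu⟩ := y.2
      rw [← hu]
      show d.phi hb (hAN ha) (d.R.pr (u : G)) = d.R.pr (u : G)
      rw [← d.phi_pr hb (hAN ha) (vE_le E u.2.2), hAc a ha _ (hCA u.2.1), mul_inv_cancel_right]⟩ :
        {v : Fin 2 → F // ∀ a (ha : a ∈ A), d.phi hb (hAN ha) v = v}))
      fun a b h => Subtype.ext (Multiplicative.toAdd.injective (congrArg
        (fun z : {v : Fin 2 → F // ∀ a (ha : a ∈ A), d.phi hb (hAN ha) v = v} => z.1) h))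
  have hCX : Nat.card ↥(C ⊓ vE p E : Subgroup G) ≤
      Nat.card {v : Fin 2 → F // ∀ a (ha : a ∈ A), d.phi hb (hAN ha) v = v} *
        Nat.card ↥(vE p E ⊓ zE p E : Subgroup G) := by
    rw [card_eq_card_quotient_mul_card_subgroup ψ.ker, Nat.card_congr (QuotientGroup.quotientKerEquivRange ψ).toEquiv]
    exact Nat.mul_le_mul hran hker
  have h1 := Nat.mul_le_mul hle hCX
  rw [hcard, card_vE hb d, card_eq_card_quotient_mul_card_subgroup (C.subgroupOf A),
    Nat.card_congr (subgroupOfEquivOfLe hCA).toEquiv] at h1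
  refine Nat.le_of_mul_le_mul_left (?_ : Nat.card ↥C * Nat.card ↥(vE p E ⊓ zE p E : Subgroup G) * Fintype.card F ^ 2 ≤
    Nat.card ↥C * Nat.card ↥(vE p E ⊓ zE p E : Subgroup G) * _)
    (Nat.mul_pos (Nat.card_pos (α := ↥C)) (Nat.card_pos (α := ↥(vE p E ⊓ zE p E : Subgroup G))))
  calc Nat.card ↥C * Nat.card ↥(vE p E ⊓ zE p E : Subgroup G) * Fintype.card F ^ 2
      = Nat.card ↥C * (Fintype.card F ^ 2 * Nat.card ↥(vE p E ⊓ zE p E : Subgroup G)) := by ring
    _ ≤ _ := h1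
    _ = _ := by ring

/-- An elementary abelian subgroup of largest order moving `[W, E]` is a full group of transvections. -/
theorem maxEA_shape {T A : Subgroup G} (hA : IsMaxEA p T A) (hcore : Cfsg.pCore p G ≤ T)
    (hAN : A ≤ normalizer (E : Set G)) (hAp : IsPGroup p ↥A) :
    A ≤ linSub hb d ∧ (¬ A ≤ centralizer (vE p E : Set G) → ∃ g : SL(2, F),
      (∀ a (ha : a ∈ A), d.phi hb (hAN ha) (g.1.mulVec ![1, 0]) = g.1.mulVec ![1, 0]) ∧
      (∀ v, (∀ a (ha : a ∈ A), d.phi hb (hAN ha) v = v) → ∃ t : F, v = t • g.1.mulVec ![1, 0]) ∧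
      ∀ c : F, ∃ a, ∃ ha : a ∈ A, ∀ v, d.phi hb (hAN ha) v = (tv g c : Matrix (Fin 2) (Fin 2) F).mulVec v) := by
  classical
  haveI := d.charP
  obtain ⟨v₀, hv₀, hv₀A⟩ := d.exists_fixed_vec hb hAp hAN
  obtain ⟨g, hg⟩ := exists_first hv₀
  subst hg
  obtain ⟨C, hC⟩ : ∃ C, C = A ⊓ centralizer (vE p E : Set G) := ⟨_, rfl⟩
  have hAc : ∀ a ∈ A, ∀ b ∈ A, a * b = b * a := fun a ha b hb' =>
    congrArg Subtype.val (hA.2.1.1.is_comm.comm (⟨a, ha⟩ : ↥A) ⟨b, hb'⟩)
  obtain ⟨S, hS⟩ : ∃ S, S = A ⊓ linSub hb d := ⟨_, rfl⟩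
  have hSA : S ≤ A := hS ▸ inf_le_left
  have hCS : C ≤ S := by
    rw [hS, hC]
    refine le_inf inf_le_left fun x hx => ⟨hAN hx.1, fun t v => ?_⟩
    have h := (d.phi_fix_of_cent hb (hAN hx.1)).2 hx.2
    rw [h, h]
  have hCA : C ≤ A := hCS.trans hSA
  obtain ⟨Fx, hFx⟩ : ∃ Fx, Fx = {v : Fin 2 → F // ∀ a (ha : a ∈ A), d.phi hb (hAN ha) v = v} := ⟨_, rfl⟩
  have hcnt := maxEA_count hb d hA hcore hAN
  rw [← hC, ← hFx] at hcnt
  -- linear elements are transvections
  have htv : ∀ x (hx : x ∈ S), ∃ c : F, ∀ v, d.phi hb (hAN (hSA hx)) v = (tv g c : Matrix (Fin 2) (Fin 2) F).mulVec v := by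
    intro x hx
    obtain ⟨N, hN⟩ := hAp ⟨x, hSA hx⟩
    obtain ⟨hx', hlin⟩ := (hS.le hx).2
    exact eq_tv hb d (hAN (hSA hx)) (congrArg Subtype.val hN) hlin (hv₀A x (hSA hx))
  choose cS hcS using htv
  -- fixed vectors
  have hline : ¬ S ≤ C → ∀ v, (∀ a (ha : a ∈ A), d.phi hb (hAN ha) v = v) → ∃ t : F, v = t • g.1.mulVec ![1, 0] := by
    intro hSC v hv
    obtain ⟨x, hx, hxC⟩ := SetLike.not_le_iff_exists.1 hSC
    obtain ⟨a, b, rfl⟩ := exists_coords g v
    have h1 := hv x (hSA hx)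
    rw [hcS x hx, tv_mulVec] at h1
    have h2 : cS x hx * b = 0 := by simpa using (coords_inj g h1).1
    rcases mul_eq_zero.1 h2 with h | h
    · refine absurd ?_ hxC
      rw [hC]
      refine ⟨hSA hx, (d.phi_fix_of_cent hb (hAN (hSA hx))).1 fun w => ?_⟩
      obtain ⟨a', b', rfl⟩ := exists_coords g w
      rw [hcS x hx, tv_mulVec, h, zero_mul, add_zero]
    · exact ⟨a, by rw [h, zero_smul, add_zero]⟩
  -- the index of `C` in `S`
  obtain ⟨k, hk⟩ : ∃ k, k = Nat.card (↥S ⧸ C.subgroupOf S) := ⟨_, rfl⟩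
  obtain ⟨r, hr⟩ : ∃ r, r = Nat.card (↥A ⧸ S.subgroupOf A) := ⟨_, rfl⟩
  have hrk : Nat.card (↥A ⧸ C.subgroupOf A) = r * k := by
    refine Nat.eq_of_mul_eq_mul_right (Nat.card_pos (α := ↥C)) ?_
    calc Nat.card (↥A ⧸ C.subgroupOf A) * Nat.card ↥C = Nat.card ↥A := by
          rw [card_eq_card_quotient_mul_card_subgroup (C.subgroupOf A),
            Nat.card_congr (subgroupOfEquivOfLe hCA).toEquiv]
      _ = r * Nat.card ↥S := by
          rw [hr, card_eq_card_quotient_mul_card_subgroup (S.subgroupOf A),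
            Nat.card_congr (subgroupOfEquivOfLe hSA).toEquiv]
      _ = r * (k * Nat.card ↥C) := by
          rw [hk, card_eq_card_quotient_mul_card_subgroup (C.subgroupOf S),
            Nat.card_congr (subgroupOfEquivOfLe hCS).toEquiv]
      _ = r * k * Nat.card ↥C := (mul_assoc _ _ _).symm
  have hcinj : ∀ {x y : G} (hx : x ∈ S) (hy : y ∈ S), cS x hx = cS y hy → x⁻¹ * y ∈ C := by
    intro x y hx hy h
    rw [hC]
    refine mem_inf.2 ⟨A.mul_mem (A.inv_mem (hSA hx)) (hSA hy),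
      (d.phi_fix_of_cent hb (mul_mem (inv_mem (hAN (hSA hx))) (hAN (hSA hy)))).1 fun v => ?_⟩
    rw [d.phi_mul hb (inv_mem (hAN (hSA hx))) (hAN (hSA hy)), hcS y hy, ← h, ← hcS x hx, d.phi_inv_self hb]
  have hkle : ∀ (K : Set F), (∀ x (hx : x ∈ S), cS x hx ∈ K) → k ≤ Nat.card K := fun K hK => by
    rw [hk]
    refine Nat.card_le_card_of_injective (fun q => (⟨cS ((q.out : ↥S) : G) (q.out : ↥S).2, hK _ _⟩ : K)) fun q q' h => ?_
    rw [← QuotientGroup.out_eq' q, ← QuotientGroup.out_eq' q', QuotientGroup.eq, mem_subgroupOf]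
    exact hcinj _ _ (congrArg Subtype.val h)
  -- all elements are linear
  have hall : A ≤ linSub hb d := by
    by_contra hne
    obtain ⟨a, ha, hal⟩ := SetLike.not_le_iff_exists.1 hne
    obtain ⟨σ, hσ⟩ := d.exists_sigma hb (hAN ha)
    have hσ1 : σ ≠ RingEquiv.refl F := fun h => hal ⟨hAN ha, fun t v => by rw [hσ, h]; rfl⟩
    have hr' : r < Fintype.card F := by
      rw [hr]
      have hsig : ∀ x : ↥A, ∃ τ : F ≃+* F, ∀ (t : F) v, d.phi hb (hAN x.2) (t • v) = τ t • d.phi hb (hAN x.2) v :=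
        fun x => d.exists_sigma hb (hAN x.2)
      choose sig hsig using hsig
      refine card_le_of_autFun (fun q => sig q.out) fun q q' h => ?_
      rw [← QuotientGroup.out_eq' q, ← QuotientGroup.out_eq' q', QuotientGroup.eq, mem_subgroupOf]
      refine hS.ge (mem_inf.2 ⟨A.mul_mem (A.inv_mem (q.out).2) (q'.out).2,
        mul_mem (inv_mem (hAN (q.out).2)) (hAN (q'.out).2), fun t v => ?_⟩)
      refine d.phi_injective hb (hAN (q.out).2) ?_
      rw [hsig q.out, d.phi_mul hb (inv_mem (hAN (q.out).2)) (hAN (q'.out).2),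
        d.phi_mul hb (inv_mem (hAN (q.out).2)) (hAN (q'.out).2), d.phi_self_inv hb, d.phi_self_inv hb, hsig q'.out]
      exact congrArg (fun τ : F ≃+* F => τ t • d.phi hb (hAN (q'.out).2) v) h.symm
    have hbound : k * Nat.card Fx ≤ Fintype.card F := by
      refine le_trans ?_ (card_fixed_sq_le hσ1)
      by_cases hSC : S ≤ C
      · have hk1 : k ≤ 1 := (hkle {(0 : F)} fun x hx => by
          obtain ⟨hxA, hxV⟩ := mem_inf.1 (hC.le (hSC hx))
          have h1 := (d.phi_fix_of_cent hb (hAN hxA)).2 hxV ((0 : F) • g.1.mulVec ![1, 0] + (1 : F) • g.1.mulVec ![0, 1])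
          rw [hcS x hx, tv_mulVec] at h1
          simpa using (coords_inj g h1).1).trans (by simp)
        refine le_trans (Nat.mul_le_mul_right _ hk1) ?_
        rw [one_mul, ← Nat.card_prod, hFx]
        by_cases hex : ∃ w, (∀ x (hx : x ∈ A), d.phi hb (hAN hx) w = w) ∧ ∀ t : F, w ≠ t • g.1.mulVec ![1, 0]
        · obtain ⟨w, hw, hwn⟩ := hex
          obtain ⟨a₀, b₀, rfl⟩ := exists_coords g w
          have hb₀ : b₀ ≠ 0 := fun h => hwn a₀ (by rw [h, zero_smul, add_zero])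
          have hco : ∀ v : Fin 2 → F, ∃ α β : F, v = α • g.1.mulVec ![1, 0] +
              β • (a₀ • g.1.mulVec ![1, 0] + b₀ • g.1.mulVec ![0, 1]) := fun v => by
            obtain ⟨a', b', rfl⟩ := exists_coords g v
            refine ⟨a' - b' / b₀ * a₀, b' / b₀, ?_⟩
            rw [smul_add, smul_smul, smul_smul, ← add_assoc, ← add_smul, sub_add_cancel, div_mul_cancel₀ _ hb₀]
          choose α β hαβ using hco
          have hmem : ∀ v : {v : Fin 2 → F // ∀ x (hx : x ∈ A), d.phi hb (hAN hx) v = v},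
              σ (α v.1) = α v.1 ∧ σ (β v.1) = β v.1 := fun v => by
            have h1 := v.2 a ha
            conv_lhs at h1 => rw [hαβ v.1, map_add, hσ, hσ, hv₀A a ha, hw a ha]
            conv_rhs at h1 => rw [hαβ v.1]
            rw [smul_add, smul_smul, smul_smul, ← add_assoc, ← add_smul, smul_add, smul_smul, smul_smul, ← add_assoc,
              ← add_smul] at h1
            obtain ⟨e1, e2⟩ := coords_inj g h1
            have e3 : σ (β v.1) = β v.1 := mul_right_cancel₀ hb₀ e2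
            refine ⟨?_, e3⟩
            rw [e3] at e1
            exact add_right_cancel e1
          refine Nat.card_le_card_of_injective
            (fun v => ((⟨α v.1, (hmem v).1⟩, ⟨β v.1, (hmem v).2⟩) : {t : F // σ t = t} × {t : F // σ t = t})) ?_
          intro v v' h
          obtain ⟨e1, e2⟩ := Prod.ext_iff.1 h
          refine Subtype.ext ?_
          rw [hαβ v.1, hαβ v'.1, show α v.1 = α v'.1 from congrArg Subtype.val e1,
            show β v.1 = β v'.1 from congrArg Subtype.val e2]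
        · push Not at hex
          choose τ hτ using hex
          refine Nat.card_le_card_of_injective (fun v => ((⟨τ v.1 v.2, ?_⟩, ⟨0, map_zero σ⟩) :
            {t : F // σ t = t} × {t : F // σ t = t})) ?_
          · have h1 := v.2 a ha
            conv_lhs at h1 => rw [hτ v.1 v.2, hσ, hv₀A a ha]
            conv_rhs at h1 => rw [hτ v.1 v.2]
            exact smul_left_injective F hv₀ h1
          · intro v v' h
            refine Subtype.ext ?_
            rw [hτ v.1 v.2, hτ v'.1 v'.2, show τ v.1 v.2 = τ v'.1 v'.2 from congrArg Subtype.val (Prod.ext_iff.1 h).1]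
      · obtain ⟨β₀, β, hβ⟩ := exists_coords g (d.phi hb (hAN ha) (g.1.mulVec ![0, 1]))
        have hcomm : ∀ x (hx : x ∈ S), σ (cS x hx) = cS x hx * β := by
          intro x hx
          have h1 : d.phi hb (hAN ha) (d.phi hb (hAN (hSA hx)) (g.1.mulVec ![0, 1])) =
              d.phi hb (hAN (hSA hx)) (d.phi hb (hAN ha) (g.1.mulVec ![0, 1])) := by
            rw [← d.phi_mul hb, ← d.phi_mul hb, d.phi_congr hb (hAc a ha x (hSA hx))]
          have h2 : d.phi hb (hAN (hSA hx)) (g.1.mulVec ![0, 1]) =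
              cS x hx • g.1.mulVec ![1, 0] + (1 : F) • g.1.mulVec ![0, 1] := by
            conv_lhs => rw [show g.1.mulVec ![0, 1] = (0 : F) • g.1.mulVec ![1, 0] + (1 : F) • g.1.mulVec ![0, 1] by
              rw [zero_smul, one_smul, zero_add]]
            rw [hcS x hx, tv_mulVec, zero_add, mul_one]
          rw [h2, map_add, hσ, hσ, map_one, hv₀A a ha, hβ, hcS x hx, tv_mulVec, one_smul, ← add_assoc, ← add_smul] at h1
          linear_combination (coords_inj g h1).1
        obtain ⟨x, hx, hxC⟩ := SetLike.not_le_iff_exists.1 hSC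
        obtain ⟨c₁, hc₁, hc₁0, hc₁K⟩ : ∃ c₁, c₁ = cS x hx ∧ c₁ ≠ 0 ∧ σ c₁ = c₁ * β := ⟨_, rfl, fun h => hxC (by
          rw [hC]
          refine ⟨hSA hx, (d.phi_fix_of_cent hb (hAN (hSA hx))).1 fun w => ?_⟩
          obtain ⟨a', b', rfl⟩ := exists_coords g w
          rw [hcS x hx, tv_mulVec, h, zero_mul, add_zero]), hcomm x hx⟩
        refine Nat.mul_le_mul ?_ ?_
        · refine le_trans (hkle {c : F | σ c = c * β} fun y hy => hcomm y hy) ?_
          refine Nat.card_le_card_of_injective (fun c => (⟨(c : F) / c₁, ?_⟩ : {t : F // σ t = t})) fun c c' h => ?_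
          · have hβ0 : β ≠ 0 := fun h => hc₁0 ((map_eq_zero_iff σ σ.injective).1 (by rw [hc₁K, h, mul_zero]))
            rw [map_div₀, hc₁K, show σ (c : F) = c * β from c.2, mul_div_mul_right _ _ hβ0]
          · exact Subtype.ext ((div_left_inj' hc₁0).1 (congrArg Subtype.val h))
        · rw [hFx]
          have hτ : ∀ v : {v : Fin 2 → F // ∀ x (hx : x ∈ A), d.phi hb (hAN hx) v = v},
              ∃ t : F, v.1 = t • g.1.mulVec ![1, 0] := fun v => hline hSC v.1 v.2
          choose τ hτ using hτ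
          refine Nat.card_le_card_of_injective (fun v => (⟨τ v, ?_⟩ : {t : F // σ t = t})) fun v v' h => Subtype.ext ?_
          · have h1 := v.2 a ha
            conv_lhs at h1 => rw [hτ v, hσ, hv₀A a ha]
            conv_rhs at h1 => rw [hτ v]
            exact smul_left_injective F hv₀ h1
          · rw [hτ v, hτ v', show τ v = τ v' from congrArg Subtype.val h]
    rw [hrk, mul_assoc, pow_two] at hcnt
    have h5 : r * (k * Nat.card Fx) < Fintype.card F * Fintype.card F :=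
      lt_of_le_of_lt (Nat.mul_le_mul_left r hbound) (Nat.mul_lt_mul_of_pos_right hr' Fintype.card_pos)
    omega
  refine ⟨hall, fun hne => ⟨g, hv₀A, ?_, ?_⟩⟩
  · exact hline fun h => hne (((le_inf le_rfl hall).trans (hS.ge.trans h)).trans (hC.le.trans inf_le_right))
  have hSeq : S = A := le_antisymm hSA (hS ▸ le_inf le_rfl hall)
  have hSC : ¬ S ≤ C := fun h => hne ((hSeq.ge.trans h).trans (hC.le.trans inf_le_right))
  have hFx1 : Nat.card Fx ≤ Fintype.card F := by
    rw [hFx, ← Nat.card_eq_fintype_card]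
    have hτ : ∀ v : {v : Fin 2 → F // ∀ x (hx : x ∈ A), d.phi hb (hAN hx) v = v},
        ∃ t : F, v.1 = t • g.1.mulVec ![1, 0] := fun v => hline hSC v.1 v.2
    choose τ hτ using hτ
    exact Nat.card_le_card_of_injective τ fun v v' h => Subtype.ext (by rw [hτ v, hτ v', h])
  have hr1 : r = 1 := by
    rw [hr, hSeq, subgroupOf_self]
    exact (Nat.card_eq_one_iff_unique.2 ⟨QuotientGroup.subsingleton_quotient_top, inferInstance⟩)
  obtain ⟨K, hK⟩ : ∃ K, K = {c : F | ∃ x, ∃ hx : x ∈ S, cS x hx = c} := ⟨_, rfl⟩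
  have hK1 : Fintype.card F ≤ Nat.card K := by
    have h2 := hkle K fun x hx => hK ▸ ⟨x, hx, rfl⟩
    rw [hrk, hr1, one_mul, pow_two] at hcnt
    exact Nat.le_of_mul_le_mul_right (hcnt.trans (Nat.mul_le_mul h2 hFx1)) Fintype.card_pos
  intro c
  have hKu : K = Set.univ := Set.eq_of_subset_of_ncard_le (Set.subset_univ _) (by
    rw [Set.ncard_univ, Nat.card_eq_fintype_card, ← Nat.card_coe_set_eq]; exact hK1)
  obtain ⟨x, hx, rfl⟩ := hK.le (hKu.symm ▸ Set.mem_univ c)
  exact ⟨x, hSA hx, hcS x hx⟩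

/-- The Baumann subgroup acts as a full group of transvections. -/
theorem baumann_shape (hG : centralizer (Cfsg.pCore p G : Set G) ≤ Cfsg.pCore p G) (T : Sylow p G)
    (hE : Cfsg.IsBaumannBlock p (T : Subgroup G) E) (h3 : 3 ≤ Fintype.card F)
    (hBN : Cfsg.baumannSubgroupOf p (T : Subgroup G) ≤ normalizer (E : Set G)) :
    ∃ g : SL(2, F), (∀ b (hb' : b ∈ Cfsg.baumannSubgroupOf p (T : Subgroup G)), ∃ c : F,
        ∀ v, d.phi hb (hBN hb') v = (tv g c : Matrix (Fin 2) (Fin 2) F).mulVec v) ∧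
      ∀ c : F, ∃ b, ∃ hb' : b ∈ Cfsg.baumannSubgroupOf p (T : Subgroup G),
        ∀ v, d.phi hb (hBN hb') v = (tv g c : Matrix (Fin 2) (Fin 2) F).mulVec v := by
  haveI := d.charP
  obtain ⟨J, hJ⟩ : ∃ J, J = Cfsg.thompsonSubgroupOf p (T : Subgroup G) := ⟨_, rfl⟩
  have hJB : J ≤ Cfsg.baumannSubgroupOf p (T : Subgroup G) := hJ ▸ CfsgLib.BaumannNormal.thompson_le_baumann _
  have hJN := hJB.trans hBN
  have hcore : Cfsg.pCore p G ≤ (T : Subgroup G) := CfsgLib.Coprime.pCore_le_sylow T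
  have hmax : ∀ A, IsMaxEA p (T : Subgroup G) A → A ≤ J := fun A hA => hJ ▸ CfsgLib.Fusion.le_thompsonSubgroupOf hA
  have hJl : J ≤ linSub hb d := by
    rw [hJ, CfsgLib.Fusion.thompsonSubgroupOf_eq]
    exact sSup_le fun A hA => (maxEA_shape hb d hA hcore ((hmax A hA).trans hJN) (T.2.to_le hA.1)).1
  have hJp : IsPGroup p ↥J := hJ ▸ T.2.to_le (CfsgLib.Fusion.thompsonSubgroupOf_le _)
  obtain ⟨v₀, hv₀, hv₀J⟩ := d.exists_fixed_vec hb hJp hJN
  obtain ⟨A, hA, hAm⟩ : ∃ A, IsMaxEA p (T : Subgroup G) A ∧ ¬ A ≤ centralizer (vE p E : Set G) := by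
    by_contra! hcon
    refine CfsgLib.BaumannBlock.commutator_V_thompson_ne_bot T hE ?_
    rw [commutator_comm, commutator_eq_bot_iff_le_centralizer]
    rw [show ⁅CfsgLib.BaumannBlock.bW p E, E⁆ = vE p E by
      rw [CfsgLib.BaumannBlock.bW, pCoreOf_eq hb.sn]; rfl, CfsgLib.Fusion.thompsonSubgroupOf_eq]
    exact sSup_le fun A hA => hcon A hA
  obtain ⟨g, hgA, hgline, hgfull⟩ := (maxEA_shape hb d hA hcore ((hmax A hA).trans hJN) (T.2.to_le hA.1)).2 hAm
  obtain ⟨t₀, ht₀⟩ := hgline v₀ fun a ha => hv₀J a (hmax A hA ha)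
  have hJline : ∀ x (hx : x ∈ J) (c : F),
      d.phi hb (hJN hx) (c • g.1.mulVec ![1, 0]) = c • g.1.mulVec ![1, 0] := by
    intro x hx c
    obtain ⟨hx', hlin⟩ := hJl hx
    have ht : t₀ ≠ 0 := fun h => hv₀ (by rw [ht₀, h, zero_smul])
    have h1 : c • g.1.mulVec ![1, 0] = (c / t₀) • v₀ := by rw [ht₀, smul_smul, div_mul_cancel₀ _ ht]
    rw [h1]
    show d.phi hb hx' _ = _
    rw [hlin, show d.phi hb hx' v₀ = v₀ from hv₀J x hx]
  have hne : g.1.mulVec ![1, 0] ≠ 0 := fun h => hv₀ (by rw [ht₀, h, smul_zero])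
  refine ⟨g, fun b hb' => ?_, fun c => ?_⟩
  · have hbfix : ∀ c : F, d.phi hb (hBN hb') (c • g.1.mulVec ![1, 0]) = c • g.1.mulVec ![1, 0] := by
      intro c
      obtain ⟨a, ha, hac, haJ⟩ := fixed_lift hG hb T hE d h3 hJN hne hJline c
      have hap : a ^ p = 1 := vG_pow (hb.vV ha)
      have haT : a ∈ (T : Subgroup G) := hcore (vG_le (hb.vV ha))
      have haZ : a ∈ Cfsg.omegaOne p (Cfsg.centerThompsonOf p (T : Subgroup G)) := by
        refine subset_closure ⟨?_, hap⟩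
        show a ∈ Cfsg.thompsonSubgroupOf p (T : Subgroup G) ⊓
          centralizer (Cfsg.thompsonSubgroupOf p (T : Subgroup G) : Set G)
        exact mem_inf.2 ⟨CfsgLib.Fusion.le_thompsonSubgroupOf hA
          (CfsgLib.BaumannBlock.mem_isMaxEA_of_commutes hA haT hap fun x hx => haJ x (hmax A hA hx)),
          mem_centralizer_iff.2 fun j hj => haJ j (hJ.ge hj)⟩
      have hba := mem_centralizer_iff.1 (mem_inf.1 hb').2 a haZ
      rw [← hac, ← d.phi_pr hb (hBN hb') (vE_le E ha), ← hba, mul_inv_cancel_right]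
    obtain ⟨σ, hσ⟩ := d.exists_sigma hb (hBN hb')
    have hσ1 : ∀ t, σ t = t := fun t => by
      have h1 := hσ t (g.1.mulVec ![1, 0])
      rw [hbfix, show d.phi hb (hBN hb') (g.1.mulVec ![1, 0]) = g.1.mulVec ![1, 0] by
        simpa using hbfix 1] at h1
      exact (smul_left_injective F hne h1).symm
    obtain ⟨N, hN⟩ := (T.2.to_le (show Cfsg.baumannSubgroupOf p (T : Subgroup G) ≤ T from inf_le_left)) ⟨b, hb'⟩
    exact eq_tv hb d (hBN hb') (congrArg Subtype.val hN) (fun t v => by rw [hσ, hσ1]) (by simpa using hbfix 1)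
  · obtain ⟨a, ha, hav⟩ := hgfull c
    exact ⟨a, hJB (hmax A hA ha), hav⟩

end SLData

end CfsgLib.SubBlock
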