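import Cfsg.Agent.Lib.Char.SubBlock.SameModule

/-!
# Two subnormal blocks are equal or commute
-/

set_option autoImplicit false
set_option linter.unusedSectionVars false
set_option linter.style.haveILetI false

open Subgroup
open scoped commutatorElement

namespace CfsgLib.SubBlock

universe u
variable {G : Type u} [Group G] [Finite G] {p : ℕ} [hp : Fact p.Prime]

attribute [local instance] CfsgLib.Coprime.pCore_normal'

namespace SBlock

theorem small_or_component {E : Subgroup G} (hb : SBlock p E) : Cfsg.IsComponent (img p E) ∨ IsSmall p E := by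
  rcases hb.kind with hk | ⟨h3, -⟩ | ⟨h3, h8, -⟩
  · exact Or.inl hk
  · exact Or.inr (Or.inl h3)
  · exact Or.inr (Or.inr ⟨h3, h8⟩)

theorem commutator_le_of_img {E F : Subgroup G} (h : ⁅img p E, img p F⁆ = ⊥) : ⁅E, F⁆ ≤ Cfsg.pCore p G := by
  have h1 : (⁅E, F⁆).map (QuotientGroup.mk' (Cfsg.pCore p G)) = ⊥ := by rw [map_commutator]; exact h
  rw [Subgroup.map_eq_bot_iff, QuotientGroup.ker_mk'] at h1
  exact h1

theorem eq_of_img {E F : Subgroup G} (hE : SBlock p E) (hF : SBlock p F) (h : img p E = img p F) : E = F := by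
  have key : ∀ {A B : Subgroup G}, img p A = img p B → A ≤ B ⊔ Cfsg.pCore p G := by
    intro A B h
    have : A ≤ (img p B).comap (QuotientGroup.mk' (Cfsg.pCore p G)) := h ▸ le_comap_map _ _
    rwa [img, comap_map_eq, QuotientGroup.ker_mk'] at this
  exact le_antisymm (hE.le_of_le_sup hF (key h)) (hF.le_of_le_sup hE (key h.symm))

theorem component_small {E F : Subgroup G} (hE : SBlock p E) (hF : SBlock p F) (hk : Cfsg.IsComponent (img p E))
    (hs : IsSmall p F) : ⁅E, F⁆ ≤ Cfsg.pCore p G := by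
  obtain ⟨q, hq, hpg⟩ : ∃ q : ℕ, q.Prime ∧ IsPGroup q ↥(img p F) := by
    rcases hs with ⟨-, hc⟩ | ⟨-, hc⟩
    · exact ⟨3, Nat.prime_three, IsPGroup.of_card (n := 1) (by rw [hc]; norm_num)⟩
    · exact ⟨2, Nat.prime_two, IsPGroup.of_card (n := 3) (by rw [hc]; norm_num)⟩
  haveI : Fact q.Prime := ⟨hq⟩
  have hle : img p F ≤ Cfsg.pCore q (G ⧸ Cfsg.pCore p G) :=
    CfsgLib.Coprime.le_pCore_of_isSubnormal (hF.sn.map (QuotientGroup.mk'_surjective _)) hpg
  refine commutator_le_of_img (le_bot_iff.1 ((commutator_mono le_rfl hle).trans (le_of_eq ?_)))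
  refine CfsgLib.Coprime.component_commutator_solvable_eq_bot hk
    (CfsgLib.Coprime.isSolvable_of_isNilpotent (CfsgLib.Coprime.pCore_isPGroup q).isNilpotent) ?_
  rw [normalizer_eq_top_iff.2 (CfsgLib.Coprime.pCore_normal' q)]
  exact le_top

/-- A subnormal block different from the normal closure lies in a smaller group. -/
theorem card_lt_of_moving {E F : Subgroup G} (hE : SBlock p E) {g : G} (hg : g ∈ F) (hmove : cjS g E ≠ E) :
    Nat.card ↥(E ⊔ cjS g E ⊔ Cfsg.pCore p G) < Nat.card ↥(E ⊔ F ⊔ Cfsg.pCore p G) := by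
  set Q := Cfsg.pCore p G
  set H := E ⊔ F ⊔ Q
  have hEH : E ⊔ Q ≤ H := sup_le (le_sup_left.trans le_sup_left) le_sup_right
  rcases ((CfsgLib.Coprime.isSubnormal_sup_normal hE.sn Q).subgroupOf (K := H)).lt_normal with h | ⟨K, hK, hle, hlt⟩
  · exfalso
    rw [subgroupOf_eq_top] at h
    have hgEQ : g ∈ E ⊔ Q := h (mem_sup_left (mem_sup_right hg))
    have hN : E ⊔ Q ≤ normalizer (E : Set G) := sup_le le_normalizer hE.qn
    exact hmove (CfsgLib.Fusion.conjBy_eq_iff.2 (hN hgEQ))
  · have hmem : ∀ x ∈ E ⊔ Q, ∃ y : ↥H, (y : G) = x ∧ y ∈ K := fun x hx => ⟨⟨x, hEH hx⟩, rfl, hle hx⟩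
    have hle' : E ⊔ cjS g E ⊔ Q ≤ K.map H.subtype := by
      refine sup_le (sup_le ?_ ?_) ?_
      · intro x hx
        obtain ⟨y, hy, hyK⟩ := hmem x (mem_sup_left hx)
        exact ⟨y, hyK, hy⟩
      · rintro _ ⟨x, hx, rfl⟩
        obtain ⟨y, hy, hyK⟩ := hmem x (mem_sup_left hx)
        have hgH : g ∈ H := mem_sup_left (mem_sup_right hg)
        exact ⟨_, hK.conj_mem y hyK ⟨g, hgH⟩, by simp [hy]⟩
      · intro x hx
        obtain ⟨y, hy, hyK⟩ := hmem x (mem_sup_right hx)
        exact ⟨y, hyK, hy⟩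
    calc Nat.card ↥(E ⊔ cjS g E ⊔ Q) ≤ Nat.card ↥(K.map H.subtype) := Subgroup.card_le_of_le hle'
      _ = Nat.card ↥K := (Nat.card_congr (K.equivMapOfInjective _ H.subtype_injective).toEquiv).symm
      _ < Nat.card ↥(⊤ : Subgroup ↥H) := CfsgLib.Coprime.card_lt_of_lt hlt
      _ = Nat.card ↥H := card_top

theorem small_small (hG : centralizer (Cfsg.pCore p G : Set G) ≤ Cfsg.pCore p G) :
    ∀ n : ℕ, ∀ E F : Subgroup G, SBlock p E → SBlock p F → IsSmall p E → IsSmall p F →
      Nat.card ↥(E ⊔ F ⊔ Cfsg.pCore p G) = n → ⁅E, F⁆ ≤ Cfsg.pCore p G ∨ E = F := by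
  intro n
  induction n using Nat.strongRecOn with
  | ind n ih =>
    intro E F hE hF hEs hFs hn
    have hnorm : ∀ {A B : Subgroup G}, SBlock p A → SBlock p B → IsSmall p A → IsSmall p B →
        Nat.card ↥(A ⊔ B ⊔ Cfsg.pCore p G) = n → B ≤ normalizer (A : Set G) := by
      intro A B hA hB hAs hBs hAB
      refine le_norm_of_com hA hB hAs hBs fun g hg hmove => ?_
      have hlt := card_lt_of_moving hA hg hmove
      rw [hAB] at hlt
      rcases ih _ hlt A (cjS g A) hA (hA.conj g) hAs (hAs.img_cjS g) rfl with h | h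
      · exact (eq_or_commute hG hA (hA.conj g) h).resolve_left (fun e => hmove e.symm)
      · exact absurd h.symm hmove
    have hFN := hnorm hE hF hEs hFs hn
    have hEN := hnorm hF hE hFs hEs (by rw [sup_comm F E]; exact hn)
    by_cases hne : ⁅E, F⁆ ≤ Cfsg.pCore p G
    · exact Or.inl hne
    refine Or.inr ?_
    rcases hEs with hE3 | hE8
    · have hF3 : IsThree p F := hFs.resolve_right fun h => by have := h.1; have := hE3.1; omega
      obtain ⟨y, hy, hyQ⟩ := SetLike.not_le_iff_exists.1 hne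
      have hle1 : ⁅E, F⁆ ≤ E := CfsgLib.BaumannBlock.commutator_le_of_normalizes hFN
      have hle2 : ⁅E, F⁆ ≤ F := by
        rw [commutator_comm]; exact CfsgLib.BaumannBlock.commutator_le_of_normalizes hEN
      exact le_antisymm
        (hE.le_of_le_sup hF ((hE.exists_gen hE3.2 (hle1 hy) hyQ).trans ((closure_le _).2
          (Set.insert_subset (mem_sup_left (hle2 hy)) fun x hx => mem_sup_right (qE_le_core E hx)))))
        (hF.le_of_le_sup hE ((hF.exists_gen hF3.2 (hle2 hy) hyQ).trans ((closure_le _).2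
          (Set.insert_subset (mem_sup_left (hle1 hy)) fun x hx => mem_sup_right (qE_le_core F hx)))))
    · have hF8 : p = 3 ∧ Nat.card ↥(img p F) = 8 := hFs.resolve_left fun h => by have := h.1; have := hE8.1; omega
      exact le_antisymm (eight_eight hG hF hE hF8 hE8 hEN hFN (by rwa [commutator_comm]))
        (eight_eight hG hE hF hE8 hF8 hFN hEN hne)

/-- Two subnormal blocks are equal or commute. -/
theorem eq_or_commute' (hG : centralizer (Cfsg.pCore p G : Set G) ≤ Cfsg.pCore p G) {E F : Subgroup G}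
    (hE : SBlock p E) (hF : SBlock p F) : E = F ∨ ⁅E, F⁆ = ⊥ := by
  suffices h : ⁅E, F⁆ ≤ Cfsg.pCore p G ∨ E = F from h.elim (eq_or_commute hG hE hF) Or.inl
  rcases hE.small_or_component with hEk | hEs <;> rcases hF.small_or_component with hFk | hFs
  · by_cases h : img p E = img p F
    · exact Or.inr (eq_of_img hE hF h)
    · exact Or.inl (commutator_le_of_img (CfsgLib.Coprime.components_commute hEk hFk h))
  · exact Or.inl (component_small hE hF hEk hFs)
  · refine Or.inl ?_
    rw [commutator_comm]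
    exact component_small hF hE hFk hEs
  · exact small_small hG _ E F hE hF hEs hFs rfl

end SBlock

end CfsgLib.SubBlock
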