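import Cfsg.Agent.Lib.Char.SubBlock.Small2
import Cfsg.Agent.Lib.Char.SubBlock.Act
import Cfsg.Prelude.Def_BaumannBlocks

/-!
# The natural modules of blocks: elementary consequences
-/

set_option autoImplicit false
set_option linter.unusedSectionVars false
set_option linter.style.haveILetI false

open Subgroup
open scoped commutatorElement MatrixGroups

namespace CfsgLib.SubBlock

universe u
variable {G : Type u} [Group G]

section SL

variable {F : Type*} [Field F] [Fintype F] {E U U₀ : Subgroup G}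

/-- The order of the section of a natural module. -/
theorem sl_card {R : Subgroup SL(2, F)} (h : Cfsg.ActsAsSL2OnSection F R E U U₀) :
    Nat.card ↥U = Fintype.card F ^ 2 * Nat.card ↥U₀ := by
  obtain ⟨-, hle, -, ψ, -, hψ, hker, -⟩ := h
  rw [card_eq_card_quotient_mul_card_subgroup (U₀.subgroupOf U), Nat.card_congr (subgroupOfEquivOfLe hle).toEquiv]
  congr 1
  rw [← show ψ.ker = U₀.subgroupOf U from ext fun u => hker u,
    Nat.card_congr (QuotientGroup.quotientKerEquivOfSurjective ψ hψ).toEquiv, Nat.card_congr Multiplicative.toAdd,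
    Nat.card_fun, Nat.card_eq_fintype_card, Nat.card_eq_fintype_card, Fintype.card_fin]

/-- A non-abelian image gives a commutator acting non-trivially. -/
theorem sl_nonfix (h : Cfsg.ActsAsSL2OnSection F (commutator SL(2, F)) E U U₀) (h3 : 3 ≤ Fintype.card F) :
    ∃ z ∈ ⁅E, E⁆, ¬ Triv U U₀ z := by
  obtain ⟨-, -, ρ, ψ, hρ, hψ, hker, hact⟩ := h
  obtain ⟨a, ha, b, hb, hab⟩ := comm_noncomm (F := F) h3
  obtain ⟨x, rfl⟩ : a ∈ ρ.range := hρ ▸ ha
  obtain ⟨y, rfl⟩ : b ∈ ρ.range := hρ ▸ hb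
  refine ⟨((⁅x, y⁆ : ↥E) : G), ?_, fun ht => hab (commutatorElement_eq_one_iff_mul_comm.1 ?_)⟩
  · rw [commutatorElement_def]
    exact commutator_mem_commutator x.2 y.2
  rw [← map_commutatorElement]
  refine Subtype.ext (Matrix.mulVec_injective (funext fun v => ?_))
  obtain ⟨u, hu⟩ := hψ (Multiplicative.ofAdd v)
  obtain ⟨w, hw, hwv⟩ := hact ⁅x, y⁆ u
  have h1 : ψ w = ψ u := by
    rw [← mul_inv_eq_one, ← map_inv, ← map_mul, hker]
    show (w : G) * (u : G)⁻¹ ∈ U₀
    rw [hw, ← commutatorElement_def]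
    exact ht u u.2
  rw [h1, hu] at hwv
  simpa using hwv.symm

end SL

section Perm

variable {E U U₀ : Subgroup G}

/-- The order of the section of the module of degree three. -/
theorem perm_card {R : Subgroup (Equiv.Perm (Fin (2 * 1 + 1)))}
    (h : Cfsg.ActsAsOddPermModuleOnSection (2 * 1 + 1) R E U U₀) : Nat.card ↥U = 4 * Nat.card ↥U₀ := by
  obtain ⟨-, hle, -, ψ, -, hev, hsur, hker, -⟩ := h
  rw [card_eq_card_quotient_mul_card_subgroup (U₀.subgroupOf U), Nat.card_congr (subgroupOfEquivOfLe hle).toEquiv]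
  congr 1
  rw [← show ψ.ker = U₀.subgroupOf U from ext fun u => hker u,
    Nat.card_congr (QuotientGroup.quotientKerEquivRange ψ).toEquiv]
  have e : ↥ψ.range ≃ {v : Fin (2 * 1 + 1) → ZMod 2 // ∑ i, v i = 0} :=
    { toFun := fun x => ⟨Multiplicative.toAdd x.1, by obtain ⟨u, hu⟩ := x.2; rw [← hu]; exact hev u⟩
      invFun := fun v => ⟨Multiplicative.ofAdd v.1, by
        obtain ⟨u, hu⟩ := hsur v.1 v.2
        exact ⟨u, Multiplicative.toAdd.injective hu⟩⟩
      left_inv := fun _ => rfl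
      right_inv := fun _ => rfl }
  rw [Nat.card_congr e, Nat.card_eq_fintype_card]
  decide

/-- A non-abelian image gives a commutator acting non-trivially. -/
theorem perm_nonfix {m : ℕ} (hm : 2 ≤ m)
    (h : Cfsg.ActsAsOddPermModuleOnSection (2 * m + 1) (alternatingGroup (Fin (2 * m + 1))) E U U₀) :
    ∃ z ∈ ⁅E, E⁆, ¬ Triv U U₀ z := by
  obtain ⟨-, -, ρ, ψ, hρ, -, hsur, hker, hact⟩ := h
  obtain ⟨⟨a, ha⟩, ⟨b, hb⟩, hab⟩ := alternating_noncomm hm
  obtain ⟨x, rfl⟩ : a ∈ ρ.range := hρ ▸ ha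
  obtain ⟨y, rfl⟩ : b ∈ ρ.range := hρ ▸ hb
  refine ⟨((⁅x, y⁆ : ↥E) : G), ?_, fun ht => hab (Subtype.ext (commutatorElement_eq_one_iff_mul_comm.1 ?_))⟩
  · rw [commutatorElement_def]
    exact commutator_mem_commutator x.2 y.2
  show ⁅ρ x, ρ y⁆ = 1
  rw [← map_commutatorElement, ← inv_eq_one]
  obtain ⟨σ, hσ⟩ : ∃ σ, σ = (ρ ⁅x, y⁆)⁻¹ := ⟨_, rfl⟩
  rw [← hσ]
  have hfix : ∀ v : Fin (2 * m + 1) → ZMod 2, ∑ i, v i = 0 → ∀ i, v (σ i) = v i := by
    intro v hv i
    obtain ⟨u, hu⟩ := hsur v hv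
    obtain ⟨w, hw, hwv⟩ := hact ⁅x, y⁆ u
    have h1 : ψ w = ψ u := by
      rw [← mul_inv_eq_one, ← map_inv, ← map_mul, hker]
      show (w : G) * (u : G)⁻¹ ∈ U₀
      rw [hw, ← commutatorElement_def]
      exact ht u u.2
    rw [← hu, hσ, ← hwv i, h1]
  refine Equiv.ext fun i => ?_
  by_contra hne
  rw [Equiv.Perm.one_apply] at hne
  obtain ⟨j, -, hj⟩ := Finset.exists_mem_notMem_of_card_lt_card (s := ({i, σ i} : Finset (Fin (2 * m + 1))))
    (t := Finset.univ) (lt_of_le_of_lt Finset.card_le_two (by rw [Finset.card_univ, Fintype.card_fin]; omega))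
  simp only [Finset.mem_insert, Finset.mem_singleton, not_or] at hj
  have := hfix (Pi.single i 1 + Pi.single j 1) (by simp [Finset.sum_add_distrib, CharTwo.add_self_eq_zero]) i
  simp [hne, hj.1, hj.2, Ne.symm hj.1, Ne.symm hj.2] at this

end Perm

end CfsgLib.SubBlock
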