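import Cfsg.Agent.Lib.Char.SubBlock.Fitting
import Cfsg.Agent.Lib.Char.SubBlock.Module

/-!
# Subnormal blocks satisfy `SBlock`
-/

set_option autoImplicit false
set_option linter.unusedSectionVars false
set_option linter.style.haveILetI false
set_option maxHeartbeats 1000000

open Subgroup
open scoped commutatorElement MatrixGroups

namespace CfsgLib.SubBlock

universe u
variable {G : Type u} [Group G] [Finite G] {p : ℕ} [hp : Fact p.Prime] {E : Subgroup G}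

attribute [local instance] CfsgLib.Coprime.pCore_normal'

theorem pCoreOf_eq (hEs : E.IsSubnormal) : Cfsg.pCoreOf p E = qE p E := by
  refine le_antisymm (le_inf ?_ ?_) (CfsgLib.JComp.le_pCoreOf (qE_le E) (SBlock.isPGroup_qE E) ?_)
  · rintro _ ⟨x, -, rfl⟩
    exact x.2
  · refine CfsgLib.Coprime.le_pCore_of_isSubnormal ?_ (CfsgLib.JComp.isPGroup_pCoreOf p E)
    exact IsSubnormal.trans' (CfsgLib.Coprime.pCore_normal' p).isSubnormal hEs
  · exact fun e he => qE_norm (le_normalizer he)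

theorem mem_pCore_iff (hEs : E.IsSubnormal) (x : ↥E) : x ∈ Cfsg.pCore p ↥E ↔ (x : G) ∈ Cfsg.pCore p G := by
  have h := pCoreOf_eq (p := p) hEs
  constructor
  · intro hx
    exact (h.le ⟨x, hx, rfl⟩).2
  · intro hx
    obtain ⟨y, hy, hyx⟩ := h.ge (⟨x.2, hx⟩ : (x : G) ∈ qE p E)
    rwa [← Subtype.ext hyx]

theorem exists_imgEquiv (hEs : E.IsSubnormal) : Nonempty (↥(img p E) ≃* ↥E ⧸ Cfsg.pCore p ↥E) := by
  have hk : ((QuotientGroup.mk' (Cfsg.pCore p G)).comp E.subtype).ker = Cfsg.pCore p ↥E :=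
    ext fun x => (QuotientGroup.eq_one_iff _).trans (mem_pCore_iff hEs x).symm
  have hr : ((QuotientGroup.mk' (Cfsg.pCore p G)).comp E.subtype).range = img p E := by
    rw [MonoidHom.range_eq_map, ← Subgroup.map_map, ← MonoidHom.range_eq_map, range_subtype]
    rfl
  exact ⟨((QuotientGroup.quotientMulEquivOfEq hk.symm).trans
    ((QuotientGroup.quotientKerEquivRange _).trans (MulEquiv.subgroupCongr hr))).symm⟩

/-- The representation of a block of linear type, with its kernel. -/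
theorem sl_rho {F : Type*} [Field F] [Fintype F] (hEs : E.IsSubnormal)
    (hiso : Nonempty (↥E ⧸ Cfsg.pCore p ↥E ≃* ↥(commutator SL(2, F))))
    (hW : Cfsg.ActsAsSL2OnSection F (commutator SL(2, F)) E (wE p E) (zE p E)) :
    ∃ (ρ : ↥E →* SL(2, F)) (ψ : ↥(wE p E) →* Multiplicative (Fin 2 → F)), ρ.range = commutator SL(2, F) ∧
      Function.Surjective ψ ∧ (∀ x : ↥E, ρ x = 1 ↔ (x : G) ∈ Cfsg.pCore p G) ∧
      (∀ u : ↥(wE p E), ψ u = 1 ↔ (u : G) ∈ zE p E) ∧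
      ∀ (e : ↥E) (u : ↥(wE p E)), ∃ w : ↥(wE p E), (w : G) = (e : G) * (u : G) * (e : G)⁻¹ ∧
          Multiplicative.toAdd (ψ w) =
            ((ρ e : SL(2, F)) : Matrix (Fin 2) (Fin 2) F).mulVec (Multiplicative.toAdd (ψ u)) := by
  obtain ⟨φ⟩ := hiso
  obtain ⟨-, -, ρ, ψ, hρ, hψ, hker, hact⟩ := hW
  refine ⟨ρ, ψ, hρ, hψ, fun x => ?_, hker, hact⟩
  have hle : Cfsg.pCore p ↥E ≤ ρ.ker := fun x hx => by
    refine Subtype.ext (Matrix.mulVec_injective (funext fun v => ?_))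
    obtain ⟨u, hu⟩ := hψ (Multiplicative.ofAdd v)
    obtain ⟨w, hw, hwv⟩ := hact x u
    have : w = u := Subtype.ext (by
      rw [hw, wE_comm u.2 (⟨x.2, (mem_pCore_iff hEs x).1 hx⟩ : (x : G) ∈ qE p E), mul_inv_cancel_right])
    rw [this, hu] at hwv
    simpa using hwv.symm
  have hc : Nat.card ρ.range * Nat.card ρ.ker = Nat.card ↥E := by
    rw [← Nat.card_congr (QuotientGroup.quotientKerEquivRange ρ).toEquiv]
    exact (card_eq_card_quotient_mul_card_subgroup _).symm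
  have heq : Cfsg.pCore p ↥E = ρ.ker := by
    refine eq_of_le_of_card_ge hle ?_
    rw [hρ, ← Nat.card_congr φ.toEquiv, card_eq_card_quotient_mul_card_subgroup (Cfsg.pCore p ↥E)] at hc
    exact (Nat.eq_of_mul_eq_mul_left Nat.card_pos hc).le
  rw [← mem_pCore_iff hEs, heq, MonoidHom.mem_ker]

/-- The involution of a block of type `Q₈`. -/
theorem eight_rho {F : Type*} [Field F] [Fintype F] (hF : Fintype.card F = 3) (hEs : E.IsSubnormal)
    (hiso : Nonempty (↥E ⧸ Cfsg.pCore p ↥E ≃* ↥(commutator SL(2, F))))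
    (hW : Cfsg.ActsAsSL2OnSection F (commutator SL(2, F)) E (wE p E) (zE p E))
    (hVZ : vE p E ⊓ zE p E = ⊥) :
    (∀ e ∈ E, e ^ 2 ∉ Cfsg.pCore p G → ∀ v ∈ vE p E, e ^ 2 * v * (e ^ 2)⁻¹ = v⁻¹) ∧
      (∀ e ∈ E, e ∉ Cfsg.pCore p G → e ^ 2 ∈ Cfsg.pCore p G →
        ∃ g ∈ E, g ^ 2 ∉ Cfsg.pCore p G ∧ e⁻¹ * g ^ 2 ∈ Cfsg.pCore p G) ∧
      (∃ e ∈ E, e ^ 2 ∉ Cfsg.pCore p G) := by
  obtain ⟨ρ, ψ, hρ, -, hρ1, hker, hact⟩ := sl_rho hEs hiso hW
  have hcl : ∀ x : ↥E, (ρ x ^ 2 = 1 ∨ ρ x ^ 2 = -1) ∧ (ρ x ^ 2 = 1 → ρ x = 1 ∨ ρ x = -1) :=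
    fun x => eight_class hF (hρ ▸ ⟨x, rfl⟩)
  have hsq : ∀ x : ↥E, ρ x ^ 2 = 1 ↔ (x : G) ^ 2 ∈ Cfsg.pCore p G := fun x => by
    rw [← map_pow]
    exact hρ1 (x ^ 2)
  obtain ⟨a, ha, ha2⟩ := exists_sq_ne_one (F := F) hF
  obtain ⟨g, rfl⟩ : a ∈ ρ.range := hρ ▸ ha
  refine ⟨fun e he h2 v hv => ?_, fun e he hne h2 => ⟨g, g.2, mt (hsq g).2 ha2, ?_⟩, g, g.2, mt (hsq g).2 ha2⟩
  · have hm : ρ ⟨e, he⟩ ^ 2 = -1 := (hcl ⟨e, he⟩).1.resolve_left (mt (hsq ⟨e, he⟩).1 h2)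
    obtain ⟨w, hw, hwv⟩ := hact (⟨e, he⟩ ^ 2) ⟨v, vE_le E hv⟩
    rw [map_pow, hm, Matrix.SpecialLinearGroup.coe_neg, Matrix.SpecialLinearGroup.coe_one, Matrix.neg_mulVec,
      Matrix.one_mulVec] at hwv
    have h1 : ψ (w * ⟨v, vE_le E hv⟩) = 1 := by
      refine Multiplicative.toAdd.injective ?_
      rw [map_mul, toAdd_mul, hwv, neg_add_cancel, toAdd_one]
    have h3 : (w : G) * v ∈ vE p E ⊓ zE p E := mem_inf.2 ⟨mul_mem (by
      rw [hw]
      exact (mem_normalizer_iff.1 (vE_norm (le_normalizer (pow_mem he 2))) v).1 hv) hv, (hker _).1 h1⟩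
    rw [hVZ, mem_bot, mul_eq_one_iff_eq_inv, hw] at h3
    exact h3
  · have h1 : ρ ⟨e, he⟩ = -1 := ((hcl ⟨e, he⟩).2 ((hsq ⟨e, he⟩).2 h2)).resolve_left (mt (hρ1 ⟨e, he⟩).1 hne)
    have h3 : ρ g ^ 2 = -1 := (hcl g).1.resolve_left ha2
    refine (hρ1 (⟨e, he⟩⁻¹ * g ^ 2)).1 ?_
    rw [map_mul, map_inv, map_pow, h1, h3, inv_mul_cancel]

/-- Some element of `B(T)` moves `W`. -/
theorem exists_moving (T : Sylow p G) (hE : Cfsg.IsBaumannBlock p (T : Subgroup G) E) (hEs : E.IsSubnormal)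
    (hker : E ⊓ centralizer (wE p E : Set G) ≤ qE p E) :
    ∃ b ∈ Cfsg.baumannSubgroupOf p (T : Subgroup G), b ∉ centralizer (wE p E : Set G) ∧
      b ∈ normalizer (E : Set G) ∧ IsPGroup p ↥(zpowers b) := by
  obtain ⟨B, hB⟩ : ∃ B, B = Cfsg.baumannSubgroupOf p (T : Subgroup G) := ⟨_, rfl⟩
  rw [← hB]
  have hEB : ⁅E, B⁆ = E := hB ▸ hE.2.1
  have hBn : B ≤ normalizer (E : Set G) := by
    intro b hbB
    refine CfsgLib.Fusion.conjBy_eq_iff.1 (CfsgLib.Fusion.conjBy_eq_of_le ?_)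
    rw [CfsgLib.Fusion.conjBy, map_le_iff_le_comap]
    intro e he
    show b * e * b⁻¹ ∈ E
    rw [show b * e * b⁻¹ = ⁅e, b⁆⁻¹ * e by simp only [commutatorElement_def]; group]
    exact mul_mem (inv_mem (hEB.le (commutator_mem_commutator he hbB))) he
  obtain ⟨b, hb, hbW⟩ : ∃ b ∈ B, b ∉ centralizer (wE p E : Set G) := by
    by_contra! hc
    have h0 : ⁅B, wE p E⁆ = ⊥ := commutator_eq_bot_iff_le_centralizer.2 hc
    have hWB : ⁅wE p E, B⁆ = ⊥ := by rw [commutator_comm, h0]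
    have h1 : ⁅⁅B, wE p E⁆, E⁆ = ⊥ := by rw [h0, commutator_bot_left]
    have h2 : ⁅⁅wE p E, E⁆, B⁆ = ⊥ :=
      eq_bot_iff.2 ((commutator_mono (vE_le E) le_rfl).trans hWB.le)
    have h3 : ⁅⁅E, B⁆, wE p E⁆ = ⊥ := commutator_commutator_eq_bot_of_rotate h1 h2
    rw [hEB, commutator_eq_bot_iff_le_centralizer] at h3
    refine CfsgLib.BaumannBlock.ne_bot_of_block hE (CfsgLib.BaumannBlock.eq_bot_of_isPGroup ?_ hE.1)
    exact (SBlock.isPGroup_qE E).to_le ((le_inf le_rfl h3).trans hker)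
  refine ⟨b, hb, hbW, hBn hb, T.2.to_le (zpowers_le.2 ?_)⟩
  rw [hB] at hb
  exact (show Cfsg.baumannSubgroupOf p (T : Subgroup G) ≤ (T : Subgroup G) from inf_le_left) hb

/-- A subnormal block is an `SBlock`. -/
theorem sblock_of_block (hG : centralizer (Cfsg.pCore p G : Set G) ≤ Cfsg.pCore p G) (T : Sylow p G)
    (hE : Cfsg.IsBaumannBlock p (T : Subgroup G) E) (hEs : E.IsSubnormal) : SBlock p E := by
  have hq := pCoreOf_eq (p := p) hEs
  have hw : CfsgLib.BaumannBlock.bW p E = wE p E := by rw [CfsgLib.BaumannBlock.bW, hq]; rfl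
  have hz : CfsgLib.BaumannBlock.bZ p E = zE p E := by rw [CfsgLib.BaumannBlock.bZ, hw]; rfl
  have hb := CfsgLib.BaumannBlock.blockFacts hE
  have hne := CfsgLib.BaumannBlock.ne_bot_of_block hE
  have hv : ⁅CfsgLib.BaumannBlock.bW p E, E⁆ = vE p E := by rw [hw]; rfl
  have hirr : ∀ M : Subgroup G, M ≤ wE p E → zE p E ≤ M → E ≤ normalizer (M : Set G) →
      M = zE p E ∨ M = wE p E := by
    intro M h1 h2 h3
    have := hb.irr M (hw ▸ h1) (hz ▸ h2) h3
    rwa [hw, hz] at this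
  have hker : E ⊓ centralizer (wE p E : Set G) ≤ qE p E := by
    have := hb.ker
    rwa [hw, hq] at this
  have hcommQ : ⁅qE p E, E⁆ = qE p E := by
    have := hb.commQ
    rwa [hq] at this
  have hres : E ≤ closure {g : G | g ∈ E ∧ (orderOf g).Coprime p} :=
    le_of_eq (hE.1.symm.trans (CfsgLib.BaumannNormal.pResidualOf_eq_closure E))
  have hsnI : (img p E).IsSubnormal := hEs.map (QuotientGroup.mk'_surjective _)
  obtain ⟨θ⟩ := exists_imgEquiv (p := p) hEs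
  have hpne : ¬ IsPGroup p ↥E := fun h => hne (CfsgLib.BaumannBlock.eq_bot_of_isPGroup h hE.1)
  suffices hrest : (qE p E ≠ wE p E → p = 3 ∧
      (∀ M : Subgroup G, M ≤ qE p E → wE p E ≤ M → E ≤ normalizer (M : Set G) → M = wE p E ∨ M = qE p E) ∧
      ⁅qE p E, qE p E⁆ = zE p E ∧ zE p E ≠ ⊥) ∧
    (¬ IsThree p E → (∃ z ∈ ⁅E, E⁆, ¬ Triv (wE p E) (zE p E) z) ∧
      (qE p E ≠ wE p E → ∃ z ∈ ⁅E, E⁆, ¬ Triv (qE p E) (wE p E) z)) ∧
    (Cfsg.IsComponent (img p E) ∨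
    (IsThree p E ∧ qE p E = wE p E ∧ Nat.card ↥(vE p E) = 4 ∧ zE p E = ⊥) ∨
    (p = 3 ∧ Nat.card ↥(img p E) = 8 ∧ Nat.card ↥(vE p E) = 9 ∧ vE p E ⊓ zE p E = ⊥ ∧
      (∀ e ∈ E, e ^ 2 ∉ Cfsg.pCore p G → ∀ v ∈ vE p E, e ^ 2 * v * (e ^ 2)⁻¹ = v⁻¹) ∧
      (∀ e ∈ E, e ∉ Cfsg.pCore p G → e ^ 2 ∈ Cfsg.pCore p G →
        ∃ g ∈ E, g ^ 2 ∉ Cfsg.pCore p G ∧ e⁻¹ * g ^ 2 ∈ Cfsg.pCore p G) ∧
      (∃ e ∈ E, e ^ 2 ∉ Cfsg.pCore p G) ∧
      (qE p E ≠ wE p E → Nat.card ↥(qE p E) = 9 * Nat.card ↥(wE p E) ∧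
        ∃ t ∈ normalizer (E : Set G), IsPGroup p ↥(zpowers t) ∧
          ¬ ⁅⁅qE p E, zpowers t⁆, zpowers t⁆ ≤ zE p E))) by
    exact
      { sn := hEs
        res := hres
        ne := hne
        qn := CfsgLib.BaumannBlock.pCore_le_normalizer T hE
        commQ := hcommQ
        ker := by
          have := CfsgLib.BaumannBlock.inf_centralizer_V_le hb hne
          rw [hv, hq] at this
          exact this.trans (qE_le_core E)
        vz := by
          have := CfsgLib.BaumannBlock.V_sup_Z hb hne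
          rwa [hv, hz, hw] at this
        vV := by
          have := CfsgLib.BaumannBlock.V_le_omegaOneCenter hG T hE
          rwa [hv] at this
        irr := hirr
        exc := hrest.1
        nfix := hrest.2.1
        kind := hrest.2.2 }
  -- a group of type `C₃` with its module of order four
  have hthree : p = 2 → Nat.card ↥(img p E) = 3 → qE p E = wE p E →
      Nat.card ↥(wE p E) = 4 * Nat.card ↥(zE p E) →
      IsThree p E ∧ qE p E = wE p E ∧ Nat.card ↥(vE p E) = 4 ∧ zE p E = ⊥ := by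
    intro h2 h3 h0 hcW
    haveI : Fact (Nat.Prime 3) := ⟨Nat.prime_three⟩
    obtain ⟨hVZ, hVc⟩ := small_module (q := 3) (k := 1) (by rw [h3]; norm_num) one_ne_zero (by omega) hker hirr
    refine ⟨⟨h2, h3⟩, h0, Nat.eq_of_mul_eq_mul_right Nat.card_pos (hVc.symm.trans hcW), ?_⟩
    rw [← hVZ, eq_comm, inf_eq_right, show vE p E = wE p E by rw [vE, ← h0, hcommQ]]
    exact zE_le E
  rcases hE.2.2.2.2 with ⟨F, i₁, i₂, n, hF, hiso, hW, hcase⟩ | ⟨h2, m, hiso, hW, hcase⟩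
  · rw [hq] at hW hcase
    change Cfsg.ActsAsSL2OnSection F _ E (wE p E) (zE p E) at hW
    have himg : Nat.card ↥(img p E) = Nat.card ↥(commutator SL(2, F)) :=
      hiso.elim fun φ => Nat.card_congr (θ.trans φ).toEquiv
    have h1F : 1 < Fintype.card F := Fintype.one_lt_card
    have hn : n ≠ 0 := fun h => by rw [h, pow_zero] at hF; omega
    have hpF : p ∣ Fintype.card F := hF ▸ dvd_pow_self p hn
    have hexc : qE p E ≠ wE p E → p = 3 ∧
        Cfsg.ActsAsSL2OnSection F (commutator SL(2, F)) E (qE p E) (wE p E) ∧ ⁅qE p E, qE p E⁆ = zE p E ∧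
        zE p E ≠ ⊥ ∧ ∀ b : G, b ∈ Cfsg.baumannSubgroupOf p (T : Subgroup G) →
          b ∉ centralizer (wE p E : Set G) → ¬ ⁅⁅qE p E, zpowers b⁆, zpowers b⁆ ≤ zE p E := by
      intro h
      rcases hcase with h0 | ⟨h3, hQ, hQ', -, hEc, hcard, hquad⟩
      · exact absurd h0 h
      · refine ⟨h3, hQ, hQ', fun hb0 => ?_, fun b hb1 hb2 hb3 => hquad b hb1 hb2 (le_trans hb3 hEc.ge)⟩
        rw [hEc] at hcard
        rw [show Cfsg.omegaOneCenter p (qE p E) ⊓ centralizer (E : Set G) = zE p E from rfl, hb0, card_bot] at hcard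
        exact (Nat.one_lt_pow hn (by norm_num)).ne hcard
    have hexc' : qE p E ≠ wE p E → p = 3 ∧
        (∀ M : Subgroup G, M ≤ qE p E → wE p E ≤ M → E ≤ normalizer (M : Set G) → M = wE p E ∨ M = qE p E) ∧
        ⁅qE p E, qE p E⁆ = zE p E ∧ zE p E ≠ ⊥ := fun h =>
      ⟨(hexc h).1, fun M h1 h2 h3 => CfsgLib.BaumannBlock.sl2_section_invariant (hexc h).2.1 h1 h2 h3,
        (hexc h).2.2.1, (hexc h).2.2.2.1⟩
    refine ⟨hexc', ?_⟩
    obtain hF2 | hF3 : Fintype.card F = 2 ∨ 3 ≤ Fintype.card F := by omega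
    · have hp2 : p = 2 := (Nat.prime_dvd_prime_iff_eq hp.out Nat.prime_two).1 (hF2 ▸ hpF)
      have h3 : Nat.card ↥(img p E) = 3 := himg.trans (card_comm_two hF2)
      have h0 : qE p E = wE p E := by
        by_contra h
        have := (hexc' h).1
        omega
      refine ⟨fun h => absurd ⟨hp2, h3⟩ h, Or.inr (Or.inl (hthree hp2 h3 h0 ?_))⟩
      rw [sl_card hW, hF2]; norm_num
    · refine ⟨fun _ => ⟨sl_nonfix hW hF3, fun h => sl_nonfix (hexc h).2.1 hF3⟩, ?_⟩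
      rcases hF3.lt_or_eq with h4 | h4
      · refine Or.inl ⟨hsnI, ?_⟩
        obtain ⟨φ⟩ := hiso
        refine CfsgLib.Coprime.isQuasisimple_congr ?_ (quasisimple_sl2 (F := F) h4)
        exact ((θ.trans φ).trans ((MulEquiv.subgroupCongr (CfsgLib.Lie.SLUniv.sl2_commutator h4)).trans
          Subgroup.topEquiv)).symm
      · have hF' : Fintype.card F = 3 := h4.symm
        have hp3 : p = 3 := (Nat.prime_dvd_prime_iff_eq hp.out Nat.prime_three).1 (hF' ▸ hpF)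
        have h8 : Nat.card ↥(img p E) = 8 := himg.trans (card_comm_three hF')
        haveI : Fact (Nat.Prime 2) := ⟨Nat.prime_two⟩
        obtain ⟨hVZ, hVc⟩ := small_module (q := 2) (k := 3) (by rw [h8]; norm_num) (by norm_num) (by omega) hker hirr
        have hV9 : Nat.card ↥(vE p E) = 9 := by
          refine Nat.eq_of_mul_eq_mul_right Nat.card_pos (hVc.symm.trans ?_)
          rw [sl_card hW, hF']
          norm_num
        obtain ⟨d1, d2, d3⟩ := eight_rho hF' hEs hiso hW hVZ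
        refine Or.inr (Or.inr ⟨hp3, h8, hV9, hVZ, d1, d2, d3, fun h => ⟨?_, ?_⟩⟩)
        · rw [sl_card (hexc h).2.1, hF']
          norm_num
        · obtain ⟨b, hb1, hb2, hb3, hb4⟩ := exists_moving T hE hEs hker
          exact ⟨b, hb3, hb4, (hexc h).2.2.2.2 b hb1 hb2⟩
  · rw [hq] at hW hcase
    change Cfsg.ActsAsOddPermModuleOnSection _ _ E (wE p E) (zE p E) at hW
    change qE p E = wE p E at hcase
    refine ⟨fun h => absurd hcase h, ?_⟩
    obtain ⟨φ⟩ := hiso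
    have himg : Nat.card ↥(img p E) = Nat.card ↥(alternatingGroup (Fin (2 * m + 1))) :=
      Nat.card_congr (θ.trans φ).toEquiv
    obtain rfl | rfl | hm : m = 0 ∨ m = 1 ∨ 2 ≤ m := by omega
    · exfalso
      refine hpne ((CfsgLib.Coprime.pCore_isPGroup p).to_le fun e he => ?_)
      haveI : Subsingleton ↥(alternatingGroup (Fin (2 * 0 + 1))) :=
        ⟨fun a b => Subtype.ext (Equiv.ext fun i => Fin.ext (by omega))⟩
      haveI : Subsingleton ↥(img p E) := (θ.trans φ).toEquiv.subsingleton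
      exact (QuotientGroup.eq_one_iff e).1 (congrArg Subtype.val
        (Subsingleton.elim (⟨_, mem_map_of_mem _ he⟩ : ↥(img p E)) 1))
    · have h3 : Nat.card ↥(img p E) = 3 := himg.trans card_alternating_three
      refine ⟨fun h => absurd ⟨h2, h3⟩ h, Or.inr (Or.inl (hthree h2 h3 hcase ?_))⟩
      exact perm_card hW
    · refine ⟨fun _ => ⟨perm_nonfix hm hW, fun h => absurd hcase h⟩, Or.inl ⟨hsnI, ?_⟩⟩
      exact CfsgLib.Coprime.isQuasisimple_congr (θ.trans φ).symm (quasisimple_alternating hm)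

end CfsgLib.SubBlock
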