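import Cfsg.Agent.Lib.Char.SubBlock.Block

/-!
# Facts about an arbitrary block
-/

set_option autoImplicit false
set_option linter.unusedSectionVars false
set_option linter.style.haveILetI false
set_option linter.unusedVariables false
set_option maxHeartbeats 1000000

open Subgroup
open scoped commutatorElement MatrixGroups

namespace CfsgLib.SubBlock

open CfsgLib.BaumannBlock (bW bZ BlockFacts)

universe u
variable {G : Type u} [Group G] [Finite G] {p : ℕ} [hp : Fact p.Prime] {X : Subgroup G}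

attribute [local instance] CfsgLib.Coprime.pCore_normal'

/-- `O_p` of an arbitrary subgroup. -/
abbrev bQ (p : ℕ) (X : Subgroup G) : Subgroup G := Cfsg.pCoreOf p X
/-- `[W, X]` of an arbitrary subgroup. -/
abbrev bV (p : ℕ) (X : Subgroup G) : Subgroup G := ⁅bW p X, X⁆

theorem bW_le_bQ (X : Subgroup G) : bW p X ≤ bQ p X :=
  (CfsgLib.BaumannBlock.omegaOneCenter_le p _).trans inf_le_left

theorem bW_comm_bQ {w q : G} (hw : w ∈ bW p X) (hq : q ∈ bQ p X) : q * w = w * q :=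
  mem_centralizer_iff.1 (mem_inf.1 (CfsgLib.BaumannBlock.omegaOneCenter_le p _ hw)).2 q hq

theorem bW_pow {w : G} (hw : w ∈ bW p X) : w ^ p = 1 :=
  CfsgLib.BaumannBlock.pow_eq_one_of_mem_omegaOne (H := bQ p X ⊓ centralizer (bQ p X : Set G))
    (fun _ ha b hb => (mem_centralizer_iff.1 (mem_inf.1 ha).2 b (mem_inf.1 hb).1).symm) hw

theorem bV_le_bW (hf : BlockFacts p X) : bV p X ≤ bW p X := CfsgLib.BaumannBlock.commutator_le_of_normalizes hf.normW

theorem bQ_le (X : Subgroup G) : bQ p X ≤ X := CfsgLib.JComp.pCoreOf_le p X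

theorem bQ_norm {x : G} (hx : x ∈ normalizer (X : Set G)) : x ∈ normalizer (bQ p X : Set G) :=
  CfsgLib.JComp.normalizer_le_normalizer_pCoreOf X hx

theorem bW_norm {x : G} (hx : x ∈ normalizer (X : Set G)) : x ∈ normalizer (bW p X : Set G) := by
  refine CfsgLib.Fusion.conjBy_eq_iff.1 ?_
  have h := CfsgLib.Fusion.conjBy_eq_iff.2 (bQ_norm (p := p) hx)
  unfold CfsgLib.Fusion.conjBy at h ⊢
  rw [CfsgLib.BaumannBlock.bW, Cfsg.omegaOneCenter, CfsgLib.LS.map_omegaOne_center (MulAut.conj x).injective, h]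

theorem bZ_norm {x : G} (hx : x ∈ normalizer (X : Set G)) : x ∈ normalizer (bZ p X : Set G) :=
  CfsgLib.Coprime.inf_le_normalizer (A := normalizer (X : Set G)) (fun _ h => bW_norm h)
    (CfsgLib.Coprime.normalizer_le_normalizer_centralizer X) hx

theorem bV_norm {x : G} (hx : x ∈ normalizer (X : Set G)) : x ∈ normalizer (bV p X : Set G) :=
  CfsgLib.BaumannBlock.mem_normalizer_commutator (bW_norm hx) hx

/-- Commutators with `O_p(G)` lie in `O_p(X) ∩ O_p(G)`. -/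
theorem comm_core_le (T : Sylow p G) (hX : Cfsg.IsBaumannBlock p (T : Subgroup G) X) {x q : G} (hx : x ∈ X)
    (hq : q ∈ Cfsg.pCore p G) : ⁅x, q⁆ ∈ bQ p X ⊓ Cfsg.pCore p G := by
  have h1 : ⁅x, q⁆ ∈ X ⊓ Cfsg.pCore p G := by
    refine mem_inf.2 ⟨?_, ?_⟩
    · rw [commutatorElement_def, show x * q * x⁻¹ * q⁻¹ = x * (q * x⁻¹ * q⁻¹) by group]
      exact mul_mem hx ((mem_normalizer_iff.1 (CfsgLib.BaumannBlock.pCore_le_normalizer T hX hq) _).1 (inv_mem hx))
    · rw [commutatorElement_def]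
      exact mul_mem (Subgroup.Normal.conj_mem inferInstance q hq x) (inv_mem hq)
  refine mem_inf.2 ⟨CfsgLib.JComp.le_pCoreOf inf_le_left ((CfsgLib.Coprime.pCore_isPGroup p).to_le inf_le_right)
    ?_ h1, (mem_inf.1 h1).2⟩
  exact CfsgLib.Coprime.inf_le_normalizer le_normalizer
    (by rw [normalizer_eq_top_iff.2 (CfsgLib.Coprime.pCore_normal' p)]; exact le_top)

/-- A commutator with a block lying in `W` lies in `[W, X]`. -/
theorem comm_mem_bV (hf : BlockFacts p X) {m : G} (hW : ∀ x ∈ X, ⁅x, m⁆ ∈ bW p X) {x : G} (hx : x ∈ X) :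
    ⁅x, m⁆ ∈ bV p X := by
  have hVN : ∀ {y}, y ∈ X → y ∈ normalizer (bV p X : Set G) := fun hy => bV_norm (le_normalizer hy)
  let S : Subgroup G :=
    { carrier := {y | y ∈ X ∧ ⁅y, m⁆ ∈ bV p X}
      one_mem' := ⟨one_mem _, by rw [commutatorElement_one_left]; exact one_mem _⟩
      mul_mem' := fun {a b} ha hb => ⟨mul_mem ha.1 hb.1, by
        rw [show ⁅a * b, m⁆ = a * ⁅b, m⁆ * a⁻¹ * ⁅a, m⁆ by simp only [commutatorElement_def]; group]
        exact mul_mem ((mem_normalizer_iff.1 (hVN ha.1) _).1 hb.2) ha.2⟩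
      inv_mem' := fun {a} ha => ⟨inv_mem ha.1, by
        rw [show ⁅a⁻¹, m⁆ = a⁻¹ * (⁅a, m⁆)⁻¹ * a by simp only [commutatorElement_def]; group]
        exact (mem_normalizer_iff''.1 (hVN ha.1) _).1 (inv_mem ha.2)⟩ }
  have hle : X ≤ S := by
    conv_lhs => rw [← hf.res, CfsgLib.BaumannNormal.pResidualOf_eq_closure]
    refine (closure_le _).2 fun y hy => ⟨hy.1, ?_⟩
    obtain ⟨w, hw⟩ : ∃ w, w = ⁅y, m⁆ := ⟨_, rfl⟩
    have hwW : w ∈ bW p X := hw ▸ hW y hy.1
    rw [← hw]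
    refine SBlock.coprime_fix (D := bV p X) (m := m) hy.2 (bW_pow hwW) (fun n =>
      hVN (bQ_le X (bW_le_bQ X (pow_mem hwW n)))) (hVN hy.1) (by rw [hw, commutatorElement_def]; group) ?_
    rw [← commutatorElement_inv w y]
    exact inv_mem (commutator_mem_commutator hwW hy.1)
  exact (hle hx).2

/-- The commutator module of a block without upper section is its `O_p`. -/
theorem bV_eq_bQ (hf : BlockFacts p X) (h : bQ p X = bW p X) : bV p X = bQ p X := by
  show ⁅bW p X, X⁆ = _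
  rw [← h]
  exact hf.commQ

/-- An invariant abelian subgroup of `O_p(X)` lies in `W`. -/
theorem le_bW_of_abelian (hf : BlockFacts p X) {M : Subgroup G} (hM : M ≤ bQ p X)
    (hN : X ≤ normalizer (M : Set G)) (hab : ∀ a ∈ M, ∀ b ∈ M, a * b = b * a) : M ≤ bW p X := by
  rcases hf.quot with hQ | ⟨hirr, hQ', hZ⟩
  · exact hQ ▸ hM
  rcases hirr (M ⊔ bW p X) (sup_le hM (bW_le_bQ X)) le_sup_right
    (CfsgLib.Coprime.sup_le_normalizer hN hf.normW) with h | h
  · exact le_sup_left.trans h.le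
  · exfalso
    apply hZ
    rw [← hQ', commutator_eq_bot_iff_le_centralizer]
    conv_lhs => rw [← h]
    refine sup_le ?_ ((CfsgLib.BaumannBlock.omegaOneCenter_le p _).trans inf_le_right)
    rw [le_centralizer_iff]
    conv_lhs => rw [← h]
    exact sup_le (fun a ha => mem_centralizer_iff.2 fun c hc => hab c hc a ha)
      (le_centralizer_iff.1 (hM.trans (CfsgLib.BaumannBlock.pCoreOf_le_centralizer_bW p X)))

/-- `[Ω₁Z(O_p(G)), X] ≤ [W, X]`. -/
theorem commutator_vG_le (T : Sylow p G) (hX : Cfsg.IsBaumannBlock p (T : Subgroup G) X) {v x : G}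
    (hv : v ∈ vG G p) (hx : x ∈ X) : ⁅x, v⁆ ∈ bV p X := by
  have hf := CfsgLib.BaumannBlock.blockFacts hX
  refine comm_mem_bV hf (fun y hy => ?_) hx
  have hle : vG G p ⊓ bQ p X ≤ bW p X := by
    refine le_bW_of_abelian hf inf_le_right ?_ fun a ha b hb => vG_comm (mem_inf.1 hb).1 (vG_le (mem_inf.1 ha).1)
    refine CfsgLib.Coprime.inf_le_normalizer (fun y _ => mem_normalizer_iff.2 fun z => ⟨vG_conj y, fun h => ?_⟩)
      fun y hy => bQ_norm (le_normalizer hy)
    simpa [mul_assoc] using vG_conj y⁻¹ h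
  refine hle (mem_inf.2 ⟨?_, (mem_inf.1 (comm_core_le T hX hy (vG_le hv))).1⟩)
  rw [commutatorElement_def]
  exact mul_mem (vG_conj y hv) (inv_mem hv)

/-- The data of a block with an upper section. -/
theorem exc_data {T : Subgroup G} (hX : Cfsg.IsBaumannBlock p T X) (h : bQ p X ≠ bW p X) :
    p = 3 ∧ ⁅bQ p X, bQ p X⁆ = bZ p X ∧ bZ p X ≠ ⊥ ∧
      (∀ M : Subgroup G, M ≤ bQ p X → bW p X ≤ M → X ≤ normalizer (M : Set G) → M = bW p X ∨ M = bQ p X) ∧
      (∃ (F : Type) (i₁ : Field F) (i₂ : Fintype F) (n : ℕ), n ≠ 0 ∧ Fintype.card F = 3 ^ n ∧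
        Nonempty (↥X ⧸ Cfsg.pCore p ↥X ≃* ↥(commutator SL(2, F))) ∧
        Cfsg.ActsAsSL2OnSection F (commutator SL(2, F)) X (bQ p X) (bW p X)) ∧
      ∀ b ∈ Cfsg.baumannSubgroupOf p T, b ∉ centralizer (bW p X : Set G) →
        ¬ ⁅⁅bQ p X, zpowers b⁆, zpowers b⁆ ≤ bZ p X := by
  rcases (CfsgLib.BaumannBlock.blockFacts hX).quot with h0 | ⟨hirr, hQ', hZ⟩
  · exact absurd h0 h
  rcases hX.2.2.2.2 with ⟨F, i₁, i₂, n, hF, hiso, -, h0 | ⟨h3, hQ, -, -, hEc, -, hquad⟩⟩ | ⟨-, m, -, -, h0⟩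
  · exact absurd h0 h
  · refine ⟨h3, hQ', hZ, hirr, ⟨F, i₁, i₂, n, fun hn => ?_, h3 ▸ hF, hiso, hQ⟩, fun b hb hbW hle => ?_⟩
    · rw [hn, pow_zero] at hF
      exact (Fintype.one_lt_card (α := F)).ne' hF
    · exact hquad b hb hbW (hle.trans hEc.ge)
  · exact absurd h0 h

end CfsgLib.SubBlock
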