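import Cfsg.Agent.Lib.Char.SubBlock.Kernel

/-!
# The natural module of a linear block and its normaliser
-/

set_option autoImplicit false
set_option linter.unusedSectionVars false
set_option linter.style.haveILetI false
set_option maxHeartbeats 1000000

open Subgroup Matrix
open scoped commutatorElement MatrixGroups

namespace CfsgLib.SubBlock

universe u v
variable {G : Type u} [Group G]

/-- Transport of a representation along an isomorphism of modules. -/
def SecRep.transfer {A A₀ : Subgroup G} {M : Type u} [AddCommGroup M] (R : SecRep A A₀ M) {M' : Type v}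
    [AddCommGroup M'] (ι : M ≃+ M') : SecRep A A₀ M' where
  pr a := ι (R.pr a)
  act :=
    { toFun := fun x => (ι.toAddMonoidHom.comp (R.act x)).comp ι.symm.toAddMonoidHom
      map_one' := AddMonoidHom.ext fun m => by
        show ι (R.act 1 (ι.symm m)) = m
        rw [map_one]
        exact ι.apply_symm_apply m
      map_mul' := fun x y => AddMonoidHom.ext fun m => by
        show ι (R.act (x * y) (ι.symm m)) = ι (R.act x (ι.symm (ι (R.act y (ι.symm m)))))
        rw [ι.symm_apply_apply, map_mul]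
        rfl }
  pr_mul a ha b hb := by rw [R.pr_mul a ha b hb, map_add]
  pr_surj m := by
    obtain ⟨a, ha, h⟩ := R.pr_surj (ι.symm m)
    exact ⟨a, ha, by rw [h, ι.apply_symm_apply]⟩
  pr_eq_zero a ha := (map_eq_zero_iff ι ι.injective).trans (R.pr_eq_zero a ha)
  pr_act x a ha := by
    rw [R.pr_act x a ha]
    show ι (R.act x (R.pr a)) = ι (R.act x (ι.symm (ι (R.pr a))))
    rw [ι.symm_apply_apply]

variable [Finite G] {p : ℕ} [hp : Fact p.Prime] {E : Subgroup G}

attribute [local instance] CfsgLib.Coprime.pCore_normal'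

/-- The natural module data of a subnormal block of linear type. -/
structure SLData (p : ℕ) (E : Subgroup G) (F : Type) [Field F] [Fintype F] where
  ρ : ↥E →* SL(2, F)
  R : SecRep (wE p E) (zE p E) (Fin 2 → F)
  card_eq : ∃ n, n ≠ 0 ∧ Fintype.card F = p ^ n
  range : ρ.range = commutator SL(2, F)
  ker : ∀ x : ↥E, ρ x = 1 ↔ (x : G) ∈ Cfsg.pCore p G
  compat : ∀ (x : ↥(secN (wE p E) (zE p E))) (hx : (x : G) ∈ E) (v : Fin 2 → F),
    R.act x v = ((ρ ⟨x, hx⟩ : SL(2, F)) : Matrix (Fin 2) (Fin 2) F).mulVec v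

theorem exists_slData {F : Type} [Field F] [Fintype F] {n : ℕ} (hb : SBlock p E) (hF : Fintype.card F = p ^ n)
    (hiso : Nonempty (↥E ⧸ Cfsg.pCore p ↥E ≃* ↥(commutator SL(2, F))))
    (hW : Cfsg.ActsAsSL2OnSection F (commutator SL(2, F)) E (wE p E) (zE p E)) : Nonempty (SLData p E F) := by
  classical
  obtain ⟨ρ, ψ, hρ, hψ, hρ1, hker, hact⟩ := sl_rho hb.sn hiso hW
  obtain ⟨M, iM, ⟨R⟩⟩ := exists_secRep hb.secW.toIsAbSec
  have hlift : ∀ m : M, ∃ a : ↥(wE p E), R.pr a = m := fun m => by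
    obtain ⟨a, ha, h⟩ := R.pr_surj m
    exact ⟨⟨a, ha⟩, h⟩
  choose lift hl using hlift
  let g : ↥(wE p E) → (Fin 2 → F) := fun a => Multiplicative.toAdd (ψ a)
  have hg : ∀ a b : ↥(wE p E), R.pr a = R.pr b → g a = g b := fun a b h => by
    have h1 : ψ (a * b⁻¹) = 1 := (hker _).2 ((R.pr_eq_iff a.2 b.2).1 h)
    rw [map_mul, map_inv, mul_inv_eq_one] at h1
    exact congrArg Multiplicative.toAdd h1
  let ι₀ : M →+ (Fin 2 → F) := AddMonoidHom.mk' (fun m => g (lift m)) fun m m' => by
    rw [← show g (lift m * lift m') = g (lift m) + g (lift m') by simp only [g, map_mul, toAdd_mul]]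
    exact hg _ _ (by rw [Subgroup.coe_mul, R.pr_mul _ (lift m).2 _ (lift m').2, hl, hl, hl])
  have hbij : Function.Bijective ι₀ := by
    refine ⟨(injective_iff_map_eq_zero _).2 fun m hm => ?_, fun v => ?_⟩
    · rw [← hl m, R.pr_eq_zero _ (lift m).2]
      exact (hker _).1 (Multiplicative.toAdd.injective hm)
    · obtain ⟨a, ha⟩ := hψ (Multiplicative.ofAdd v)
      refine ⟨R.pr a, (hg _ a (hl _)).trans ?_⟩
      simp only [g, ha, toAdd_ofAdd]
  refine ⟨⟨ρ, R.transfer (AddEquiv.ofBijective ι₀ hbij), ⟨n, fun h => ?_, hF⟩, hρ, hρ1, fun x hx v => ?_⟩⟩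
  · rw [h, pow_zero] at hF
    exact (Fintype.one_lt_card (α := F)).ne' hF
  · obtain ⟨m, rfl⟩ := hbij.2 v
    obtain ⟨w, hw, hwv⟩ := hact ⟨x, hx⟩ (lift m)
    show AddEquiv.ofBijective ι₀ hbij (R.act x ((AddEquiv.ofBijective ι₀ hbij).symm (ι₀ m))) = _
    rw [show (AddEquiv.ofBijective ι₀ hbij).symm (ι₀ m) = m from
      (AddEquiv.ofBijective ι₀ hbij).symm_apply_apply m]
    show g (lift (R.act x m)) = Matrix.mulVec _ (g (lift m))
    rw [← hwv]
    refine hg _ w ?_
    rw [hl, hw]
    show _ = R.pr ((x : G) * (lift m : G) * (x : G)⁻¹)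
    rw [R.pr_act x _ (lift m).2, hl]

namespace SLData

variable {F : Type} [Field F] [Fintype F] (d : SLData p E F)

theorem charP (d : SLData p E F) : CharP F p := by
  obtain ⟨n, hn, hF⟩ := d.card_eq
  haveI : Fact p.Prime := hp
  obtain ⟨q, hq⟩ := CharP.exists F
  obtain ⟨k, hqp, hk⟩ := FiniteField.card F q
  rw [hF] at hk
  rwa [(Nat.prime_dvd_prime_iff_eq hp.out hqp).1 (hp.out.dvd_of_dvd_pow (hk ▸ dvd_pow_self p hn : p ∣ q ^ (k : ℕ)))]

theorem surj_of_four (d : SLData p E F) (h4 : 4 ≤ Fintype.card F) (g : SL(2, F)) : ∃ e : ↥E, d.ρ e = g :=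
  (d.range.trans (CfsgLib.Lie.SLUniv.sl2_commutator h4)).ge (mem_top g)

/-- The action of a normalising element. -/
def phi (hb : SBlock p E) {x : G} (hx : x ∈ normalizer (E : Set G)) : (Fin 2 → F) →+ (Fin 2 → F) :=
  d.R.act ⟨x, hb.norm_secW hx⟩

variable (hb : SBlock p E)

theorem phi_mul {x y : G} (hx : x ∈ normalizer (E : Set G)) (hy : y ∈ normalizer (E : Set G)) (v : Fin 2 → F) :
    d.phi hb (mul_mem hx hy) v = d.phi hb hx (d.phi hb hy v) :=
  DFunLike.congr_fun (map_mul d.R.act ⟨x, hb.norm_secW hx⟩ ⟨y, hb.norm_secW hy⟩) v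

theorem phi_congr {x y : G} (h : x = y) (hx : x ∈ normalizer (E : Set G)) (hy : y ∈ normalizer (E : Set G)) :
    d.phi hb hx = d.phi hb hy := by subst h; rfl

theorem phi_one (v : Fin 2 → F) : d.phi hb (one_mem (normalizer (E : Set G))) v = v :=
  DFunLike.congr_fun (map_one d.R.act) v

theorem phi_inv_self {x : G} (hx : x ∈ normalizer (E : Set G)) (v : Fin 2 → F) :
    d.phi hb (inv_mem hx) (d.phi hb hx v) = v := by
  rw [← d.phi_mul hb, d.phi_congr hb (inv_mul_cancel x) _ (one_mem _), d.phi_one]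

theorem phi_self_inv {x : G} (hx : x ∈ normalizer (E : Set G)) (v : Fin 2 → F) :
    d.phi hb hx (d.phi hb (inv_mem hx) v) = v := by
  rw [← d.phi_mul hb, d.phi_congr hb (mul_inv_cancel x) _ (one_mem _), d.phi_one]

theorem phi_injective {x : G} (hx : x ∈ normalizer (E : Set G)) : Function.Injective (d.phi hb hx) :=
  Function.LeftInverse.injective (d.phi_inv_self hb hx)

theorem phi_E (e : ↥E) (v : Fin 2 → F) :
    d.phi hb (le_normalizer e.2) v = ((d.ρ e : SL(2, F)) : Matrix (Fin 2) (Fin 2) F).mulVec v :=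
  d.compat ⟨e, hb.norm_secW (le_normalizer e.2)⟩ e.2 v

/-- Conjugation intertwines the action. -/
theorem phi_conj {x : G} (hx : x ∈ normalizer (E : Set G)) (e : ↥E) (v : Fin 2 → F) :
    ((d.ρ ⟨x * e * x⁻¹, (mem_normalizer_iff.1 hx e).1 e.2⟩ : SL(2, F)) : Matrix (Fin 2) (Fin 2) F).mulVec
      (d.phi hb hx v) = d.phi hb hx (((d.ρ e : SL(2, F)) : Matrix (Fin 2) (Fin 2) F).mulVec v) := by
  rw [← d.phi_E hb, ← d.phi_E hb, ← d.phi_mul hb, ← d.phi_mul hb]
  exact DFunLike.congr_fun (d.phi_congr hb (by group) _ _) v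

theorem phi_eq_one_iff {x : G} (hx : x ∈ normalizer (E : Set G)) :
    (∀ v, d.phi hb hx v = v) ↔ Triv (wE p E) (zE p E) x := by
  rw [show Triv (wE p E) (zE p E) x ↔ d.R.act ⟨x, hb.norm_secW hx⟩ = 1 from
    d.R.triv_iff ⟨x, hb.norm_secW hx⟩]
  exact ⟨fun h => AddMonoidHom.ext h, fun h v => DFunLike.congr_fun h v⟩

theorem phi_pr {x a : G} (hx : x ∈ normalizer (E : Set G)) (ha : a ∈ wE p E) :
    d.R.pr (x * a * x⁻¹) = d.phi hb hx (d.R.pr a) :=
  d.R.pr_act ⟨x, hb.norm_secW hx⟩ a ha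

theorem phi_of_pow {x : G} (hx : x ∈ normalizer (E : Set G)) (n : ℕ) (v : Fin 2 → F) :
    d.phi hb (pow_mem hx n) v = (d.phi hb hx)^[n] v := by
  induction n generalizing v with
  | zero => rw [d.phi_congr hb (pow_zero x) _ (one_mem _), d.phi_one]; rfl
  | succ n ih => rw [d.phi_congr hb (pow_succ x n) (pow_mem hx (n + 1)) (mul_mem (pow_mem hx n) hx), d.phi_mul hb (pow_mem hx n) hx, ih]; rfl

/-- An element normalising `E` acts semilinearly. -/
theorem exists_sigma {x : G} (hx : x ∈ normalizer (E : Set G)) :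
    ∃ σ : F ≃+* F, ∀ (t : F) v, d.phi hb hx (t • v) = σ t • d.phi hb hx v := by
  have key : ∀ t : F, ∃ s : F, ∀ v, d.phi hb hx (t • v) = s • d.phi hb hx v := by
    obtain ⟨n, hn, hF⟩ := d.card_eq
    rcases Nat.lt_or_ge (Fintype.card F) 4 with h4 | h4
    · -- the field is prime
      intro t
      refine ⟨t, fun v => ?_⟩
      haveI := d.charP
      have hn1 : n = 1 := by
        by_contra h
        have : p ^ 2 ≤ p ^ n := Nat.pow_le_pow_right hp.out.pos (by omega)
        have := Nat.pow_le_pow_left hp.out.two_le 2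
        omega
      rw [hn1, pow_one] at hF
      haveI : NeZero p := ⟨hp.out.ne_zero⟩
      let e : ZMod p →+* F := ZMod.castHom dvd_rfl F
      obtain ⟨k, hk⟩ : ∃ k : ℕ, (k : F) = t := by
        have hbij : Function.Bijective e := (Fintype.bijective_iff_injective_and_card _).2
          ⟨e.injective, by rw [ZMod.card, hF]⟩
        obtain ⟨z, rfl⟩ := hbij.2 t
        exact ⟨z.val, by rw [ZMod.natCast_val]; rfl⟩
      rw [← hk, Nat.cast_smul_eq_nsmul, Nat.cast_smul_eq_nsmul, map_nsmul]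
    · intro t
      let h : (Fin 2 → F) → (Fin 2 → F) := fun v => d.phi hb hx (t • d.phi hb (inv_mem hx) v)
      have hadd : ∀ v w, h (v + w) = h v + h w := fun v w => by simp only [h, map_add, smul_add]
      have hcomm : ∀ (g : SL(2, F)) v, h ((g : Matrix (Fin 2) (Fin 2) F).mulVec v) =
          (g : Matrix (Fin 2) (Fin 2) F).mulVec (h v) := by
        intro g v
        obtain ⟨e, rfl⟩ := d.surj_of_four h4 g
        have hm : x⁻¹ * (e : G) * x ∈ E := (mem_normalizer_iff''.1 hx e).1 e.2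
        have h1 := d.phi_conj hb (inv_mem hx) e v
        have h2 := d.phi_conj hb hx ⟨x⁻¹ * (e : G) * x, hm⟩ (t • d.phi hb (inv_mem hx) v)
        rw [show (⟨x * ((⟨x⁻¹ * (e : G) * x, hm⟩ : ↥E) : G) * x⁻¹, (mem_normalizer_iff.1 hx _).1 hm⟩ : ↥E) = e
          from Subtype.ext (by simp [mul_assoc])] at h2
        simp only [inv_inv] at h1
        show d.phi hb hx (t • d.phi hb (inv_mem hx) _) = _
        rw [← h1, h2, Matrix.mulVec_smul]
      have hU : ∀ (a : F) v, h (![a * v 1, 0] + v) = ![a * h v 1, 0] + h v := fun a v => by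
        have := hcomm (CfsgLib.Lie.SL2Rel.Fam.upper a) v
        rw [show ((CfsgLib.Lie.SL2Rel.Fam.upper a : SL(2, F)) : Matrix (Fin 2) (Fin 2) F) = !![1, a; 0, 1] from rfl] at this
        have e1 : ∀ w : Fin 2 → F, (!![1, a; 0, 1] : Matrix (Fin 2) (Fin 2) F).mulVec w = ![a * w 1, 0] + w := fun w => by
          funext i; fin_cases i <;> simp [Matrix.mulVec, dotProduct, Fin.sum_univ_two, add_comm]
        rwa [e1, e1] at this
      have hL : ∀ (a : F) v, h (![0, a * v 0] + v) = ![0, a * h v 0] + h v := fun a v => by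
        have := hcomm (CfsgLib.Lie.SL2Rel.Fam.lower a) v
        rw [show ((CfsgLib.Lie.SL2Rel.Fam.lower a : SL(2, F)) : Matrix (Fin 2) (Fin 2) F) = !![1, 0; a, 1] from rfl] at this
        have e1 : ∀ w : Fin 2 → F, (!![1, 0; a, 1] : Matrix (Fin 2) (Fin 2) F).mulVec w = ![0, a * w 0] + w := fun w => by
          funext i; fin_cases i <;> simp [Matrix.mulVec, dotProduct, Fin.sum_univ_two, add_comm]
        rwa [e1, e1] at this
      have hU' : ∀ (a : F) v, h ![a * v 1, 0] = ![a * h v 1, 0] := fun a v =>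
        add_right_cancel ((hadd _ v).symm.trans (hU a v))
      have hL' : ∀ (a : F) v, h ![0, a * v 0] = ![0, a * h v 0] := fun a v =>
        add_right_cancel ((hadd _ v).symm.trans (hL a v))
      obtain ⟨c, hc⟩ : ∃ c, c = h ![0, 1] 1 := ⟨_, rfl⟩
      have h0 : ∀ a : F, h ![a, 0] = ![a * c, 0] := fun a => by
        have := hU' a ![0, 1]
        simpa [hc] using this
      have h1 : ∀ a : F, h ![0, a] = ![0, a * c] := fun a => by
        have := hL' a ![1, 0]
        simpa [h0 1] using this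
      refine ⟨c, fun v => ?_⟩
      obtain ⟨w, hw⟩ : ∃ w, w = d.phi hb hx v := ⟨_, rfl⟩
      have hv : d.phi hb (inv_mem hx) w = v := by rw [hw, d.phi_inv_self hb hx]
      calc d.phi hb hx (t • v) = h w := by show _ = d.phi hb hx (t • _); rw [hv]
        _ = h (![w 0, 0] + ![0, w 1]) := by congr 1; funext i; fin_cases i <;> simp
        _ = c • d.phi hb hx v := by
          rw [hadd, h0, h1, ← hw]; funext i; fin_cases i <;> simp [mul_comm c]
  choose s hs using key
  let v₀ : Fin 2 → F := ![1, 0]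
  have hv₀ : d.phi hb hx v₀ ≠ 0 := fun h => by
    have := d.phi_injective hb hx (h.trans (map_zero _).symm)
    simpa [v₀] using congrFun this 0
  have hinj : ∀ a b : F, a • d.phi hb hx v₀ = b • d.phi hb hx v₀ → a = b := fun a b h => smul_left_injective F hv₀ h
  have hadd : ∀ a b, s (a + b) = s a + s b := fun a b => hinj _ _ (by
    rw [← hs, add_smul, map_add, hs, hs, ← add_smul])
  have hmul : ∀ a b, s (a * b) = s a * s b := fun a b => hinj _ _ (by rw [← hs, mul_smul, hs, hs, smul_smul])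
  have hsinj : Function.Injective s := fun a b h => by
    have h2 : d.phi hb hx (a • v₀) = d.phi hb hx (b • v₀) := by rw [hs, hs, h]
    exact smul_left_injective F (fun h0 => hv₀ (by rw [show v₀ = 0 from h0, map_zero])) (d.phi_injective hb hx h2)
  exact ⟨{ Equiv.ofBijective s (Finite.injective_iff_bijective.1 hsinj) with map_add' := hadd, map_mul' := hmul }, hs⟩

end SLData

end CfsgLib.SubBlock
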