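import Cfsg.Agent.Lib.Char.SubBlock.Small
import Cfsg.Agent.Lib.Char.SubBlock.Quad

/-!
# Two `Q₈`-blocks normalising each other
-/

set_option autoImplicit false
set_option linter.unusedSectionVars false
set_option linter.style.haveILetI false

open Subgroup
open scoped commutatorElement

namespace CfsgLib.SubBlock

universe u
variable {G : Type u} [Group G] [Finite G] {p : ℕ} [hp : Fact p.Prime]

attribute [local instance] CfsgLib.Coprime.pCore_normal'

/-- An element of order prime to `p` modulo `O_p(G)` stabilising `O_p(G) ≥ P ≥ W ≥ 1` lies in `O_p(G)`. -/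
theorem mem_core_two_step (hG : centralizer (Cfsg.pCore p G : Set G) ≤ Cfsg.pCore p G) {P W : Subgroup G}
    (hWP : W ≤ P) (hP : P ≤ Cfsg.pCore p G) {g : G} {m : ℕ} (hm : m.Coprime p) (hgm : g ^ m ∈ Cfsg.pCore p G)
    (hgW : g ∈ centralizer (W : Set G)) (hgP : g ∈ normalizer (P : Set G)) (h1 : ∀ q ∈ P, ⁅g, q⁆ ∈ W)
    (h2 : ∀ q ∈ Cfsg.pCore p G, ⁅g, q⁆ ∈ P) : g ∈ Cfsg.pCore p G := by
  obtain ⟨a, b, hb, hab⟩ :=
    Nat.exists_eq_pow_mul_and_not_dvd (orderOf_pos g).ne' p hp.out.ne_one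
  have ho : (orderOf (g ^ p ^ a)).Coprime p := by
    rw [orderOf_pow' g (pow_ne_zero a hp.out.ne_zero), hab, Nat.gcd_eq_right (Dvd.intro _ rfl),
      Nat.mul_div_cancel_left _ (Nat.pow_pos hp.out.pos)]
    exact Nat.coprime_comm.1 (hp.out.coprime_iff_not_dvd.2 hb)
  have hs1 : g ∈ chainStab P W := ⟨(centralizer_le_normalizer (W : Set G)) hgW, hgP, h1⟩
  have hs2 : g ∈ chainStab (Cfsg.pCore p G) P :=
    ⟨hgP, by rw [normalizer_eq_top_iff.2 (CfsgLib.Coprime.pCore_normal' p)]; exact mem_top _, h2⟩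
  set g₀ := g ^ p ^ a with hg₀
  have hc : g₀ ∈ centralizer (P : Set G) := mem_centralizer_iff.2 fun q hq =>
    (fix_of_chain ((CfsgLib.Coprime.pCore_isPGroup p).to_le (hWP.trans hP)) ho (pow_mem hgW _)
      (pow_mem hs1 (p ^ a)).2.2 hq).symm
  have h0 : g₀ ∈ Cfsg.pCore p G := mem_core_of_chain hG hP hm
    (by rw [hg₀, ← pow_mul, mul_comm, pow_mul]; exact pow_mem hgm _) hc (pow_mem hs2 (p ^ a)).2.2
  rw [hg₀, ← QuotientGroup.eq_one_iff (N := Cfsg.pCore p G), QuotientGroup.mk_pow] at h0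
  rw [← QuotientGroup.eq_one_iff (N := Cfsg.pCore p G), QuotientGroup.mk_pow] at hgm
  rw [← QuotientGroup.eq_one_iff (N := Cfsg.pCore p G), ← orderOf_eq_one_iff]
  exact Nat.eq_one_of_dvd_coprimes (Nat.Coprime.pow_left a (Nat.coprime_comm.1 hm))
    (orderOf_dvd_of_pow_eq_one h0) (orderOf_dvd_of_pow_eq_one hgm)

/-- The elements with `2`-power order modulo `O_p(G)` in the `2`-core of the quotient. -/
def twoR (p : ℕ) (G : Type u) [Group G] : Subgroup G :=
  (Cfsg.pCore 2 (G ⧸ Cfsg.pCore p G)).comap (QuotientGroup.mk' (Cfsg.pCore p G))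

theorem twoR_conj (t : G) {x : G} (hx : x ∈ twoR p G) : t * x * t⁻¹ ∈ twoR p G :=
  ((CfsgLib.Coprime.pCore_normal' (G := G ⧸ Cfsg.pCore p G) 2).comap _).conj_mem x hx t

theorem exists_pow_mem_of_twoR {x : G} (hx : x ∈ twoR p G) : ∃ k : ℕ, x ^ 2 ^ k ∈ Cfsg.pCore p G := by
  haveI : Fact (Nat.Prime 2) := ⟨Nat.prime_two⟩
  obtain ⟨k, hk⟩ := CfsgLib.Coprime.pCore_isPGroup 2 ⟨_, hx⟩
  exact ⟨k, (QuotientGroup.eq_one_iff _).1 ((map_pow (QuotientGroup.mk' (Cfsg.pCore p G)) x _).trans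
    (congrArg Subtype.val hk))⟩

theorem comm_congr {P W : Subgroup G} (hc : ∀ w ∈ W, ∀ q ∈ P, q * w = w * q) {a b wa wb : G} (ha : a ∈ P)
    (hb : b ∈ P) (hwa : wa ∈ W) (hwb : wb ∈ W) (hWP : W ≤ P) : ⁅wa * a, wb * b⁆ = ⁅a, b⁆ := by
  have c1 : ∀ q ∈ P, wa * q = q * wa := fun q hq => (hc wa hwa q hq).symm
  have c2 : ∀ q ∈ P, wb * q = q * wb := fun q hq => (hc wb hwb q hq).symm
  calc ⁅wa * a, wb * b⁆ = wa * (a * (wb * b) * a⁻¹) * wa⁻¹ * (wb * b)⁻¹ := by
        simp only [commutatorElement_def]; group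
    _ = (a * (wb * b) * a⁻¹) * (wb * b)⁻¹ := by
      rw [c1 _ (mul_mem (mul_mem ha (mul_mem (hWP hwb) hb)) (inv_mem ha))]; group
    _ = wb * (a * b * a⁻¹) * b⁻¹ * wb⁻¹ := by
      rw [show a * (wb * b) * a⁻¹ = wb * (a * b * a⁻¹) by rw [← mul_assoc a wb b, ← c2 a ha]; group]
      group
    _ = wb * ⁅a, b⁆ * wb⁻¹ := by simp only [commutatorElement_def]; group
    _ = ⁅a, b⁆ := by
      rw [c2 ⁅a, b⁆ (mul_mem (mul_mem (mul_mem ha hb) (inv_mem ha)) (inv_mem hb))]; group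

namespace SBlock

variable {E F : Subgroup G}

theorem not_component (hs : IsSmall p E) : ¬ Cfsg.IsComponent (img p E) :=
  fun hk => CfsgLib.Coprime.not_isSolvable_of_isComponent hk hs.solvable

theorem eight_data (hb : SBlock p E) (h8 : p = 3 ∧ Nat.card ↥(img p E) = 8) :
    (∀ e ∈ E, e ^ 2 ∉ Cfsg.pCore p G → ∀ v ∈ vE p E, e ^ 2 * v * (e ^ 2)⁻¹ = v⁻¹) ∧
      (∀ e ∈ E, e ∉ Cfsg.pCore p G → e ^ 2 ∈ Cfsg.pCore p G →
        ∃ g ∈ E, g ^ 2 ∉ Cfsg.pCore p G ∧ e⁻¹ * g ^ 2 ∈ Cfsg.pCore p G) ∧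
      (∃ e ∈ E, e ^ 2 ∉ Cfsg.pCore p G) ∧
      (qE p E ≠ wE p E → Nat.card ↥(qE p E) = 9 * Nat.card ↥(wE p E) ∧
        ∃ t ∈ normalizer (E : Set G), IsPGroup p ↥(zpowers t) ∧
          ¬ ⁅⁅qE p E, zpowers t⁆, zpowers t⁆ ≤ zE p E) := by
  rcases hb.kind with hk | ⟨h3, -⟩ | ⟨-, -, -, -, h⟩
  · exact absurd hk (not_component (Or.inr h8))
  · have := h3.1; omega
  · exact h

theorem mul_inv_mem_comm (hE : SBlock p E) {c : G} (hcN : c ∈ normalizer (E : Set G))
    (hcC : c ∈ centralizer (vE p E : Set G)) : ∀ x ∈ E, ⁅c, x⁆ ∈ qE p E := by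
  intro x hx
  have h1 : ⁅c, x⁆ ∈ E := by
    rw [commutatorElement_def]
    exact mul_mem ((mem_normalizer_iff.1 hcN x).1 hx) (inv_mem hx)
  refine ⟨h1, hE.ker (mem_inf.2 ⟨h1, ?_⟩)⟩
  have hx' := mem_normalizer_iff.1 (CfsgLib.Coprime.normalizer_le_normalizer_centralizer _
    (vE_norm (p := p) (le_normalizer hx))) c⁻¹
  rw [commutatorElement_def, show c * x * c⁻¹ * x⁻¹ = c * (x * c⁻¹ * x⁻¹) by group]
  exact mul_mem hcC (hx'.1 (inv_mem hcC))

/-- Two normalising small blocks not commuting modulo `O_p(G)` have the same module. -/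
theorem module_eq (hE : SBlock p E) (hF : SBlock p F) (hEs : IsSmall p E) (hFs : IsSmall p F)
    (hFN : F ≤ normalizer (E : Set G)) (hEN : E ≤ normalizer (F : Set G))
    (hne : ¬ ⁅E, F⁆ ≤ Cfsg.pCore p G) : vE p E = vE p F := by
  set I := vE p E ⊓ vE p F
  have hnorm : ∀ x, x ∈ normalizer (E : Set G) → x ∈ normalizer (F : Set G) → x ∈ normalizer (I : Set G) :=
    fun x h1 h2 => CfsgLib.Coprime.inf_le_normalizer (A := zpowers x) (zpowers_le.2 (vE_norm h1))
      (zpowers_le.2 (vE_norm h2)) (mem_zpowers _)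
  have hI : I ≠ ⊥ := by
    intro hI
    refine hne (commutator_le.2 fun e he f hf => hE.ker (mem_inf.2 ⟨?_, ?_⟩))
    · rw [commutatorElement_def, show e * f * e⁻¹ * f⁻¹ = e * (f * e⁻¹ * f⁻¹) by group]
      exact mul_mem he ((mem_normalizer_iff.1 (hFN hf) _).1 (inv_mem he))
    · have hfc : f ∈ centralizer (vE p E : Set G) := mem_centralizer_iff.2 fun v hv => by
        have h1 : ⁅f, v⁆ ∈ I := mem_inf.2 ⟨by
            rw [commutatorElement_def]
            exact mul_mem ((mem_normalizer_iff.1 (vE_norm (hFN hf)) v).1 hv) (inv_mem hv), by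
            rw [← commutatorElement_inv v f]
            exact inv_mem (hF.commutator_vG (commutator_mem_commutator (hE.vV hv) hf))⟩
        rw [hI, mem_bot] at h1
        exact (commutatorElement_eq_one_iff_mul_comm.1 h1).symm
      rw [commutatorElement_def]
      exact mul_mem ((mem_normalizer_iff.1 (CfsgLib.Coprime.normalizer_le_normalizer_centralizer _
        (vE_norm (le_normalizer he))) f).1 hfc) (inv_mem hfc)
  have e1 : I = vE p E :=
    (hE.irr_vE hEs inf_le_left fun x hx => hnorm x (le_normalizer hx) (hEN hx)).resolve_left hI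
  have e2 : I = vE p F :=
    (hF.irr_vE hFs inf_le_right fun x hx => hnorm x (hFN hx) (le_normalizer hx)).resolve_left hI
  exact e1.symm.trans e2

/-- The two blocks induce the same group on their common module. -/
theorem exists_match (hE : SBlock p E) (hF : SBlock p F) (hE8 : p = 3 ∧ Nat.card ↥(img p E) = 8)
    (hF8 : p = 3 ∧ Nat.card ↥(img p F) = 8) (hFN : F ≤ normalizer (E : Set G))
    (hU : vE p E = vE p F) : ∀ f ∈ F, ∃ e ∈ E, e⁻¹ * f ∈ centralizer (vE p E : Set G) := by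
  classical
  obtain ⟨hEinv, hEsq, ⟨e₁, he₁, he₁2⟩, -⟩ := hE.eight_data hE8
  obtain ⟨hFinv, hFsq, -, -⟩ := hF.eight_data hF8
  set U := vE p E
  have hsec : IsAbSec U ⊥ := ⟨bot_le, commutator_le.2 fun a ha b hb => by
    rw [mem_bot]
    exact commutatorElement_eq_one_iff_mul_comm.2 (vG_comm (hE.vV hb) (vG_le (hE.vV ha)))⟩
  have hN : ∀ {x}, x ∈ normalizer (E : Set G) → x ∈ secN U (⊥ : Subgroup G) := fun hx =>
    ⟨vE_norm hx, by rw [normalizer_eq_top_iff.2 normal_bot]; exact mem_top _⟩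
  obtain ⟨M, iM, ⟨R⟩⟩ := exists_secRep hsec
  haveI := R.finite
  have hM : Nat.card M = 9 := by
    have h1 := R.card hsec.le
    rw [(hE.vE_data (Or.inr hE8)).1, card_bot, mul_one, hE8.1] at h1
    exact h1.symm
  have h3 : ∀ m : M, 3 • m = 0 := fun m => by
    obtain ⟨a, ha, rfl⟩ := R.pr_surj m
    have hp3 : a ^ 3 = 1 := by have := vG_pow (hE.vV ha); rwa [hE8.1] at this
    have h4 := R.pr_one
    rw [← hp3, pow_succ, pow_two, R.pr_mul _ (mul_mem ha ha) _ ha, R.pr_mul _ ha _ ha] at h4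
    rw [succ_nsmul, two_nsmul]
    exact h4
  -- centralising elements
  have hcent : ∀ {x} (hx : x ∈ secN U (⊥ : Subgroup G)), R.act ⟨x, hx⟩ = 1 ↔ x ∈ centralizer (U : Set G) :=
    fun {x} hx => (R.triv_iff ⟨x, hx⟩).symm.trans
      ⟨fun h => mem_centralizer_iff.2 fun v hv =>
        (commutatorElement_eq_one_iff_mul_comm.1 (mem_bot.1 (h v hv))).symm,
      fun h v hv => mem_bot.2 (commutatorElement_eq_one_iff_mul_comm.2 (mem_centralizer_iff.1 h v hv).symm)⟩
  have hneg : ∀ {x} (hx : x ∈ secN U (⊥ : Subgroup G)), (∀ v ∈ U, x * v * x⁻¹ = v⁻¹) → R.act ⟨x, hx⟩ = -1 := by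
    intro x hx h
    refine AddMonoidHom.ext fun m => ?_
    obtain ⟨a, ha, rfl⟩ := R.pr_surj m
    show R.act ⟨x, hx⟩ (R.pr a) = -(R.pr a)
    rw [← R.pr_act ⟨x, hx⟩ a ha, ← R.pr_inv ha]
    exact congrArg R.pr (h a ha)
  -- the image of `E`
  let ρ : ↥E →* AddMonoid.End M := R.act.comp (inclusion (fun x hx => hN (le_normalizer hx)))
  have hρ : ∀ e : ↥E, ρ e = 1 ↔ (e : G) ∈ Cfsg.pCore p G := fun e =>
    (hcent _).trans ⟨fun h => hE.ker (mem_inf.2 ⟨e.2, h⟩), fun h => mem_centralizer_iff.2 fun v hv =>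
      (vG_comm (hE.vV hv) h).symm⟩
  have hcardρ : Nat.card ρ.toHomUnits.range = 8 := by
    rw [← Nat.card_congr (QuotientGroup.quotientKerEquivRange ρ.toHomUnits).toEquiv, ← hE8.2]
    have hk : ρ.toHomUnits.ker = ((QuotientGroup.mk' (Cfsg.pCore p G)).comp E.subtype).ker := by
      ext e
      rw [MonoidHom.mem_ker, MonoidHom.mem_ker, Units.ext_iff]
      exact (hρ e).trans (QuotientGroup.eq_one_iff _).symm
    rw [hk, Nat.card_congr (QuotientGroup.quotientKerEquivRange _).toEquiv]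
    rw [img, MonoidHom.range_eq_map, ← Subgroup.map_map, ← MonoidHom.range_eq_map, range_subtype]
  set S0 : Set (AddMonoid.End M) := Set.range ρ
  have hS0 : Nat.card S0 = 8 := by
    rw [← hcardρ]
    refine Nat.card_congr (Equiv.ofBijective (fun r : ρ.toHomUnits.range => (⟨((r : (AddMonoid.End M)ˣ) : AddMonoid.End M), by
      obtain ⟨e, he⟩ := r.2
      exact ⟨e, congrArg Units.val he⟩⟩ : S0)) ⟨fun a b h => Subtype.ext (Units.ext (congrArg Subtype.val h)), ?_⟩).symm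
    rintro ⟨_, e, rfl⟩
    exact ⟨⟨_, e, rfl⟩, rfl⟩
  have hclass : ∀ r ∈ S0, r = 1 ∨ r = -1 ∨ r * r = -1 := by
    rintro _ ⟨e, rfl⟩
    by_cases h1 : (e : G) ∈ Cfsg.pCore p G
    · exact Or.inl ((hρ e).2 h1)
    by_cases h2 : (e : G) ^ 2 ∈ Cfsg.pCore p G
    · obtain ⟨g, hg, hg2, hge⟩ := hEsq e e.2 h1 h2
      refine Or.inr (Or.inl ?_)
      have h5 : ρ (e⁻¹ * ⟨g, hg⟩ ^ 2) = 1 := (hρ _).2 (by simpa using hge)
      have h6 : ρ (⟨g, hg⟩ ^ 2) = -1 := hneg _ (hEinv g hg hg2)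
      calc ρ e = ρ e * ρ (e⁻¹ * ⟨g, hg⟩ ^ 2) := by rw [h5, mul_one]
        _ = -1 := by rw [← map_mul, mul_inv_cancel_left, h6]
    · refine Or.inr (Or.inr ?_)
      rw [← map_mul, ← pow_two]
      exact hneg _ (hEinv e e.2 h2)
  set S1 : Set (AddMonoid.End M) := {A | A * A = -1}
  have hS1 : S1 ⊆ S0 := by
    have hsub : S0 ∩ S1 ⊆ S1 := Set.inter_subset_right
    have hle : S0 ⊆ (S0 ∩ S1) ∪ {1, -1} := by
      intro r hr
      rcases hclass r hr with h | h | h
      · exact Or.inr (Or.inl h)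
      · exact Or.inr (Or.inr h)
      · exact Or.inl ⟨hr, h⟩
    haveI : Finite (AddMonoid.End M) :=
      Finite.of_injective (fun f : AddMonoid.End M => (f : M → M)) DFunLike.coe_injective
    have h8 := (Set.ncard_le_ncard hle).trans (Set.ncard_union_le _ _)
    have h2 : ({1, -1} : Set (AddMonoid.End M)).ncard ≤ 2 :=
      (Set.ncard_insert_le _ _).trans (by rw [Set.ncard_singleton])
    have h6 : S1.ncard ≤ 6 := card_sq_neg_one hM h3
    rw [← Nat.card_coe_set_eq S0, hS0] at h8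
    exact (Set.eq_of_subset_of_ncard_le hsub (by omega)).symm.subset.trans Set.inter_subset_left
  intro f hf
  by_cases h1 : f ∈ Cfsg.pCore p G
  · exact ⟨1, one_mem _, mem_centralizer_iff.2 fun v hv => by
      rw [inv_one, one_mul]; exact (vG_comm (hE.vV hv) h1).symm⟩
  obtain ⟨e, he⟩ : R.act ⟨f, hN (hFN hf)⟩ ∈ S0 := by
    by_cases h2 : f ^ 2 ∈ Cfsg.pCore p G
    · obtain ⟨g, hg, hg2, hgf⟩ := hFsq f hf h1 h2
      refine ⟨⟨e₁, he₁⟩ ^ 2, ?_⟩
      have h5 : R.act ⟨f⁻¹ * g ^ 2, hN (mul_mem (inv_mem (hFN hf)) (pow_mem (hFN hg) 2))⟩ = 1 :=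
        (hcent _).2 (mem_centralizer_iff.2 fun v hv => (vG_comm (hE.vV hv) hgf).symm)
      have h6 : R.act ⟨g ^ 2, hN (pow_mem (hFN hg) 2)⟩ = -1 := hneg _ fun v hv => hFinv g hg hg2 v (hU ▸ hv)
      have h7 : ρ (⟨e₁, he₁⟩ ^ 2) = -1 := hneg _ (hEinv e₁ he₁ he₁2)
      rw [h7, ← h6]
      calc R.act ⟨g ^ 2, _⟩ = R.act (⟨f, hN (hFN hf)⟩ * ⟨f⁻¹ * g ^ 2, hN (mul_mem (inv_mem (hFN hf)) (pow_mem (hFN hg) 2))⟩) :=
            congrArg R.act (Subtype.ext (by simp))
        _ = _ := by rw [map_mul, h5, mul_one]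
    · refine hS1 ?_
      show R.act _ * R.act _ = -1
      rw [← map_mul]
      exact hneg _ fun v hv => by simpa [pow_two] using hFinv f hf h2 v (hU ▸ hv)
  refine ⟨e, e.2, (hcent (mul_mem (inv_mem (hN (le_normalizer e.2))) (hN (hFN hf)))).1 ?_⟩
  calc R.act ⟨(e : G)⁻¹ * f, _⟩ = R.act (⟨(e : G), hN (le_normalizer e.2)⟩⁻¹ * ⟨f, hN (hFN hf)⟩) := rfl
    _ = R.act (⟨(e : G), hN (le_normalizer e.2)⟩⁻¹ * ⟨(e : G), hN (le_normalizer e.2)⟩) := by
      rw [map_mul, map_mul]; exact congrArg _ he.symm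
    _ = 1 := by rw [inv_mul_cancel, map_one]

/-- The upper section of an exceptional block lies in the other block. -/
theorem qE_le_of_exc (hE : SBlock p E) (hF : SBlock p F) (hE8 : p = 3 ∧ Nat.card ↥(img p E) = 8)
    (hF8 : p = 3 ∧ Nat.card ↥(img p F) = 8) (hFN : F ≤ normalizer (E : Set G)) (hEN : E ≤ normalizer (F : Set G))
    (hU : vE p E = vE p F) (hex : qE p E ≠ wE p E) : qE p E ≤ qE p F ∧ qE p F ≠ wE p F := by
  have hm := exists_match hF hE hF8 hE8 hEN hU.symm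
  set I := (qE p E ⊓ qE p F) ⊔ wE p E
  have hIE : E ≤ normalizer (I : Set G) := CfsgLib.Coprime.sup_le_normalizer
    (CfsgLib.Coprime.inf_le_normalizer (fun x hx => qE_norm (le_normalizer hx)) fun x hx => qE_norm (hEN hx))
    fun x hx => wE_norm (le_normalizer hx)
  have hs := hE.secQ hex
  rcases (hE.exc hex).2.1 I (sup_le inf_le_left (wE_le E)) le_sup_right hIE with hI | hI
  · exfalso
    obtain ⟨z, hz, hzn⟩ := (hE.nfix fun h3 => by have := h3.1; omega).2 hex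
    obtain ⟨M, iM, ⟨R⟩⟩ := exists_secRep hs.toIsAbSec
    haveI := R.finite
    refine hzn (triv_of_le_closure (K := ⁅E, E⁆) hs.toIsAbSec (S := {g | ∃ a ∈ E, ∃ b ∈ E, ⁅a, b⁆ = g})
      (by rw [Subgroup.commutator_def]) ?_ ?_ z hz)
    · rintro _ ⟨a, ha, b, hb, rfl⟩
      exact hE.norm_secQ (mul_mem (mul_mem (mul_mem (le_normalizer ha) (le_normalizer hb))
        (inv_mem (le_normalizer ha))) (inv_mem (le_normalizer hb)))
    rintro _ ⟨a, ha, b, hb, rfl⟩
    obtain ⟨x, hx, hxc⟩ := hm a ha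
    obtain ⟨y, hy, hyc⟩ := hm b hb
    rw [← hU] at hxc hyc
    have htriv : Triv (qE p E) (wE p E) ⁅x, y⁆ := by
      intro u hu
      have hxy : ⁅x, y⁆ ∈ F := mul_mem (mul_mem (mul_mem hx hy) (inv_mem hx)) (inv_mem hy)
      refine hI.le (mem_sup_left (mem_inf.2 ⟨SecRep.comm_mem ⟨_, hE.norm_secQ (hFN hxy)⟩ hu, ?_, ?_⟩))
      · rw [commutatorElement_def, show ⁅x, y⁆ * u * ⁅x, y⁆⁻¹ * u⁻¹ = ⁅x, y⁆ * (u * ⁅x, y⁆⁻¹ * u⁻¹) by group]
        exact mul_mem hxy ((mem_normalizer_iff.1 (hEN (qE_le E hu)) _).1 (inv_mem hxy))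
      · exact qE_le_core E (SecRep.comm_mem ⟨_, hE.norm_secQ (hFN hxy)⟩ hu)
    set a' : ↥(secN (qE p E) (wE p E)) := ⟨a, hs.nE ha⟩
    set b' : ↥(secN (qE p E) (wE p E)) := ⟨b, hs.nE hb⟩
    set x' : ↥(secN (qE p E) (wE p E)) := ⟨x, hE.norm_secQ (hFN hx)⟩
    set y' : ↥(secN (qE p E) (wE p E)) := ⟨y, hE.norm_secQ (hFN hy)⟩
    have hcm : ∀ {a x : G} (ha : a ∈ E) (hx : x ∈ F), x⁻¹ * a ∈ centralizer (vE p E : Set G) →
        R.act (⟨a, hs.nE ha⟩⁻¹ * ⟨x, hE.norm_secQ (hFN hx)⟩) ∈ commutant R E := by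
      intro a x ha hx hc
      refine hs.act_mem_commutant R _ fun e he => hE.triv_qE_Q (mul_inv_mem_comm hE
        (mul_mem (inv_mem (le_normalizer ha)) (hFN hx)) ?_ e he)
      have h9 := inv_mem hc
      rwa [mul_inv_rev, inv_inv] at h9
    have hC := hcm ha hx hxc
    have hD := hcm hb hy hyc
    set g := R.act.toHomUnits with hg
    have hgv : ∀ z, (g z : AddMonoid.End M) = R.act z := fun _ => rfl
    set C := g (a'⁻¹ * x') with hCdef
    set D := g (b'⁻¹ * y') with hDdef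
    have hCD : Commute C D := Units.ext (by
      rw [Units.val_mul, Units.val_mul, hCdef, hDdef, hgv, hgv]; exact hs.commutant_comm R hC hD)
    have hCE : ∀ e : ↥(secN (qE p E) (wE p E)), (e : G) ∈ E → Commute C (g e) := fun e he => Units.ext (by
      rw [Units.val_mul, Units.val_mul, hCdef, hgv, hgv]; exact (mem_commutant.1 hC e he).symm)
    have hDE : ∀ e : ↥(secN (qE p E) (wE p E)), (e : G) ∈ E → Commute D (g e) := fun e he => Units.ext (by
      rw [Units.val_mul, Units.val_mul, hDdef, hgv, hgv]; exact (mem_commutant.1 hD e he).symm)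
    have hx'' : g x' = g a' * C := by rw [hCdef, ← map_mul, mul_inv_cancel_left]
    have hy'' : g y' = g b' * D := by rw [hDdef, ← map_mul, mul_inv_cancel_left]
    have e1 : g ⁅x', y'⁆ = g ⁅a', b'⁆ := by
      rw [map_commutatorElement, map_commutatorElement, hx'', hy'', commutatorElement_def, commutatorElement_def,
        mul_inv_rev, mul_inv_rev]
      have c1 : C * g b' = g b' * C := hCE b' hb
      have c2 : D * (g a')⁻¹ = (g a')⁻¹ * D := (hDE a' ha).inv_right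
      calc g a' * C * (g b' * D) * (C⁻¹ * (g a')⁻¹) * (D⁻¹ * (g b')⁻¹)
          = g a' * (C * g b') * (D * C⁻¹) * (g a')⁻¹ * (D⁻¹ * (g b')⁻¹) := by group
        _ = g a' * g b' * (C * (D * C⁻¹)) * (g a')⁻¹ * (D⁻¹ * (g b')⁻¹) := by rw [c1]; group
        _ = g a' * g b' * (D * (g a')⁻¹) * (D⁻¹ * (g b')⁻¹) := by rw [← mul_assoc C D, hCD.eq]; group
        _ = g a' * g b' * (g a')⁻¹ * (g b')⁻¹ := by rw [c2]; group
    have h1 : R.act ⁅x', y'⁆ = 1 := (R.triv_iff ⁅x', y'⁆).1 htriv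
    exact (R.triv_iff ⁅a', b'⁆).2 (by rw [← h1, ← hgv, ← hgv, e1])
  · have hz : zE p E ≤ ⁅qE p F, qE p F⁆ := by
      rw [← (hE.exc hex).2.2.1, commutator_le]
      intro a ha b hb
      have hn : wE p E ≤ normalizer ((qE p E ⊓ qE p F : Subgroup G) : Set G) := fun w hw =>
        CfsgLib.Coprime.inf_le_normalizer (A := zpowers w) (zpowers_le.2 (qE_norm (le_normalizer (wE_le_E E hw))))
          (zpowers_le.2 (qE_norm (hEN (wE_le_E E hw)))) (mem_zpowers _)
      obtain ⟨a₁, ha₁, wa, hwa, rfl⟩ := CfsgLib.Coprime.mem_sup_exists hn (hI.ge ha)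
      obtain ⟨b₁, hb₁, wb, hwb, rfl⟩ := CfsgLib.Coprime.mem_sup_exists hn (hI.ge hb)
      rw [wE_comm hwa ha₁.1, wE_comm hwb hb₁.1,
        comm_congr (fun w hw q hq => wE_comm hw hq) ha₁.1 hb₁.1 hwa hwb (wE_le E)]
      exact commutator_mem_commutator ha₁.2 hb₁.2
    have hexF : qE p F ≠ wE p F := fun hq => (hE.exc hex).2.2.2 (le_bot_iff.1 (hz.trans (commutator_le.2
      fun a ha b hb => mem_bot.2 (commutatorElement_eq_one_iff_mul_comm.2 (wE_comm (hq ▸ hb) ha)))))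
    refine ⟨?_, hexF⟩
    rw [← hI]
    refine sup_le inf_le_right ?_
    rw [← hE.vz, hU]
    exact sup_le ((vE_le F).trans (wE_le F))
      (hz.trans ((hF.exc hexF).2.2.1.le.trans ((zE_le F).trans (wE_le F))))

/-- Mutually normalising `Q₈`-blocks commute modulo `O_p(G)` or are equal. -/
theorem eight_eight (hG : centralizer (Cfsg.pCore p G : Set G) ≤ Cfsg.pCore p G) (hE : SBlock p E) (hF : SBlock p F)
    (hE8 : p = 3 ∧ Nat.card ↥(img p E) = 8) (hF8 : p = 3 ∧ Nat.card ↥(img p F) = 8)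
    (hFN : F ≤ normalizer (E : Set G)) (hEN : E ≤ normalizer (F : Set G))
    (hne : ¬ ⁅E, F⁆ ≤ Cfsg.pCore p G) : F ≤ E := by
  have h3 : p = 3 := hE8.1
  have hU := module_eq hE hF (Or.inr hE8) (Or.inr hF8) hFN hEN hne
  have hmatch := exists_match hE hF hE8 hF8 hFN hU
  have himgR : ∀ {D : Subgroup G}, SBlock p D → Nat.card ↥(img p D) = 8 → D ≤ twoR p G := by
    intro D hD h8 x hx
    haveI : Fact (Nat.Prime 2) := ⟨Nat.prime_two⟩
    exact CfsgLib.Coprime.le_pCore_of_isSubnormal (hD.sn.map (QuotientGroup.mk'_surjective _))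
      (IsPGroup.of_card (n := 3) (by rw [show D.map (QuotientGroup.mk' (Cfsg.pCore p G)) = img p D from rfl, h8]; norm_num))
      (mem_map_of_mem _ hx)
  refine hF.le_of_le_sup hE fun f hf => ?_
  obtain ⟨e, he, hc⟩ := hmatch f hf
  set c := e⁻¹ * f with hcdef
  suffices hcQ : c ∈ Cfsg.pCore p G by
    rw [← mul_inv_cancel_left e f]
    exact mul_mem (mem_sup_left he) (mem_sup_right hcQ)
  have hcN : c ∈ normalizer (E : Set G) := mul_mem (inv_mem (le_normalizer he)) (hFN hf)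
  have hcR : c ∈ twoR p G := mul_mem (inv_mem (himgR hE hE8.2 he)) (himgR hF hF8.2 hf)
  have hcE := mul_inv_mem_comm hE hcN hc
  have hcop : ∀ k : ℕ, (2 ^ k).Coprime p := fun k => by
    rw [h3]; exact Nat.Coprime.pow_left k (by norm_num)
  obtain ⟨k, hk⟩ := exists_pow_mem_of_twoR hcR
  have hQc : ∀ q ∈ Cfsg.pCore p G, ∀ P : Subgroup G, qE p E ≤ P → qE p F ≤ P → e ∈ normalizer (P : Set G) →
      ⁅c, q⁆ ∈ P := by
    intro q hq P h1 h2 h4
    rw [hcdef, show ⁅e⁻¹ * f, q⁆ = e⁻¹ * ⁅f, q⁆ * e * ⁅e⁻¹, q⁆ by simp only [commutatorElement_def]; group]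
    refine mul_mem ((mem_normalizer_iff''.1 h4 _).1 (h2 ?_)) (h1 ?_)
    · rw [← commutatorElement_inv q f]
      exact inv_mem (commutator_core_le hF.qn (commutator_mem_commutator hq hf))
    · rw [← commutatorElement_inv q e⁻¹]
      exact inv_mem (commutator_core_le hE.qn (commutator_mem_commutator hq (inv_mem he)))
  by_cases hex : qE p E = wE p E
  · have hFx : qE p F = wE p F := by
      by_contra h
      exact (qE_le_of_exc hF hE hF8 hE8 hEN hFN hU.symm h).2 hex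
    have e1 := hE.vE_eq_wE_of_eq hex
    have e2 := hF.vE_eq_wE_of_eq hFx
    refine mem_core_of_chain hG (qE_le_core E) (hcop k) hk (e1 ▸ hc) fun q hq =>
      hQc q hq _ le_rfl (by rw [← e1, hU, e2]) (qE_norm (le_normalizer he))
  -- the exceptional case
  obtain ⟨hle, hexF⟩ := qE_le_of_exc hE hF hE8 hF8 hFN hEN hU hex
  have hP : qE p E = qE p F := le_antisymm hle (qE_le_of_exc hF hE hF8 hE8 hEN hFN hU.symm hexF).1
  have hQP : ∀ q ∈ Cfsg.pCore p G, ⁅c, q⁆ ∈ qE p E := fun q hq =>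
    hQc q hq _ le_rfl hP.ge (qE_norm (le_normalizer he))
  have hsX := hE.secQ hex
  have hsP : IsAbSec (qE p E) (zE p E) := ⟨(zE_le E).trans (wE_le E), (hE.exc hex).2.2.1.le⟩
  obtain ⟨-, -, -, hdata⟩ := hE.eight_data hE8
  obtain ⟨hcard, t, htN, htp, htquad⟩ := hdata hex
  have hzc : ∀ z ∈ zE p E, ∀ q ∈ qE p E, q * z = z * q := fun z hz q hq => wE_comm (zE_le E hz) hq
  have hW : ∀ {x : G}, x ∈ centralizer (vE p E : Set G) → (∀ z ∈ zE p E, x * z * x⁻¹ = z) →
      x ∈ centralizer (wE p E : Set G) := by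
    intro x hx hz
    have hle : wE p E ≤ centralizer ({x} : Set G) := by
      rw [← hE.vz]
      refine sup_le (fun v hv => mem_centralizer_iff.2 fun y hy => ?_) fun v hv => mem_centralizer_iff.2 fun y hy => ?_
      · rw [Set.mem_singleton_iff.1 hy]; exact (mem_centralizer_iff.1 hx v hv).symm
      · rw [Set.mem_singleton_iff.1 hy]; exact mul_inv_eq_iff_eq_mul.1 (hz v hv)
    exact mem_centralizer_iff.2 fun w hw => (mem_centralizer_iff.1 (hle hw) x rfl).symm
  rcases hsX.triv_or_free (hE.norm_secQ hcN) (fun x hx => hE.triv_qE_Q (hcE x hx)) with htriv | hfree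
  · have hz : ∀ z ∈ zE p E, c * z * c⁻¹ = z := by
      have hle : zE p E ≤ centralizer ({c} : Set G) := by
        rw [← (hE.exc hex).2.2.1, commutator_le]
        intro a ha b hb
        refine mem_centralizer_iff.2 fun y hy => ?_
        obtain rfl := Set.mem_singleton_iff.1 hy
        refine mul_inv_eq_iff_eq_mul.1 ?_
        calc c * ⁅a, b⁆ * c⁻¹ = ⁅⁅c, a⁆ * a, ⁅c, b⁆ * b⁆ := by simp only [commutatorElement_def]; group
          _ = ⁅a, b⁆ := comm_congr (fun w hw q hq => wE_comm hw hq) ha hb (htriv a ha) (htriv b hb) (wE_le E)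
      exact fun z hz => mul_inv_eq_iff_eq_mul.2 (mem_centralizer_iff.1 (hle hz) c rfl)
    exact mem_core_two_step hG (wE_le E) (qE_le_core E) (hcop k) hk (hW hc hz) (qE_norm hcN) htriv hQP
  -- `c` inverts the upper section
  exfalso
  obtain ⟨M, iM, ⟨R⟩⟩ := exists_secRep hsX.toIsAbSec
  haveI := R.finite
  have hM : Nat.card M = 9 := by
    have h1 := R.card hsX.le
    rw [hcard] at h1
    exact (Nat.eq_of_mul_eq_mul_right Nat.card_pos h1).symm
  have hunit : ∀ f ∈ commutant R E, ∀ m₀ : M, m₀ ≠ 0 → f m₀ = 0 ∨ f m₀ = m₀ ∨ f m₀ = -m₀ := by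
    intro f hf m₀ hm₀
    let ev : ↥(commutant R E) →+ M := AddMonoidHom.mk' (fun k => (k : AddMonoid.End M) m₀) fun _ _ => rfl
    have hinj : Function.Injective ev := (injective_iff_map_eq_zero _).2 fun k hk => by
      by_contra hk0
      refine hm₀ (hsX.injective R k.2 (fun h => hk0 (Subtype.ext h)) ?_)
      rw [map_zero]; exact hk
    have hns : ev.range ≠ ⊤ := by
      intro htop
      obtain ⟨z, hz, hzn⟩ := (hE.nfix fun h => by have := h.1; omega).2 hex
      refine hzn (triv_of_le_closure (K := ⁅E, E⁆) hsX.toIsAbSec (S := {g | ∃ a ∈ E, ∃ b ∈ E, ⁅a, b⁆ = g})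
        (by rw [Subgroup.commutator_def]) ?_ ?_ z hz)
      · rintro _ ⟨a, ha, b, hb, rfl⟩
        exact hE.norm_secQ (mul_mem (mul_mem (mul_mem (le_normalizer ha) (le_normalizer hb))
          (inv_mem (le_normalizer ha))) (inv_mem (le_normalizer hb)))
      rintro _ ⟨a, ha, b, hb, rfl⟩
      have hin : ∀ x : ↥(secN (qE p E) (wE p E)), (x : G) ∈ E → R.act x ∈ commutant R E := by
        intro x hx
        obtain ⟨k, hk⟩ : R.act x m₀ ∈ ev.range := htop ▸ AddSubgroup.mem_top _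
        have : R.act x = (k : AddMonoid.End M) := AddMonoidHom.ext fun m => by
          obtain ⟨j, rfl⟩ : m ∈ ev.range := htop ▸ AddSubgroup.mem_top m
          show R.act x ((j : AddMonoid.End M) m₀) = (k : AddMonoid.End M) ((j : AddMonoid.End M) m₀)
          have h1 := congrArg (fun g : AddMonoid.End M => g m₀) (mem_commutant.1 j.2 x hx)
          have h2 := congrArg (fun g : AddMonoid.End M => g m₀) (hsX.commutant_comm R k.2 j.2)
          simp only [AddMonoid.End.coe_mul, Function.comp_apply] at h1 h2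
          rw [h1, h2]
          exact congrArg _ hk.symm
        exact this ▸ k.2
      set a' : ↥(secN (qE p E) (wE p E)) := ⟨a, hsX.nE ha⟩
      set b' : ↥(secN (qE p E) (wE p E)) := ⟨b, hsX.nE hb⟩
      refine (R.triv_iff ⁅a', b'⁆).2 ?_
      rw [commutatorElement_def, map_mul, map_mul, map_mul, hsX.commutant_comm R (hin a' ha) (hin b' hb),
        ← map_mul, ← map_mul, ← map_mul, mul_inv_cancel_right, mul_inv_cancel, map_one]
    have hmem : m₀ ∈ ev.range := ⟨1, rfl⟩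
    have hc3 : Nat.card ev.range = 3 := by
      have h1 : Nat.card ev.range ∣ 3 ^ 2 := by
        have := AddSubgroup.card_addSubgroup_dvd_card ev.range
        rwa [hM] at this
      obtain ⟨j, hj, hj'⟩ := (Nat.dvd_prime_pow Nat.prime_three).1 h1
      interval_cases j
      · exact absurd (congrArg Subtype.val ((Nat.card_eq_one_iff_unique.1 hj').1.elim
          (⟨m₀, hmem⟩ : ev.range) 0)) hm₀
      · simpa using hj'
      · exact absurd (AddSubgroup.eq_top_of_card_eq _ (by rw [hj', hM]; norm_num)) hns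
    haveI : Fact (Nat.Prime 3) := ⟨Nat.prime_three⟩
    obtain ⟨n, hn⟩ := mem_zmultiples_of_prime_card hc3 (g := (⟨m₀, hmem⟩ : ev.range))
      (fun h => hm₀ (congrArg Subtype.val h)) (g' := ⟨f m₀, ⟨⟨f, hf⟩, rfl⟩⟩)
    have hn' : n • m₀ = f m₀ := congrArg Subtype.val hn
    have h3m : (3 : ℤ) • m₀ = 0 := by
      have h9 : addOrderOf (⟨m₀, hmem⟩ : ev.range) ∣ 3 := hc3 ▸ addOrderOf_dvd_natCard _
      have h10 := addOrderOf_dvd_iff_nsmul_eq_zero.1 h9
      have h11 : (3 : ℕ) • m₀ = 0 := congrArg Subtype.val h10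
      rw [← h11]; exact natCast_zsmul _ 3
    rw [← hn', show n = n % 3 + (n / 3) * 3 by omega, add_zsmul, mul_zsmul, h3m, zsmul_zero, add_zero]
    have h0 := Int.emod_nonneg n (show (3 : ℤ) ≠ 0 by norm_num)
    have h2 := Int.emod_lt_of_pos n (show (0 : ℤ) < 3 by norm_num)
    interval_cases hr : n % 3
    · exact Or.inl (zero_zsmul _)
    · exact Or.inr (Or.inl (one_zsmul _))
    · refine Or.inr (Or.inr ?_)
      rw [eq_neg_iff_add_eq_zero, ← h3m, show (3 : ℤ) = 2 + 1 from rfl, add_zsmul, one_zsmul]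
  have hcinv : ∀ a ∈ qE p E, c * a * c⁻¹ * a ∈ wE p E := by
    intro a ha
    set c' : ↥(secN (qE p E) (wE p E)) := ⟨c, hE.norm_secQ hcN⟩
    have hC := hsX.act_mem_commutant R c' fun x hx => hE.triv_qE_Q (hcE x hx)
    refine (R.pr_eq_zero _ (mul_mem (conj_mem_of_secN c'.2 ha) ha)).1 ?_
    rw [R.pr_mul _ (conj_mem_of_secN c'.2 ha) _ ha, R.pr_act c' a ha]
    by_cases ha0 : R.pr a = 0
    · rw [ha0, map_zero, add_zero]
    rcases hunit _ hC _ ha0 with h | h | h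
    · refine absurd ?_ ha0
      have h5 := congrArg (R.act c'⁻¹) h
      rw [← Function.comp_apply (f := R.act c'⁻¹) (g := R.act c'), ← AddMonoid.End.coe_mul, ← map_mul, inv_mul_cancel,
        map_one, map_zero] at h5
      exact h5
    · exfalso
      refine ha0 ((R.pr_eq_zero a ha).2 (hfree a ha ?_))
      refine (R.pr_eq_zero _ (SecRep.comm_mem c' ha)).1 ?_
      rw [R.pr_comm c' ha, h, sub_self]
    · rw [h, neg_add_cancel]
  have hzfix : ∀ z ∈ zE p E, c * z * c⁻¹ = z := by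
    have hle : zE p E ≤ centralizer ({c} : Set G) := by
      rw [← (hE.exc hex).2.2.1, commutator_le]
      intro a ha b hb
      refine mem_centralizer_iff.2 fun y hy => ?_
      obtain rfl := Set.mem_singleton_iff.1 hy
      refine mul_inv_eq_iff_eq_mul.1 ?_
      have hz : ⁅a, b⁆ ∈ zE p E := (hE.exc hex).2.2.1.le (commutator_mem_commutator ha hb)
      calc c * ⁅a, b⁆ * c⁻¹ = ⁅(c * a * c⁻¹ * a) * a⁻¹, (c * b * c⁻¹ * b) * b⁻¹⁆ := by
            simp only [commutatorElement_def]; group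
        _ = ⁅a⁻¹, b⁻¹⁆ := comm_congr (fun w hw q hq => wE_comm hw hq) (inv_mem ha) (inv_mem hb) (hcinv a ha)
            (hcinv b hb) (wE_le E)
        _ = (b * a)⁻¹ * (⁅a, b⁆ * (b * a)) := by simp only [commutatorElement_def]; group
        _ = ⁅a, b⁆ := by rw [← hzc _ hz (b * a) (mul_mem hb ha), inv_mul_cancel_left]
    exact fun z hz => mul_inv_eq_iff_eq_mul.2 (mem_centralizer_iff.1 (hle hz) c rfl)
  have hcW := hW hc hzfix
  -- `O_p(G)` is trivial on the upper section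
  have hQX : ∀ q ∈ Cfsg.pCore p G, Triv (qE p E) (wE p E) q := by
    intro q hq
    set q' : ↥(secN (qE p E) (wE p E)) := ⟨q, hE.norm_secQ (hE.qn hq)⟩
    have hC := hsX.act_mem_commutant R q' fun x hx =>
      hE.triv_qE_Q (commutator_core_le hE.qn (commutator_mem_commutator hq hx))
    obtain ⟨j, hj⟩ := CfsgLib.Coprime.pCore_isPGroup p (⟨q, hq⟩ : Cfsg.pCore p G)
    have hj' : q' ^ p ^ j = 1 := Subtype.ext (by
      have := congrArg Subtype.val hj
      simpa using this)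
    refine (R.triv_iff q').2 (AddMonoidHom.ext fun m => ?_)
    show R.act q' m = m
    by_cases hm : m = 0
    · rw [hm, map_zero]
    have hpow : ∀ i : ℕ, ((R.act q') ^ i) m = R.act (q' ^ i) m := fun i => by rw [map_pow]
    rcases hunit _ hC _ hm with h | h | h
    · refine absurd ?_ hm
      have h5 := congrArg (R.act q'⁻¹) h
      rw [← Function.comp_apply (f := R.act q'⁻¹) (g := R.act q'), ← AddMonoid.End.coe_mul, ← map_mul, inv_mul_cancel,
        map_one, map_zero] at h5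
      exact h5
    · exact h
    · have hodd : ∀ i : ℕ, ((R.act q') ^ (2 * i + 1)) m = -m := by
        intro i
        induction i with
        | zero => simpa using h
        | succ i ih =>
          rw [show 2 * (i + 1) + 1 = (2 * i + 1) + 1 + 1 by ring, pow_succ', pow_succ']
          simp only [AddMonoid.End.coe_mul, Function.comp_apply] at ih ⊢
          rw [ih, map_neg, h, neg_neg, h]
      obtain ⟨i, hi⟩ : Odd (p ^ j) := Odd.pow (by rw [h3]; decide)
      have h7 := hodd i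
      rw [← hi, hpow, hj', map_one] at h7
      rw [h]
      exact h7.symm
  obtain ⟨M₂, iM₂, ⟨R₂⟩⟩ := exists_secRep hsP
  haveI := R₂.finite
  have hNP : ∀ {x : G}, x ∈ normalizer (E : Set G) → x ∈ secN (qE p E) (zE p E) := fun hx =>
    ⟨qE_norm hx, zE_norm hx⟩
  set C := R₂.act ⟨c, hNP hcN⟩ with hCdef
  have hWpr : ∀ w ∈ wE p E, C (R₂.pr w) = R₂.pr w := fun w hw => by
    rw [hCdef, ← R₂.pr_act ⟨c, hNP hcN⟩ w (wE_le E hw)]
    exact congrArg R₂.pr (mul_inv_eq_iff_eq_mul.2 (mem_centralizer_iff.1 hcW w hw).symm)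
  have h3w : ∀ w ∈ wE p E, 3 • R₂.pr w = 0 := fun w hw => by
    have hp3 : w ^ 3 = 1 := by have := wE_pow hw; rwa [h3] at this
    have h4 := R₂.pr_one
    rw [← hp3, pow_succ, pow_two, R₂.pr_mul _ (mul_mem (wE_le E hw) (wE_le E hw)) _ (wE_le E hw),
      R₂.pr_mul _ (wE_le E hw) _ (wE_le E hw)] at h4
    rw [succ_nsmul, two_nsmul]
    exact h4
  have hCm : ∀ m : M₂, ∃ w ∈ wE p E, C m + m = R₂.pr w := fun m => by
    obtain ⟨a, ha, rfl⟩ := R₂.pr_surj m
    refine ⟨_, hcinv a ha, ?_⟩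
    rw [R₂.pr_mul _ (conj_mem_of_secN (hNP hcN) ha) _ ha, R₂.pr_act ⟨c, hNP hcN⟩ a ha]
  have hQ1 : ∀ q (hq : q ∈ Cfsg.pCore p G), R₂.act ⟨q, hNP (hE.qn hq)⟩ = 1 := by
    intro q hq
    set q' : ↥(secN (qE p E) (zE p E)) := ⟨q, hNP (hE.qn hq)⟩
    set c' : ↥(secN (qE p E) (zE p E)) := ⟨c, hNP hcN⟩
    have hcomm : R₂.act ⁅c', q'⁆ = 1 := (R₂.triv_iff ⁅c', q'⁆).1 fun a ha =>
      (hE.exc hex).2.2.1.le (commutator_mem_commutator (hQP q hq) ha)
    have hCQ : C * R₂.act q' = R₂.act q' * C := by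
      have : c' * q' = ⁅c', q'⁆ * (q' * c') := by rw [commutatorElement_def]; group
      rw [hCdef, ← map_mul, this, map_mul, hcomm, one_mul, map_mul]
    have hCQ' : ∀ m, C (R₂.act q' m) = R₂.act q' (C m) := fun m => congrArg (fun g : AddMonoid.End M₂ => g m) hCQ
    have hNw : ∀ w ∈ wE p E, R₂.act q' (R₂.pr w) = R₂.pr w := by
      intro w hw
      rw [← R₂.pr_act q' w (wE_le E hw)]
      refine (R₂.pr_eq_iff (conj_mem_of_secN q'.2 (wE_le E hw)) (wE_le E hw)).2 ?_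
      have hn : zE p E ≤ normalizer (vE p E : Set G) := fun z hz => vE_norm (le_normalizer (wE_le_E E (zE_le E hz)))
      obtain ⟨v, hv, z, hz, rfl⟩ := CfsgLib.Coprime.mem_sup_exists hn (hE.vz.ge hw)
      have hqv : q * v * q⁻¹ = v := mul_inv_eq_iff_eq_mul.2 (vG_comm (hE.vV hv) hq)
      have hz' : q * z * q⁻¹ * z⁻¹ ∈ zE p E :=
        mul_mem ((mem_normalizer_iff.1 (zE_norm (hE.qn hq)) z).1 hz) (inv_mem hz)
      have hcomm' := hzc _ hz' v (wE_le E (vE_le E hv))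
      have h9 : q * (v * z) * q⁻¹ * (v * z)⁻¹ = q * z * q⁻¹ * z⁻¹ := by
        calc q * (v * z) * q⁻¹ * (v * z)⁻¹ = (q * v * q⁻¹) * (q * z * q⁻¹ * z⁻¹) * v⁻¹ := by group
          _ = q * z * q⁻¹ * z⁻¹ := by rw [hqv, hcomm']; group
      show q * (v * z) * q⁻¹ * (v * z)⁻¹ ∈ zE p E
      rw [h9]
      exact hz'
    refine AddMonoidHom.ext fun m => ?_
    show R₂.act q' m = m
    obtain ⟨a, ha, rfl⟩ := R₂.pr_surj m
    have hin : ⁅q, a⁆ ∈ wE p E := hQX q hq a ha
    have hn : R₂.act q' (R₂.pr a) - R₂.pr a = R₂.pr ⁅q, a⁆ := (R₂.pr_comm q' ha).symm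
    obtain ⟨w, hw, hCw⟩ := hCm (R₂.pr a)
    have e1 := hWpr _ hin
    have e2 : C (R₂.act q' (R₂.pr a) - R₂.pr a) = -(R₂.act q' (R₂.pr a) - R₂.pr a) := by
      rw [map_sub, hCQ', show C (R₂.pr a) = R₂.pr w - R₂.pr a from eq_sub_of_add_eq hCw, map_sub, hNw w hw]
      abel
    rw [hn, e1, eq_neg_iff_add_eq_zero] at e2
    have h33 := h3w _ hin
    rw [succ_nsmul, two_nsmul, e2, zero_add] at h33
    rw [h33, sub_eq_zero] at hn
    exact hn
  -- `t` commutes with `c`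
  set T' : ↥(secN (qE p E) (zE p E)) := ⟨t, hNP htN⟩
  set T := R₂.act T' with hTdef
  set d := c⁻¹ * (t * c * t⁻¹) with hd
  have hdR : d ∈ twoR p G := mul_mem (inv_mem hcR) (twoR_conj t hcR)
  have hdN : d ∈ normalizer (E : Set G) := mul_mem (inv_mem hcN) (mul_mem (mul_mem htN hcN) (inv_mem htN))
  have hdW : d ∈ centralizer (wE p E : Set G) :=
    mul_mem (inv_mem hcW) ((mem_normalizer_iff.1 (CfsgLib.Coprime.normalizer_le_normalizer_centralizer _
      (wE_norm htN)) c).1 hcW)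
  have hdX : Triv (qE p E) (wE p E) d := by
    intro a ha
    set c' : ↥(secN (qE p E) (wE p E)) := ⟨c, hE.norm_secQ hcN⟩
    set t' : ↥(secN (qE p E) (wE p E)) := ⟨t, hE.norm_secQ htN⟩
    have hneg : R.act c' = -1 := AddMonoidHom.ext fun m => by
      obtain ⟨b, hb, rfl⟩ := R.pr_surj m
      have h5 := (R.pr_eq_zero _ (mul_mem (conj_mem_of_secN c'.2 hb) hb)).2 (hcinv b hb)
      rw [R.pr_mul _ (conj_mem_of_secN c'.2 hb) _ hb, R.pr_act c' b hb] at h5
      exact eq_neg_of_add_eq_zero_left h5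
    have hd' : R.act (c'⁻¹ * (t' * c' * t'⁻¹)) = 1 := by
      have hci : R.act c'⁻¹ = -1 := by
        calc R.act c'⁻¹ = R.act c'⁻¹ * ((-1) * (-1)) := by rw [neg_one_mul, neg_neg, mul_one]
          _ = R.act c'⁻¹ * R.act c' * (-1) := by rw [hneg, mul_assoc]
          _ = -1 := by rw [← map_mul, inv_mul_cancel, map_one, one_mul]
      rw [map_mul, map_mul, map_mul, hci, hneg]
      simp [← map_mul]
    exact (R.triv_iff (c'⁻¹ * (t' * c' * t'⁻¹))).2 hd' a ha
  have hdQP : ∀ q ∈ Cfsg.pCore p G, ⁅d, q⁆ ∈ qE p E := by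
    have hQn : ∀ g : G, g ∈ normalizer (Cfsg.pCore p G : Set G) := fun g => by
      rw [normalizer_eq_top_iff.2 (CfsgLib.Coprime.pCore_normal' p)]; exact mem_top _
    have hmem : c ∈ chainStab (Cfsg.pCore p G) (qE p E) := ⟨qE_norm hcN, hQn c, hQP⟩
    have hmem' : t * c * t⁻¹ ∈ chainStab (Cfsg.pCore p G) (qE p E) := by
      refine ⟨mul_mem (mul_mem (qE_norm htN) (qE_norm hcN)) (inv_mem (qE_norm htN)), hQn _, fun q hq => ?_⟩
      rw [show ⁅t * c * t⁻¹, q⁆ = t * ⁅c, t⁻¹ * q * t⁆ * t⁻¹ by simp only [commutatorElement_def]; group]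
      refine (mem_normalizer_iff.1 (qE_norm htN) _).1 (hQP _ ?_)
      have := (inferInstance : (Cfsg.pCore p G).Normal).conj_mem q hq t⁻¹
      simpa using this
    exact (mul_mem (inv_mem hmem) hmem').2.2
  obtain ⟨k', hk'⟩ := exists_pow_mem_of_twoR hdR
  have hdQ : d ∈ Cfsg.pCore p G :=
    mem_core_two_step hG (wE_le E) (qE_le_core E) (hcop k') hk' hdW (qE_norm hdN) hdX hdQP
  have hTC : ∀ m, T (C m) = C (T m) := by
    have h5 : T * C = C * T := by
      have h6 : T' * ⟨c, hNP hcN⟩ = ⟨c, hNP hcN⟩ * ⟨d, hNP hdN⟩ * T' := Subtype.ext (by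
        show t * c = c * d * t
        rw [hd]; group)
      rw [hTdef, hCdef, ← map_mul, h6, map_mul, map_mul, hQ1 d hdQ, mul_one]
    exact fun m => congrArg (fun g : AddMonoid.End M₂ => g m) h5
  -- `t` is quadratic
  have htp' : IsPGroup 3 ↥(zpowers t) := h3 ▸ htp
  have hcardW : Nat.card ↥(wE p E) = 9 * Nat.card ↥(zE p E) := by
    obtain ⟨M₃, iM₃, ⟨R₃⟩⟩ := exists_secRep hE.secW.toIsAbSec
    have h1 := R₃.card (zE_le E)
    have hb : Function.Bijective (fun v : ↥(vE p E) => R₃.pr v) := by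
      refine ⟨fun a b hab => ?_, fun m => ?_⟩
      · have h9 : (a : G) * (b : G)⁻¹ ∈ vE p E ⊓ zE p E :=
          mem_inf.2 ⟨mul_mem a.2 (inv_mem b.2), (R₃.pr_eq_iff (vE_le E a.2) (vE_le E b.2)).1 hab⟩
        rw [(hE.vE_data (Or.inr hE8)).2, mem_bot] at h9
        exact Subtype.ext (mul_inv_eq_one.1 h9)
      · obtain ⟨a, ha, rfl⟩ := R₃.pr_surj m
        have hn : zE p E ≤ normalizer (vE p E : Set G) := fun z hz => vE_norm (le_normalizer (wE_le_E E (zE_le E hz)))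
        obtain ⟨v, hv, z, hz, rfl⟩ := CfsgLib.Coprime.mem_sup_exists hn (hE.vz.ge ha)
        exact ⟨⟨v, hv⟩, by rw [R₃.pr_mul _ (vE_le E hv) _ (zE_le E hz), (R₃.pr_eq_zero z (zE_le E hz)).2 hz, add_zero]⟩
    rw [h1, ← Nat.card_eq_of_bijective _ hb, (hE.vE_data (Or.inr hE8)).1, h3]
    rfl
  have hNN : ∀ m, T (T m - m) - (T m - m) = 0 := by
    have hpr : ∀ a ∈ qE p E, T (T (R₂.pr a) - R₂.pr a) - (T (R₂.pr a) - R₂.pr a) = R₂.pr ⁅t, ⁅t, a⁆⁆ := by
      intro a ha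
      rw [hTdef, show t = (T' : G) from rfl, R₂.pr_comm T' (SecRep.comm_mem T' ha), R₂.pr_comm T' ha]
    have hw0 : ∀ w ∈ wE p E, T (T (R₂.pr w) - R₂.pr w) - (T (R₂.pr w) - R₂.pr w) = 0 := fun w hw => by
      rw [hpr w (wE_le E hw), R₂.pr_eq_zero _ (SecRep.comm_mem T' (SecRep.comm_mem T' (wE_le E hw)))]
      exact quad_of_card_nine hE.secW.toIsAbSec hcardW (hE.norm_secW htN) htp' hw
    intro m
    obtain ⟨w, hw, hmw⟩ := hCm m
    set s := m + R₂.pr w with hs
    have hCs : C s = -s := by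
      rw [hs, map_add, hWpr w hw, show C m = R₂.pr w - m from eq_sub_of_add_eq hmw]
      have h33 := h3w w hw
      rw [succ_nsmul, two_nsmul] at h33
      linear_combination (norm := abel) h33
    set n := T (T s - s) - (T s - s) with hn
    have hn0 : n = 0 := by
      have e1 : C n = -n := by
        rw [hn]
        simp only [map_sub, ← hTC, hCs, map_neg]
        abel
      obtain ⟨a, ha, has⟩ := R₂.pr_surj s
      have hw2 : ⁅t, ⁅t, a⁆⁆ ∈ wE p E := quad_of_card_nine hsX.toIsAbSec hcard (hE.norm_secQ htN) htp' ha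
      have e3 : n = R₂.pr ⁅t, ⁅t, a⁆⁆ := by rw [hn, ← has, hpr a ha]
      have h33 := h3w _ hw2
      rw [e3, hWpr _ hw2, eq_neg_iff_add_eq_zero] at e1
      rw [succ_nsmul, two_nsmul, e1, zero_add] at h33
      rw [e3, h33]
    have hm : m = s - R₂.pr w := by rw [hs, add_sub_cancel_right]
    have h0 := hw0 w hw
    rw [hn] at hn0
    simp only [map_sub] at hn0 h0
    rw [hm]
    simp only [map_sub]
    linear_combination (norm := abel) hn0 - h0
  apply htquad
  let L : Subgroup G :=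
    { carrier := {x | x ∈ qE p E ∧ T (R₂.pr x) = R₂.pr x}
      one_mem' := ⟨one_mem _, by rw [R₂.pr_one, map_zero]⟩
      mul_mem' := fun {x y} hx hy => ⟨mul_mem hx.1 hy.1, by rw [R₂.pr_mul _ hx.1 _ hy.1, map_add, hx.2, hy.2]⟩
      inv_mem' := fun {x} hx => ⟨inv_mem hx.1, by rw [R₂.pr_inv hx.1, map_neg, hx.2]⟩ }
  have hL : ⁅qE p E, zpowers t⁆ ≤ L := by
    refine commutator_le.2 fun u hu g hg => ?_
    obtain ⟨i, rfl⟩ := mem_powers_iff_mem_zpowers.2 hg
    rw [← commutatorElement_inv (t ^ i) u]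
    refine inv_mem ⟨SecRep.comm_mem (T' ^ i) hu, ?_⟩
    have hNp : ∀ m, T ((T ^ i) m - m) = (T ^ i) m - m := by
      intro m
      clear hg
      induction i with
      | zero => simp
      | succ i ih =>
        have hN1 := hNN ((T ^ i) m)
        rw [pow_succ', AddMonoid.End.coe_mul, Function.comp_apply]
        rw [map_sub] at ih ⊢
        rw [map_sub] at hN1
        linear_combination (norm := abel) hN1 + ih
    rw [show R₂.pr ⁅(t ^ i : G), u⁆ = R₂.act (T' ^ i) (R₂.pr u) - R₂.pr u from R₂.pr_comm (T' ^ i) hu, map_pow]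
    exact hNp _
  refine commutator_le.2 fun x hx g hg => ?_
  obtain ⟨i, rfl⟩ := mem_powers_iff_mem_zpowers.2 hg
  have hxL := hL hx
  rw [← commutatorElement_inv (t ^ i) x]
  refine inv_mem ((R₂.pr_eq_zero _ (SecRep.comm_mem (T' ^ i) hxL.1)).1 ?_)
  show R₂.pr ⁅((T' ^ i : ↥(secN (qE p E) (zE p E))) : G), x⁆ = 0
  rw [R₂.pr_comm (T' ^ i) hxL.1, map_pow, sub_eq_zero]
  clear hg
  induction i with
  | zero => simp
  | succ i ih => rw [pow_succ', AddMonoid.End.coe_mul, Function.comp_apply, ih]; exact hxL.2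

end SBlock

end CfsgLib.SubBlock
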