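import Cfsg.Agent.Lib.Char.SubBlock.Commute
import Cfsg.Agent.Lib.Char.SubBlock.Conj
import Cfsg.Agent.Lib.Coprime.Subnormal

/-!
# Small subnormal blocks normalise each other
-/

set_option autoImplicit false
set_option linter.unusedSectionVars false
set_option linter.style.haveILetI false

open Subgroup
open scoped commutatorElement

namespace CfsgLib.SubBlock

universe u
variable {G : Type u} [Group G] [Finite G] {p : ℕ} [hp : Fact p.Prime]

attribute [local instance] CfsgLib.Coprime.pCore_normal'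

/-- A block whose image modulo `O_p(G)` is `C₃` (`p = 2`) or `Q₈` (`p = 3`). -/
def IsSmall (p : ℕ) (E : Subgroup G) : Prop := IsThree p E ∨ (p = 3 ∧ Nat.card ↥(img p E) = 8)

theorem IsSmall.solvable {E : Subgroup G} (h : IsSmall p E) : Group.IsSolvable ↥(img p E) := by
  rcases h with ⟨-, hc⟩ | ⟨-, hc⟩
  · haveI : Fact (Nat.Prime 3) := ⟨Nat.prime_three⟩
    have : IsPGroup 3 ↥(img p E) := IsPGroup.of_card (n := 1) (by rw [hc]; norm_num)
    exact CfsgLib.Coprime.isSolvable_of_isNilpotent this.isNilpotent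
  · haveI : Fact (Nat.Prime 2) := ⟨Nat.prime_two⟩
    have : IsPGroup 2 ↥(img p E) := IsPGroup.of_card (n := 3) (by rw [hc]; norm_num)
    exact CfsgLib.Coprime.isSolvable_of_isNilpotent this.isNilpotent

theorem IsSmall.img_cjS {E : Subgroup G} (h : IsSmall p E) (g : G) : IsSmall p (cjS g E) := by
  have himg : Nat.card ↥(img p (cjS g E)) = Nat.card ↥(img p E) := by
    rw [SubBlock.img_cjS]
    exact (Nat.card_congr ((img p E).equivMapOfInjective _ (MulAut.conj _).injective).toEquiv).symm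
  rwa [IsSmall, IsThree, himg]

namespace SBlock

variable {E F : Subgroup G}

theorem vE_data (hb : SBlock p E) (hs : IsSmall p E) :
    Nat.card ↥(vE p E) = p ^ 2 ∧ vE p E ⊓ zE p E = ⊥ := by
  rcases hb.kind with hk | ⟨h3, -, hc, hz⟩ | ⟨h3, -, hc, hz, -⟩
  · exact absurd hs.solvable (CfsgLib.Coprime.not_isSolvable_of_isComponent hk)
  · exact ⟨by rw [hc, h3.1]; rfl, by rw [hz, inf_bot_eq]⟩
  · exact ⟨by rw [hc, h3]; rfl, hz⟩

theorem vE_fix (hb : SBlock p E) (hs : IsSmall p E) {v : G} (hv : v ∈ vE p E)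
    (h : ∀ e ∈ E, e * v = v * e) : v = 1 :=
  mem_bot.1 ((hb.vE_data hs).2 ▸ (⟨hv, vE_le E hv, mem_centralizer_iff.2 h⟩ : v ∈ vE p E ⊓ zE p E))

theorem vE_ne (hb : SBlock p E) (hs : IsSmall p E) : vE p E ≠ ⊥ := fun h => by
  have := (hb.vE_data hs).1
  rw [h, card_bot] at this
  exact (Nat.one_lt_pow two_ne_zero hp.out.one_lt).ne this

theorem irr_vE (hb : SBlock p E) (hs : IsSmall p E) {M : Subgroup G} (hM : M ≤ vE p E)
    (hE : E ≤ normalizer (M : Set G)) : M = ⊥ ∨ M = vE p E := by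
  rcases hb.irr (M ⊔ zE p E) (sup_le (hM.trans (vE_le E)) (zE_le E)) le_sup_right
      (CfsgLib.Coprime.sup_le_normalizer hE fun e he => zE_norm (le_normalizer he)) with h | h
  · refine Or.inl (le_bot_iff.1 ?_)
    rw [← (hb.vE_data hs).2]
    exact le_inf hM (le_sup_left.trans h.le)
  · refine Or.inr (le_antisymm hM fun v hv => ?_)
    have hn : zE p E ≤ normalizer (M : Set G) := fun z hz => by
      refine (centralizer_le_normalizer (M : Set G)) (mem_centralizer_iff.2 fun m hm => ?_)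
      exact wE_comm (zE_le E hz) (wE_le E (vE_le E (hM hm)))
    obtain ⟨m, hm, z, hz, rfl⟩ := CfsgLib.Coprime.mem_sup_exists hn (h.ge (vE_le E hv))
    have : z ∈ vE p E := by
      have := mul_mem (inv_mem (hM hm)) hv
      rwa [inv_mul_cancel_left] at this
    have hz1 : z ∈ vE p E ⊓ zE p E := mem_inf.2 ⟨this, hz⟩
    rw [(hb.vE_data hs).2, mem_bot] at hz1
    rw [hz1, mul_one]
    exact hm

/-- An element moving a block lies in `O_p(G)` up to squares. -/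
theorem sq_of_moving (hE : SBlock p E) (hF : SBlock p F) (hEs : IsSmall p E) (hFs : IsSmall p F)
    (hcom : ∀ g ∈ F, cjS g E ≠ E → ⁅E, cjS g E⁆ = ⊥) {f : G} (hf : f ∈ F) (hmove : cjS f E ≠ E) :
    f ^ 2 ∈ Cfsg.pCore p G := by
  set V := vE p E
  have hEconj : ∀ g, SBlock p (cjS g E) := fun g => hE.conj g
  have hc1 : ⁅E, cjS f E⁆ = ⊥ := hcom f hf hmove
  have hcommE : ∀ e ∈ E, ∀ b ∈ cjS f E, e * b = b * e := fun e he b hb =>
    CfsgLib.BaumannBlock.commute_of_commutator_eq_bot hc1 he hb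
  have hV1 : ∀ v ∈ V, f * v * f⁻¹ ∈ cjS f E := fun v hv => conj_mem_cjS (wE_le_E E (vE_le E hv))
  have hdisj : ∀ a ∈ V, ∀ b ∈ V, a = f * b * f⁻¹ → a = 1 := fun a ha b hb hab =>
    hE.vE_fix hEs ha fun e he => hab ▸ hcommE e he _ (hV1 b hb)
  have hVv : V ≤ vG G p := hE.vV
  have habel : ∀ a ∈ vG G p, ∀ b ∈ vG G p, a * b = b * a := fun a ha b hb => (vG_comm hb (vG_le ha))
  have hphi : ∀ v ∈ V, ⁅f, v⁆ ∈ vE p F := fun v hv => by
    rw [← commutatorElement_inv v f]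
    exact inv_mem (hF.commutator_vG (commutator_mem_commutator (hVv hv) hf))
  have hbij : Function.Bijective (fun v : ↥V => (⟨⁅f, (v : G)⁆, hphi v v.2⟩ : ↥(vE p F))) := by
    refine (Nat.bijective_iff_injective_and_card _).2 ⟨fun a b hab => ?_, ?_⟩
    · have h1 : f * (a : G) * f⁻¹ * (a : G)⁻¹ = f * (b : G) * f⁻¹ * (b : G)⁻¹ := congrArg Subtype.val hab
      have h2 : (b : G)⁻¹ * (a : G) = f * ((b : G)⁻¹ * (a : G)) * f⁻¹ := by
        calc (b : G)⁻¹ * (a : G) = (f * (b : G) * f⁻¹)⁻¹ * ((f * (b : G) * f⁻¹ * (b : G)⁻¹) * (a : G)) := by group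
          _ = (f * (b : G) * f⁻¹)⁻¹ * ((f * (a : G) * f⁻¹ * (a : G)⁻¹) * (a : G)) := by rw [h1]
          _ = f * ((b : G)⁻¹ * (a : G)) * f⁻¹ := by group
      exact Subtype.ext (inv_mul_eq_one.1 (hdisj _ (mul_mem (inv_mem b.2) a.2) _ (mul_mem (inv_mem b.2) a.2) h2)).symm
    · rw [(hE.vE_data hEs).1, (hF.vE_data hFs).1]
  -- the image of `V` under `f²`
  have hsplit : ∀ v ∈ V, ∃ a ∈ V, ∃ b ∈ V, f ^ 2 * v * (f ^ 2)⁻¹ = a * (f * b * f⁻¹) ∧ a = b⁻¹ * v := by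
    intro v hv
    have h1 : ⁅f, ⁅f, v⁆⁆ ∈ vE p F := by
      rw [← commutatorElement_inv _ f]
      exact inv_mem (hF.commutator_vG (commutator_mem_commutator (hF.vV (hphi v hv)) hf))
    obtain ⟨⟨v', hv'⟩, hv2⟩ := hbij.2 ⟨_, h1⟩
    have h2 : f * v' * f⁻¹ * v'⁻¹ = ⁅f, ⁅f, v⁆⁆ := congrArg Subtype.val hv2
    refine ⟨v'⁻¹ * v⁻¹, mul_mem (inv_mem hv') (inv_mem hv), v' * v * v, mul_mem (mul_mem hv' hv) hv, ?_, ?_⟩
    · have hA : f * (v' * v * v) * f⁻¹ ∈ vG G p := vG_conj f (hVv (mul_mem (mul_mem hv' hv) hv))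
      have hfv : f * v * f⁻¹ ∈ vG G p := vG_conj f (hVv hv)
      have hfv' : f * v' * f⁻¹ ∈ vG G p := vG_conj f (hVv hv')
      have h3 : f ^ 2 * v * (f ^ 2)⁻¹ = ⁅f, ⁅f, v⁆⁆ * ⁅f, v⁆ * (f * v * f⁻¹) := by
        simp only [commutatorElement_def, pow_two]; group
      rw [h3, ← h2, habel (v'⁻¹ * v⁻¹) (hVv (mul_mem (inv_mem hv') (inv_mem hv))) _ hA, commutatorElement_def]
      have e1 := habel (v'⁻¹) (hVv (inv_mem hv')) (f * v * f⁻¹) hfv
      have e2 := habel (v'⁻¹ * v⁻¹) (hVv (mul_mem (inv_mem hv') (inv_mem hv))) (f * v * f⁻¹) hfv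
      calc f * v' * f⁻¹ * v'⁻¹ * (f * v * f⁻¹ * v⁻¹) * (f * v * f⁻¹)
          = f * v' * f⁻¹ * (v'⁻¹ * (f * v * f⁻¹)) * v⁻¹ * (f * v * f⁻¹) := by group
        _ = f * v' * f⁻¹ * (f * v * f⁻¹) * ((v'⁻¹ * v⁻¹) * (f * v * f⁻¹)) := by rw [e1]; group
        _ = f * (v' * v * v) * f⁻¹ * (v'⁻¹ * v⁻¹) := by rw [e2]; group
    · have e3 := habel (v⁻¹) (hVv (inv_mem hv)) (v'⁻¹) (hVv (inv_mem hv'))
      calc v'⁻¹ * v⁻¹ = v⁻¹ * v'⁻¹ := e3.symm
        _ = (v' * v * v)⁻¹ * v := by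
          rw [mul_inv_rev, mul_inv_rev]
          calc v⁻¹ * v'⁻¹ = v⁻¹ * (v'⁻¹ * v⁻¹) * v := by group
            _ = v⁻¹ * (v⁻¹ * v'⁻¹) * v := by rw [e3]
  have hfix2 : cjS (f ^ 2) E = E := by
    by_contra h2
    have hc2 : ⁅E, cjS (f ^ 2) E⁆ = ⊥ := hcom _ (pow_mem hf 2) h2
    have hc12 : ∀ x ∈ cjS f E, ∀ y ∈ cjS (f ^ 2) E, x * y = y * x := by
      intro x hx y hy
      have hx' := mem_cjS.1 hx
      have hy' : f⁻¹ * y * f ∈ cjS f E := mem_cjS.2 (by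
        have := mem_cjS.1 hy
        simpa [pow_two, mul_assoc] using this)
      have := hcommE _ hx' _ hy'
      calc x * y = f * ((f⁻¹ * x * f) * (f⁻¹ * y * f)) * f⁻¹ := by group
        _ = f * ((f⁻¹ * y * f) * (f⁻¹ * x * f)) * f⁻¹ := by rw [this]
        _ = y * x := by group
    refine hE.vE_ne hEs ((eq_bot_iff_forall _).2 fun v hv => ?_)
    obtain ⟨a, ha, b, hb, he, -⟩ := hsplit v hv
    have hy : f ^ 2 * v * (f ^ 2)⁻¹ ∈ cjS (f ^ 2) E := conj_mem_cjS (wE_le_E E (vE_le E hv))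
    have ha1 : a = 1 := hE.vE_fix hEs ha fun e he' => by
      have h5 : e * (a * (f * b * f⁻¹)) = a * (f * b * f⁻¹) * e :=
        he ▸ CfsgLib.BaumannBlock.commute_of_commutator_eq_bot hc2 he' hy
      have h6 := hcommE e he' _ (hV1 b hb)
      calc e * a = e * (a * (f * b * f⁻¹)) * (f * b * f⁻¹)⁻¹ := by group
        _ = a * ((f * b * f⁻¹) * e) * (f * b * f⁻¹)⁻¹ := by rw [h5]; group
        _ = a * (e * (f * b * f⁻¹)) * (f * b * f⁻¹)⁻¹ := by rw [h6]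
        _ = a * e := by group
    rw [ha1, one_mul] at he
    have hb1 : f * b * f⁻¹ = 1 := (hE.conj f).vE_fix (hEs.img_cjS f)
      (by rw [vE_cjS]; exact conj_mem_cjS hb) fun x hx => he ▸ hc12 x hx _ hy
    rw [hb1] at he
    simpa using he
  have hfixV : ∀ v ∈ V, f ^ 2 * v * (f ^ 2)⁻¹ = v := by
    intro v hv
    obtain ⟨a, ha, b, hb, he, hab⟩ := hsplit v hv
    have hv2 : f ^ 2 * v * (f ^ 2)⁻¹ ∈ V := by
      have : cjS (f ^ 2) V = V := by rw [← vE_cjS, hfix2]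
      exact this ▸ conj_mem_cjS hv
    have hb1 : f * b * f⁻¹ = 1 := hdisj _ (by
      have h7 : f * b * f⁻¹ = a⁻¹ * (f ^ 2 * v * (f ^ 2)⁻¹) := by rw [he, inv_mul_cancel_left]
      rw [h7]; exact mul_mem (inv_mem ha) hv2) b hb rfl
    rw [he, hb1, mul_one, hab]
    have : b = 1 := by simpa using hb1
    rw [this, inv_one, one_mul]
  refine hF.ker (mem_inf.2 ⟨pow_mem hf 2, mem_centralizer_iff.2 fun w hw => ?_⟩)
  obtain ⟨⟨v, hv⟩, hv2⟩ := hbij.2 ⟨w, hw⟩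
  have h1 : f * v * f⁻¹ * v⁻¹ = w := congrArg Subtype.val hv2
  have h4 := hfixV v hv
  rw [← h1]
  have h5 : f ^ 2 * (f * v * f⁻¹ * v⁻¹) * (f ^ 2)⁻¹ = f * v * f⁻¹ * v⁻¹ := by
    calc f ^ 2 * (f * v * f⁻¹ * v⁻¹) * (f ^ 2)⁻¹
        = f * (f ^ 2 * v * (f ^ 2)⁻¹) * f⁻¹ * (f ^ 2 * v * (f ^ 2)⁻¹)⁻¹ := by rw [pow_two]; group
      _ = f * v * f⁻¹ * v⁻¹ := by rw [h4]
  exact (mul_inv_eq_iff_eq_mul.1 h5).symm

theorem pow_three_mem (hs : IsThree p F) {f : G} (hf : f ∈ F) : f ^ 3 ∈ Cfsg.pCore p G := by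
  refine (QuotientGroup.eq_one_iff _).1 ?_
  have := pow_card_eq_one' (x := (⟨_, mem_map_of_mem (QuotientGroup.mk' (Cfsg.pCore p G)) hf⟩ : ↥(img p F)))
  rw [hs.2] at this
  exact (map_pow (QuotientGroup.mk' (Cfsg.pCore p G)) f 3).trans (congrArg Subtype.val this)

theorem le_norm_of_com (hE : SBlock p E) (hF : SBlock p F) (hEs : IsSmall p E) (hFs : IsSmall p F)
    (hcom : ∀ g ∈ F, cjS g E ≠ E → ⁅E, cjS g E⁆ = ⊥) : F ≤ normalizer (E : Set G) := by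
  have hQ : ∀ x ∈ Cfsg.pCore p G, cjS x E = E := fun x hx => CfsgLib.Fusion.conjBy_eq_iff.2 (hE.qn hx)
  intro f hf
  refine CfsgLib.Fusion.conjBy_eq_iff.1 ?_
  show cjS f E = E
  by_contra hmove
  have hNof : ∀ {x}, cjS x E = E → x ∈ normalizer (E : Set G) := fun h => CfsgLib.Fusion.conjBy_eq_iff.1 h
  have hcjof : ∀ {x}, x ∈ normalizer (E : Set G) → cjS x E = E := fun h => CfsgLib.Fusion.conjBy_eq_iff.2 h
  have h2 := sq_of_moving hE hF hEs hFs hcom hf hmove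
  rcases hFs with h3 | ⟨h3, h8⟩
  · refine hmove (hQ f ?_)
    have := mul_mem (pow_three_mem h3 hf) (inv_mem h2)
    simpa [pow_succ, mul_assoc] using this
  · rcases hF.kind with hk | ⟨⟨h2', -⟩, -⟩ | ⟨-, -, -, -, -, hq, -⟩
    · exact absurd (IsSmall.solvable (Or.inr ⟨h3, h8⟩)) (CfsgLib.Coprime.not_isSolvable_of_isComponent hk)
    · omega
    · obtain ⟨g, hg, hg2, hgf⟩ := hq f hf (fun h => hmove (hQ f h)) h2
      refine hg2 (sq_of_moving hE hF hEs (Or.inr ⟨h3, h8⟩) hcom hg fun hgE => hmove (hcjof ?_))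
      have := mul_mem (pow_mem (hNof hgE) 2) (hE.qn (inv_mem hgf))
      simpa [mul_assoc] using this

end SBlock

end CfsgLib.SubBlock
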